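import Mathlib

/-!
# Coprime action on nilpotent groups and odd p-groups

Small tools for the local analysis of groups of odd order: stability lemmas, the trivial action
criterion through a self-centralizing fixed subgroup, and the theorem that a coprime action fixing
all elements of order `p` of an odd `p`-group is trivial.
-/

set_option autoImplicit false

namespace Cfsg.Agent.OddLocal43

open Subgroup
open scoped commutatorElement

variable {G : Type*} [Group G]

theorem pow_conj_of_commute {a h c : G} (hc : Commute a c) (hah : a * h * a⁻¹ = c * h) :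
    ∀ n : ℕ, a ^ n * h * (a ^ n)⁻¹ = c ^ n * h := by
  intro n
  induction n with
  | zero => simp
  | succ n ih =>
    have h1 : a * c ^ n * a⁻¹ = c ^ n := by
      rw [(hc.pow_right n).eq, mul_inv_cancel_right]
    calc a ^ (n + 1) * h * (a ^ (n + 1))⁻¹ = a * (a ^ n * h * (a ^ n)⁻¹) * a⁻¹ := by
          rw [pow_succ' a n]; group
      _ = (a * c ^ n * a⁻¹) * (a * h * a⁻¹) := by rw [ih]; group
      _ = c ^ (n + 1) * h := by rw [h1, hah, pow_succ]; group

/-- A coprime element stabilizing a chain of length two acts trivially. -/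
theorem commute_of_stab {a h c : G} (hc : Commute a c) (hah : a * h * a⁻¹ = c * h)
    (hcop : (orderOf a).Coprime (orderOf c)) : Commute a h := by
  have h1 := pow_conj_of_commute hc hah (orderOf a)
  rw [pow_orderOf_eq_one, one_mul, inv_one, mul_one, right_eq_mul] at h1
  have h2 : orderOf c = 1 :=
    Nat.eq_one_of_dvd_coprimes hcop (orderOf_dvd_of_pow_eq_one h1) dvd_rfl
  rw [orderOf_eq_one_iff] at h2
  rw [h2, one_mul, mul_inv_eq_iff_eq_mul] at hah
  exact hah

theorem le_centralizer_symm {H K : Subgroup G} (h : H ≤ centralizer (K : Set G)) :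
    K ≤ centralizer (H : Set G) :=
  Subgroup.le_centralizer_iff.mp h

theorem normalizes_commutator {A H K : Subgroup G} (hH : A ≤ normalizer (H : Set G))
    (hK : A ≤ normalizer (K : Set G)) : A ≤ normalizer ((⁅H, K⁆ : Subgroup G) : Set G) := by
  intro a ha
  rw [mem_normalizer_iff_map_conj_eq, map_commutator, mem_normalizer_iff_map_conj_eq.mp (hH ha),
    mem_normalizer_iff_map_conj_eq.mp (hK ha)]

theorem commutator_le_of_normalizes {A H : Subgroup G} (hA : A ≤ normalizer (H : Set G)) :
    ⁅H, A⁆ ≤ H :=
  le_normalizer_iff_commutator_le_left.mp hA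

/-- `[H, A, A] = 1` with coprime orders forces `[H, A] = 1`. -/
theorem le_centralizer_of_double_commutator {H A : Subgroup G}
    (hA : A ≤ normalizer (H : Set G)) (hcop : (Nat.card A).Coprime (Nat.card H))
    (h : ⁅H, A⁆ ≤ centralizer (A : Set G)) : H ≤ centralizer (A : Set G) := by
  intro x hx
  rw [mem_centralizer_iff]
  intro a ha
  have hc : ⁅a, x⁆ ∈ ⁅H, A⁆ := by
    rw [commutator_comm]; exact commutator_mem_commutator ha hx
  have h1 : Commute a ⁅a, x⁆ := mem_centralizer_iff.mp (h hc) a ha
  refine (commute_of_stab h1 (by rw [commutatorElement_def]; group) ?_).eq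
  refine Nat.Coprime.coprime_dvd_left (orderOf_dvd_natCard A ha) ?_
  exact Nat.Coprime.coprime_dvd_right (orderOf_dvd_natCard H (commutator_le_of_normalizes hA hc)) hcop

/-- A coprime action on a nilpotent group whose fixed points contain their centralizer is trivial. -/
theorem le_centralizer_of_self_centralizing [Finite G] {H A : Subgroup G} (hH : Group.IsNilpotent H)
    (hA : A ≤ normalizer (H : Set G)) (hcop : (Nat.card A).Coprime (Nat.card H))
    (hC : H ⊓ centralizer ((H ⊓ centralizer (A : Set G) : Subgroup G) : Set G) ≤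
      H ⊓ centralizer (A : Set G)) :
    H ≤ centralizer (A : Set G) := by
  set C := H ⊓ centralizer (A : Set G) with hCdef
  by_contra hne
  set N := H ⊓ normalizer (C : Set G) with hNdef
  have hCle : C ≤ H := inf_le_left
  have hAC : A ≤ centralizer (C : Set G) := le_centralizer_symm inf_le_right
  have hANC : A ≤ normalizer (C : Set G) := by
    intro a ha
    rw [mem_normalizer_iff]
    intro c
    have hcomm : ∀ d ∈ C, d * a = a * d := fun d hd => mem_centralizer_iff.mp (hAC ha) d hd
    constructor
    · intro hc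
      rw [← hcomm c hc, mul_inv_cancel_right]; exact hc
    · intro hc
      have := hcomm _ hc
      have e : a * c * a⁻¹ = c := by
        rw [show a * c * a⁻¹ * a = a * c by group] at this
        exact (mul_left_cancel this).symm
      rwa [e] at hc
  have hAN : A ≤ normalizer (N : Set G) := (le_inf hA
    (hANC.trans le_normalizer)).trans (inf_normalizer_le_normalizer_inf)
  have hNC : ⁅N, C⁆ ≤ C := le_normalizer_iff_commutator_le_right.mp inf_le_right
  have hCA : ⁅C, A⁆ = ⊥ := commutator_eq_bot_iff_le_centralizer.mpr inf_le_right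
  have h1 : ⁅⁅A, N⁆, C⁆ = ⊥ := by
    refine commutator_commutator_eq_bot_of_rotate ?_ ?_
    · exact le_bot_iff.mp ((commutator_mono hNC le_rfl).trans hCA.le)
    · rw [hCA, commutator_bot_left]
  have hNA : ⁅N, A⁆ ≤ N := commutator_le_of_normalizes hAN
  have h2 : ⁅N, A⁆ ≤ C := by
    refine le_trans (le_inf (hNA.trans inf_le_left) ?_) hC
    rw [commutator_comm]
    exact commutator_eq_bot_iff_le_centralizer.mp h1
  have h3 : N ≤ centralizer (A : Set G) :=
    le_centralizer_of_double_commutator hAN
      (hcop.coprime_dvd_right (card_dvd_of_le inf_le_left)) (h2.trans inf_le_right)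
  have hlt : C.subgroupOf H < ⊤ := by
    rw [lt_top_iff_ne_top, Ne, subgroupOf_eq_top]
    exact fun h => hne (h.trans inf_le_right)
  obtain ⟨x, hx1, hx2⟩ := SetLike.exists_of_lt
    ((Group.normalizerCondition_of_isNilpotent (G := H)) _ hlt)
  apply hx2
  rw [mem_subgroupOf]
  refine ⟨x.2, h3 ⟨x.2, ?_⟩⟩
  exact (subgroupOf_normalizer_eq hCle).ge hx1

/-- In a finite `p`-group every `p`-th power lies in the Frattini subgroup. -/
theorem pow_mem_frattini {P : Type*} [Group P] [Finite P] {p : ℕ} [Fact p.Prime]
    (hP : IsPGroup p P) (x : P) : x ^ p ∈ frattini P := by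
  have := hP.isNilpotent
  rw [frattini, Order.radical, mem_iInf]
  intro M
  rw [mem_iInf]
  intro hM
  have : M.Normal := Subgroup.NormalizerCondition.normal_of_coatom M
    Group.normalizerCondition_of_isNilpotent hM
  have hne : M ≠ ⊤ := hM.1
  obtain ⟨y, hy⟩ : ∃ y : P ⧸ M, y ≠ 1 := by
    obtain ⟨z, hz⟩ := SetLike.exists_of_lt (lt_top_iff_ne_top.mpr hne)
    exact ⟨z, fun h => hz.2 ((QuotientGroup.eq_one_iff z).mp h)⟩
  obtain ⟨y', hy'⟩ := exists_prime_orderOf_dvd_card' (G := P ⧸ M) p (by
    obtain ⟨k, hk⟩ := IsPGroup.iff_card.mp (hP.to_quotient M)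
    rcases k with _ | k
    · exfalso
      rw [pow_zero, Nat.card_eq_one_iff_unique] at hk
      exact hy (hk.1.elim _ _)
    · exact hk ▸ dvd_pow_self p k.succ_ne_zero)
  have htop : (zpowers y').comap (QuotientGroup.mk' M) = ⊤ := by
    rcases hM.le_iff.mp (show M ≤ (zpowers y').comap (QuotientGroup.mk' M) from fun m hm => by
      rw [mem_comap, QuotientGroup.mk'_apply, (QuotientGroup.eq_one_iff m).mpr hm]
      exact one_mem _) with h | h
    · exact h
    · exfalso
      obtain ⟨z, rfl⟩ := QuotientGroup.mk'_surjective M y'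
      have hz : z ∈ M := h ▸ mem_comap.mpr (mem_zpowers _)
      rw [QuotientGroup.mk'_apply, (QuotientGroup.eq_one_iff z).mpr hz, orderOf_one] at hy'
      exact (Fact.out : p.Prime).ne_one hy'.symm
  have hx : (x : P ⧸ M) ∈ zpowers y' := by
    have : x ∈ (zpowers y').comap (QuotientGroup.mk' M) := htop ▸ mem_top x
    exact this
  rw [← QuotientGroup.eq_one_iff, QuotientGroup.mk_pow, ← orderOf_dvd_iff_pow_eq_one, ← hy']
  exact orderOf_dvd_of_mem_zpowers hx

/-- The Frattini subgroup of a subgroup, as a subgroup of the ambient group. -/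
def frattiniOf (H : Subgroup G) : Subgroup G := (frattini H).map H.subtype

theorem frattiniOf_le (H : Subgroup G) : frattiniOf H ≤ H := map_subtype_le _

theorem frattiniOf_lt [Finite G] {H : Subgroup G} (hH : H ≠ ⊥) : frattiniOf H < H := by
  refine lt_of_le_of_ne (frattiniOf_le H) fun h => hH ?_
  have h1 : frattini H = ⊤ := by
    apply map_injective H.subtype_injective
    rw [← MonoidHom.range_eq_map, range_subtype]
    exact h
  have : Subsingleton H := by
    by_contra hns
    rw [not_subsingleton_iff_nontrivial] at hns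
    obtain ⟨M, hM, -⟩ := (eq_top_or_exists_le_coatom (⊥ : Subgroup H)).resolve_left bot_ne_top
    exact hM.1 (top_le_iff.mp (h1 ▸ frattini_le_coatom hM))
  exact eq_bot_of_subsingleton H

theorem normalizes_map_characteristic {H : Subgroup G} (K : Subgroup H) [K.Characteristic] :
    normalizer (H : Set G) ≤ normalizer ((K.map H.subtype : Subgroup G) : Set G) := by
  refine le_normalizer_iff.mpr fun g hg x hx => ?_
  obtain ⟨y, hy, rfl⟩ := mem_map.mp hx
  exact mem_map.mpr ⟨(normalizerMonoidHom H ⟨g, hg⟩) y,
    (characteristic_iff_le_comap.mp ‹_›) _ hy, by simp [normalizerMonoidHom_apply_apply_coe]⟩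

theorem pow_mem_frattiniOf [Finite G] {H : Subgroup G} {p : ℕ} [Fact p.Prime] (hH : IsPGroup p H)
    {x : G} (hx : x ∈ H) : x ^ p ∈ frattiniOf H :=
  ⟨⟨x, hx⟩ ^ p, pow_mem_frattini hH _, rfl⟩

theorem mul_pow_of_central {c h z : G} (hzc : Commute z c) (hzh : Commute z h)
    (hz : h * c = z * (c * h)) :
    (∀ n : ℕ, h ^ n * c = z ^ n * (c * h ^ n)) ∧
    ∀ n : ℕ, (c * h) ^ n = z ^ n.choose 2 * (c ^ n * h ^ n) := by
  have h1 : ∀ n : ℕ, h ^ n * c = z ^ n * (c * h ^ n) := by
    intro n
    induction n with
    | zero => simp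
    | succ n ih =>
      calc h ^ (n + 1) * c = h * (h ^ n * c) := by rw [pow_succ']; group
        _ = h * (z ^ n * (c * h ^ n)) := by rw [ih]
        _ = z ^ n * ((h * c) * h ^ n) := by
          rw [← mul_assoc, ← (hzh.pow_left n).eq]; group
        _ = z ^ (n + 1) * (c * h ^ (n + 1)) := by rw [hz, pow_succ, pow_succ']; group
  refine ⟨h1, fun n => ?_⟩
  induction n with
  | zero => simp
  | succ n ih =>
    calc (c * h) ^ (n + 1) = z ^ n.choose 2 * (c ^ n * ((h ^ n * c) * h)) := by
          rw [pow_succ, ih]; group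
      _ = z ^ n.choose 2 * (c ^ n * z ^ n * (c * (h ^ n * h))) := by rw [h1 n]; group
      _ = z ^ n.choose 2 * (z ^ n * c ^ n * (c * (h ^ n * h))) := by
          rw [((hzc.pow_pow n n).eq)]
      _ = z ^ (n + 1).choose 2 * (c ^ (n + 1) * h ^ (n + 1)) := by
          rw [show (n + 1).choose 2 = n.choose 2 + n by
            rw [Nat.choose_succ_succ, Nat.choose_one_right, add_comm],
            pow_add, pow_succ c, pow_succ h]
          group

theorem dvd_choose_two {p : ℕ} (hp : p.Prime) (hp2 : p ≠ 2) : p ∣ p.choose 2 :=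
  hp.dvd_choose_self two_ne_zero (lt_of_le_of_ne hp.two_le (Ne.symm hp2))

/-- For odd `p`, a coprime action on a `p`-group fixing all elements of order `p` is trivial. -/
theorem le_centralizer_of_order_p [Finite G] {p : ℕ} [hpf : Fact p.Prime] (hp : p ≠ 2)
    {A : Subgroup G} (hcop : (Nat.card A).Coprime p) :
    ∀ {H : Subgroup G}, IsPGroup p H → A ≤ normalizer (H : Set G) →
      (∀ x ∈ H, orderOf x = p → x ∈ centralizer (A : Set G)) → H ≤ centralizer (A : Set G) := by
  intro H
  induction H using WellFoundedLT.induction with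
  | ind H ih =>
  intro hH hA hfix
  have hcopH : (Nat.card A).Coprime (Nat.card H) := by
    obtain ⟨k, hk⟩ := IsPGroup.iff_card.mp hH
    rw [hk]; exact hcop.pow_right k
  have hsub : ∀ K : Subgroup G, K < H → A ≤ normalizer (K : Set G) → K ≤ centralizer (A : Set G) :=
    fun K hK hAK => ih K hK (hH.to_le hK.le) hAK fun x hx => hfix x (hK.le hx)
  by_cases hHA : ⁅H, A⁆ < H
  · exact le_centralizer_of_double_commutator hA hcopH
      (hsub _ hHA (normalizes_commutator hA le_normalizer))
  have hHA' : ⁅A, H⁆ = H := by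
    rw [commutator_comm]
    exact eq_of_le_of_not_lt (commutator_le_of_normalizes hA) hHA
  by_cases hH1 : H = ⊥
  · simp [hH1]
  have := hH.isNilpotent
  -- a proper invariant subgroup commutes with everything in `H`
  have key : ∀ K : Subgroup G, K ≤ H → ⁅H, K⁆ ≤ centralizer (A : Set G) → K ≤ centralizer (A : Set G) →
      ⁅H, K⁆ = ⊥ := by
    intro K hKH h1 h2
    rw [← hHA']
    refine commutator_commutator_eq_bot_of_rotate ?_ ?_
    · exact commutator_eq_bot_iff_le_centralizer.mpr h1
    · rw [commutator_eq_bot_iff_le_centralizer.mpr h2, commutator_bot_left]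
  have hD : ⁅H, H⁆ < H := by
    refine lt_of_le_of_ne H.commutator_le_self fun h => ?_
    have h' : commutator H = ⊤ := by
      apply map_injective H.subtype_injective
      rw [map_subtype_commutator, ← MonoidHom.range_eq_map, range_subtype, h]
    have : Nontrivial H := (nontrivial_iff_ne_bot H).mpr hH1
    exact (IsSolvable.commutator_lt_top_of_nontrivial H).ne h'
  have hDc : ⁅H, H⁆ ≤ centralizer (A : Set G) := hsub _ hD (normalizes_commutator hA hA)
  have hDH : ⁅H, ⁅H, H⁆⁆ = ⊥ :=
    key _ hD.le ((commutator_mono le_rfl hD.le).trans hDc) hDc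
  have hF : frattiniOf H ≤ centralizer (A : Set G) :=
    hsub _ (frattiniOf_lt hH1) (hA.trans (normalizes_map_characteristic _))
  have hFH : ⁅H, frattiniOf H⁆ = ⊥ :=
    key _ (frattiniOf_le H) ((commutator_mono le_rfl (frattiniOf_le H)).trans hDc) hF
  have hall : ⁅A, H⁆ ≤ centralizer (A : Set G) := by
    rw [commutator_le]
    intro a ha h hh
    set c := ⁅a, h⁆ with hc
    have hcH : c ∈ H := hHA'.le (commutator_mem_commutator ha hh)
    set z := ⁅h, c⁆ with hz
    have hzD : z ∈ ⁅H, H⁆ := commutator_mem_commutator hh hcH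
    have hzcomm : ∀ g ∈ H, Commute z g := fun g hg =>
      mem_centralizer_iff.mp (commutator_eq_bot_iff_le_centralizer.mp hDH hg) z hzD
    have hpcomm : ∀ g ∈ H, Commute (h ^ p) g := fun g hg =>
      mem_centralizer_iff.mp (commutator_eq_bot_iff_le_centralizer.mp hFH hg) _
        (pow_mem_frattiniOf hH hh)
    obtain ⟨e1, e2⟩ := mul_pow_of_central (hzcomm c hcH) (hzcomm h hh)
      (show h * c = z * (c * h) by rw [hz, commutatorElement_def]; group)
    have hzp : z ^ p = 1 := by
      have := e1 p
      rw [(hpcomm c hcH).eq] at this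
      exact right_eq_mul.mp this
    have hzch : z ^ p.choose 2 = 1 := by
      obtain ⟨k, hk⟩ := dvd_choose_two hpf.out hp
      rw [hk, pow_mul, hzp, one_pow]
    have e3 : (c * h) ^ p = h ^ p := by
      rw [show c * h = a * h * a⁻¹ by rw [hc, commutatorElement_def]; group, conj_pow,
        mem_centralizer_iff.mp (hF (pow_mem_frattiniOf hH hh)) a ha, mul_inv_cancel_right]
    rw [e2 p, hzch, one_mul, mul_eq_right] at e3
    by_cases hc1 : c = 1
    · rw [hc1]; exact one_mem _
    · exact hfix c hcH (orderOf_eq_prime e3 hc1)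
  exact hHA'.ge.trans hall

end Cfsg.Agent.OddLocal43
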