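import Mathlib

/-!
# Solvable subgroups of odd order of the two-dimensional linear group over a field with `p` elements

Their derived subgroup is a `p`-group, and their prime divisors are at most `p`.
-/

set_option autoImplicit false

namespace Cfsg.Agent.OddLocal43

open Matrix
open scoped commutatorElement

section Field

variable {F : Type*} [Field F]

/-- A two-by-two matrix is scalar. -/
def IsScalarMat (x : Matrix (Fin 2) (Fin 2) F) : Prop :=
  x 0 1 = 0 ∧ x 1 0 = 0 ∧ x 0 0 = x 1 1

theorem eq_smul_one_of_isScalarMat {x : Matrix (Fin 2) (Fin 2) F} (h : IsScalarMat x) :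
    x = x 0 0 • (1 : Matrix (Fin 2) (Fin 2) F) := by
  obtain ⟨h1, h2, h3⟩ := h
  ext i j
  fin_cases i <;> fin_cases j <;> simp [h1, h2, h3]

/-- The centralizer of a non-scalar two-by-two matrix consists of affine polynomials in it. -/
theorem exists_eq_add_smul_of_commute {x y : Matrix (Fin 2) (Fin 2) F} (hx : ¬ IsScalarMat x)
    (h : x * y = y * x) :
    ∃ a b : F, y = a • (1 : Matrix (Fin 2) (Fin 2) F) + b • x := by
  have e00 := congrFun (congrFun h 0) 0
  have e01 := congrFun (congrFun h 0) 1
  have e10 := congrFun (congrFun h 1) 0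
  simp only [mul_apply, Fin.sum_univ_two] at e00 e01 e10
  by_cases hb : x 0 1 = 0
  · by_cases hc : x 1 0 = 0
    · have hd : x 0 0 - x 1 1 ≠ 0 := fun h0 => hx ⟨hb, hc, sub_eq_zero.mp h0⟩
      have h01 : y 0 1 = 0 := by
        rw [hb] at e01
        exact (mul_eq_zero.mp (show (x 0 0 - x 1 1) * y 0 1 = 0 by linear_combination e01)).resolve_left hd
      have h10 : y 1 0 = 0 := by
        rw [hc] at e10
        exact (mul_eq_zero.mp (show (x 0 0 - x 1 1) * y 1 0 = 0 by linear_combination -e10)).resolve_left hd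
      refine ⟨y 0 0 - (y 0 0 - y 1 1) / (x 0 0 - x 1 1) * x 0 0,
        (y 0 0 - y 1 1) / (x 0 0 - x 1 1), ?_⟩
      ext i j
      fin_cases i <;> fin_cases j <;> simp [h01, h10, hb, hc] <;> field_simp <;> ring
    · refine ⟨y 0 0 - y 1 0 / x 1 0 * x 0 0, y 1 0 / x 1 0, ?_⟩
      ext i j
      fin_cases i <;> fin_cases j <;> simp [hb]
      · rw [hb] at e00
        exact (mul_eq_zero.mp (show y 0 1 * x 1 0 = 0 by linear_combination -e00)).resolve_right hc
      · exact (div_mul_cancel₀ _ hc).symm
      · field_simp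
        linear_combination -e10
  · refine ⟨y 0 0 - y 0 1 / x 0 1 * x 0 0, y 0 1 / x 0 1, ?_⟩
    ext i j
    fin_cases i <;> fin_cases j <;> simp
    · exact (div_mul_cancel₀ _ hb).symm
    · field_simp
      linear_combination e00
    · field_simp
      linear_combination e01

theorem commute_of_commute_nonscalar {x y z : Matrix (Fin 2) (Fin 2) F} (hx : ¬ IsScalarMat x)
    (hy : x * y = y * x) (hz : x * z = z * x) : y * z = z * y := by
  obtain ⟨a, b, rfl⟩ := exists_eq_add_smul_of_commute hx hy
  simp only [add_mul, mul_add, smul_mul_assoc, mul_smul_comm, one_mul, mul_one, hz]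

theorem det_affine (x : Matrix (Fin 2) (Fin 2) F) (a b : F) :
    (a • (1 : Matrix (Fin 2) (Fin 2) F) + b • x).det = a ^ 2 + a * b * x.trace + b ^ 2 * x.det := by
  simp [det_fin_two, trace_fin_two]
  ring

theorem trace_affine (x : Matrix (Fin 2) (Fin 2) F) (a b : F) :
    (a • (1 : Matrix (Fin 2) (Fin 2) F) + b • x).trace = 2 * a + b * x.trace := by
  simp [trace_fin_two]
  ring

theorem sq_eq_zero_of_trace_det {n : Matrix (Fin 2) (Fin 2) F} (ht : n.trace = 0) (hd : n.det = 0) :
    n * n = 0 := by
  rw [trace_fin_two] at ht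
  rw [det_fin_two] at hd
  ext i j
  fin_cases i <;> fin_cases j <;> simp [mul_apply, Fin.sum_univ_two]
  · linear_combination n 0 0 * ht - hd
  · linear_combination n 0 1 * ht
  · linear_combination n 1 0 * ht
  · linear_combination n 1 1 * ht - hd

end Field

variable {p : ℕ} [hp : Fact p.Prime]

theorem two_ne_zero_zmod (hp2 : p ≠ 2) : (2 : ZMod p) ≠ 0 := by
  intro h
  have h' : ((2 : ℕ) : ZMod p) = 0 := by simpa using h
  rw [ZMod.natCast_eq_zero_iff] at h'
  exact hp2 ((Nat.prime_dvd_prime_iff_eq hp.out Nat.prime_two).mp h')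

theorem eq_one_of_sq_eq_one {B : Type*} [Group B] (hodd : Odd (Nat.card B)) {b : B}
    (h : b ^ 2 = 1) : b = 1 := by
  rw [← orderOf_eq_one_iff]
  refine Nat.eq_one_of_dvd_coprimes (Nat.coprime_two_left.mpr hodd) (orderOf_dvd_of_pow_eq_one h) ?_
  exact orderOf_dvd_natCard b

/-- The derived subgroup of a solvable group of odd order inside `GL(2, p)` is a `p`-group. -/
theorem isPGroup_commutator_of_GL_two (hp2 : p ≠ 2) {B : Type*} [Group B] [Finite B]
    [Group.IsSolvable B] (hodd : Odd (Nat.card B)) (f : B →* GL (Fin 2) (ZMod p))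
    (hf : Function.Injective f) : IsPGroup p (commutator B) := by
  have h2 : (2 : ZMod p) ≠ 0 := two_ne_zero_zmod hp2
  let μ : B → Matrix (Fin 2) (Fin 2) (ZMod p) := fun b => (f b).val
  have μmul : ∀ a b, μ (a * b) = μ a * μ b := fun a b => by simp [μ]
  have μ1 : μ 1 = 1 := by simp [μ]
  have μinj : Function.Injective μ := fun a b h => hf (Units.ext h)
  have μinv : ∀ g, μ g⁻¹ * μ g = 1 := fun g => by rw [← μmul, inv_mul_cancel, μ1]
  have detcomm : ∀ a b : B, (μ ⁅a, b⁆).det = 1 := by
    intro a b
    have ea : (μ a).det * (μ a⁻¹).det = 1 := by rw [← det_mul, ← μmul, mul_inv_cancel, μ1, det_one]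
    have eb : (μ b).det * (μ b⁻¹).det = 1 := by rw [← det_mul, ← μmul, mul_inv_cancel, μ1, det_one]
    rw [commutatorElement_def, μmul, μmul, μmul, det_mul, det_mul, det_mul]
    linear_combination (μ b).det * (μ b⁻¹).det * ea + eb
  have triv_of_scalar : ∀ a b : B, IsScalarMat (μ ⁅a, b⁆) → ⁅a, b⁆ = 1 := by
    intro a b h
    refine eq_one_of_sq_eq_one hodd (μinj ?_)
    have hd := detcomm a b
    rw [det_fin_two, h.1, h.2.1, ← h.2.2] at hd
    rw [μ1, pow_two, μmul, eq_smul_one_of_isScalarMat h, smul_mul_smul_comm, mul_one,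
      show μ ⁅a, b⁆ 0 0 * μ ⁅a, b⁆ 0 0 = 1 by linear_combination hd, one_smul]
  by_cases hall : ∀ b : B, IsScalarMat (μ b)
  · have : commutator B = ⊥ := by
      rw [commutator_def, eq_bot_iff, Subgroup.commutator_le]
      exact fun a _ b _ => Subgroup.mem_bot.mpr (triv_of_scalar a b (hall _))
    rw [this]
    exact IsPGroup.of_bot
  -- an abelian normal subgroup with a non-scalar element
  obtain ⟨k, hk⟩ : ∃ k, derivedSeries B k = ⊥ := Group.IsSolvable.solvable
  have hex : ∃ j, ∀ b ∈ derivedSeries B j, IsScalarMat (μ b) := ⟨k, fun b hb => by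
    rw [hk, Subgroup.mem_bot] at hb
    rw [hb, μ1]
    simp [IsScalarMat]⟩
  classical
  obtain ⟨j, hj⟩ : ∃ j, Nat.find hex = j + 1 := by
    refine Nat.exists_eq_succ_of_ne_zero fun h => hall fun b => ?_
    have := Nat.find_spec hex
    rw [h] at this
    exact this b (by simp)
  have hj1 := Nat.find_spec hex
  rw [hj] at hj1
  have hj0 : ¬ ∀ b ∈ derivedSeries B j, IsScalarMat (μ b) := Nat.find_min hex (by omega)
  push Not at hj0
  obtain ⟨x, hxD, hxns⟩ := hj0
  have hDcomm : ∀ a ∈ derivedSeries B j, ∀ b ∈ derivedSeries B j, a * b = b * a := by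
    intro a ha b hb
    rw [← commutatorElement_eq_one_iff_mul_comm]
    refine triv_of_scalar a b (hj1 _ ?_)
    rw [derivedSeries_succ]
    exact Subgroup.commutator_mem_commutator ha hb
  set X := μ x with hX
  -- conjugates of `x` are affine in `x`
  have hconj : ∀ g, ∃ b : ZMod p,
      μ g * X * μ g⁻¹ = ((1 - b) * X.trace / 2) • (1 : Matrix (Fin 2) (Fin 2) (ZMod p)) + b • X ∧
      (1 - b ^ 2) * (X.trace ^ 2 - 4 * X.det) = 0 := by
    intro g
    have hy : g * x * g⁻¹ ∈ derivedSeries B j := (derivedSeries_normal B j).conj_mem x hxD g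
    have hcomm := congrArg μ (hDcomm x hxD _ hy)
    simp only [μmul, ← hX] at hcomm
    obtain ⟨a, b, hab⟩ := exists_eq_add_smul_of_commute hxns hcomm
    have hg : μ g⁻¹ = ((f g)⁻¹ : GL (Fin 2) (ZMod p)).val := by simp [μ]
    have ht : (μ g * X * μ g⁻¹).trace = X.trace := by rw [hg]; exact trace_units_conj (f g) X
    have hd : (μ g * X * μ g⁻¹).det = X.det := by rw [hg]; exact det_units_conj (f g) X
    rw [hab, trace_affine] at ht
    rw [hab, det_affine] at hd
    have ha : a = (1 - b) * X.trace / 2 := by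
      field_simp
      linear_combination ht
    refine ⟨b, by rw [hab, ha], ?_⟩
    rw [ha] at hd
    field_simp at hd
    linear_combination hd
  by_cases hdisc : X.trace ^ 2 - 4 * X.det = 0
  · -- a unipotent direction is preserved up to a scalar
    set n := X - (X.trace / 2) • (1 : Matrix (Fin 2) (Fin 2) (ZMod p)) with hn
    have hnns : ¬ IsScalarMat n := by
      intro h
      apply hxns
      obtain ⟨h1, h2', h3⟩ := h
      simp [hn] at h1 h2' h3
      exact ⟨h1, h2', h3⟩
    have hn2 : n * n = 0 := by
      refine sq_eq_zero_of_trace_det ?_ ?_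
      · simp [hn, trace_fin_two]; field_simp; ring
      · rw [trace_fin_two, det_fin_two] at hdisc
        simp [hn, det_fin_two, trace_fin_two]
        field_simp
        linear_combination -hdisc
    have hline : ∀ g, ∃ b : ZMod p, μ g * n * μ g⁻¹ = b • n := by
      intro g
      obtain ⟨b, hb, -⟩ := hconj g
      refine ⟨b, ?_⟩
      have : μ g * μ g⁻¹ = 1 := by rw [← μmul, mul_inv_cancel, μ1]
      rw [hn, mul_sub, sub_mul, hb, mul_smul_comm, smul_mul_assoc, mul_one, this]
      ext i j
      simp
      field_simp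
      ring
    let S : Subgroup B :=
      { carrier := {g | μ g * n = n * μ g}
        one_mem' := by simp [μ1]
        mul_mem' := fun {a b} ha hb => by
          simp only [Set.mem_ofPred_eq, μmul] at ha hb ⊢
          rw [mul_assoc, hb, ← mul_assoc, ha, mul_assoc]
        inv_mem' := fun {a} ha => by
          simp only [Set.mem_ofPred_eq] at ha ⊢
          calc μ a⁻¹ * n = μ a⁻¹ * (n * μ a) * μ a⁻¹ := by
                rw [mul_assoc, mul_assoc n, ← μmul a, mul_inv_cancel, μ1, mul_one]
            _ = n * μ a⁻¹ := by rw [← ha, ← mul_assoc, μinv, one_mul] }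
    have hS : ∀ a b : B, ⁅a, b⁆ ∈ S := by
      have key : ∀ a b : B, μ ((b * a)⁻¹ * (a * b)) * n = n * μ ((b * a)⁻¹ * (a * b)) := by
        intro a b
        obtain ⟨c, hc⟩ := hline a
        obtain ⟨d, hd⟩ := hline b
        have hc' : μ a * n = c • (n * μ a) := by
          rw [← smul_mul_assoc, ← hc, mul_assoc, μinv, mul_one]
        have hd' : μ b * n = d • (n * μ b) := by
          rw [← smul_mul_assoc, ← hd, mul_assoc, μinv, mul_one]
        have e1 : μ (a * b) * n = (c * d) • (n * μ (a * b)) := by
          rw [μmul, mul_assoc, hd', mul_smul_comm, ← mul_assoc, hc', smul_mul_assoc, smul_smul,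
            mul_assoc, mul_comm d c]
        have e2 : μ (b * a) * n = (c * d) • (n * μ (b * a)) := by
          rw [μmul, mul_assoc, hc', mul_smul_comm, ← mul_assoc, hd', smul_mul_assoc, smul_smul,
            mul_assoc]
        calc μ ((b * a)⁻¹ * (a * b)) * n
            = μ (b * a)⁻¹ * ((c * d) • (n * μ (a * b))) := by rw [μmul, mul_assoc, e1]
          _ = μ (b * a)⁻¹ * (((c * d) • (n * μ (b * a))) * (μ (b * a)⁻¹ * μ (a * b))) := by
              rw [smul_mul_assoc, mul_assoc n, ← mul_assoc (μ (b * a)), ← μmul, mul_inv_cancel, μ1,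
                one_mul]
          _ = n * μ ((b * a)⁻¹ * (a * b)) := by
              rw [← e2, μmul (b * a)⁻¹]
              simp only [← mul_assoc, μinv, one_mul]
      intro a b
      have := key a⁻¹ b⁻¹
      rwa [show (b⁻¹ * a⁻¹)⁻¹ * (a⁻¹ * b⁻¹) = ⁅a, b⁆ by rw [commutatorElement_def]; group] at this
    have hgenp : ∀ a b : B, ⁅a, b⁆ ^ p = 1 := by
      intro a b
      obtain ⟨α, β, hc⟩ := exists_eq_add_smul_of_commute hnns (hS a b).symm
      have hd := detcomm a b
      rw [hc, det_affine] at hd
      have ht0 : n.trace = 0 := by simp [hn, trace_fin_two]; field_simp; ring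
      have hd0 : n.det = 0 := by
        rw [trace_fin_two, det_fin_two] at hdisc
        simp [hn, det_fin_two, trace_fin_two]
        field_simp
        linear_combination -hdisc
      have hα : α ^ 2 = 1 := by rw [ht0, hd0] at hd; linear_combination hd
      have hsq : μ (⁅a, b⁆ ^ 2) = 1 + (2 * α * β) • n := by
        rw [pow_two, μmul, hc]
        simp only [add_mul, mul_add, smul_mul_smul_comm, one_mul, mul_one, hn2, smul_zero, add_zero]
        rw [← pow_two α, hα, one_smul, add_assoc, ← add_smul]
        congr 2; ring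
      have hpw : ∀ m : ℕ, μ ((⁅a, b⁆ ^ 2) ^ m) = 1 + ((m : ZMod p) * (2 * α * β)) • n := by
        intro m
        induction m with
        | zero => simp [μ1]
        | succ m ih =>
          rw [pow_succ, μmul, ih, hsq]
          simp only [add_mul, mul_add, smul_mul_smul_comm, one_mul, mul_one, hn2, smul_zero, add_zero]
          rw [add_assoc, ← add_smul]
          congr 2; push_cast; ring
      refine eq_one_of_sq_eq_one hodd ?_
      rw [← pow_mul, mul_comm, pow_mul]
      apply μinj
      rw [hpw, μ1, ZMod.natCast_self, zero_mul, zero_smul, add_zero]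
    have hle : commutator B ≤ S := by
      rw [commutator_def, Subgroup.commutator_le]
      exact fun a _ b _ => hS a b
    have hScomm : ∀ a ∈ S, ∀ b ∈ S, a * b = b * a := fun a ha b hb => μinj (by
      rw [μmul, μmul]
      exact commute_of_commute_nonscalar hnns (ha : μ a * n = n * μ a).symm
        (hb : μ b * n = n * μ b).symm)
    have hexp : ∀ c ∈ commutator B, c ^ p = 1 := by
      intro c hc
      rw [commutator_eq_closure] at hc
      induction hc using Subgroup.closure_induction with
      | mem c hc => obtain ⟨a, b, rfl⟩ := hc; exact hgenp a b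
      | one => simp
      | mul a b ha hb iha ihb =>
        have ha' : a ∈ S := hle (by rw [commutator_eq_closure]; exact ha)
        have hb' : b ∈ S := hle (by rw [commutator_eq_closure]; exact hb)
        rw [(show Commute a b from hScomm a ha' b hb').mul_pow, iha, ihb, one_mul]
      | inv a ha iha => rw [inv_pow, iha, inv_one]
    exact fun c => ⟨1, Subtype.ext (by simpa using hexp c c.2)⟩
  · -- everything centralizes `x`
    have hX2 : ∀ g : B, μ (g ^ 2) * X = X * μ (g ^ 2) := by
      intro g
      obtain ⟨b, hb, hb2⟩ := hconj g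
      have hb2' : b ^ 2 = 1 := by
        have := (mul_eq_zero.mp hb2).resolve_right hdisc
        linear_combination -this
      have hgg : μ g * (μ g * X * μ g⁻¹) * μ g⁻¹ = X := by
        rw [hb]
        simp only [mul_add, add_mul, mul_smul_comm, smul_mul_assoc, mul_one]
        rw [← μmul, mul_inv_cancel, μ1, hb, smul_add, smul_smul, smul_smul, ← add_assoc, ← add_smul,
          ← pow_two, hb2', one_smul, show (1 - b) * X.trace / 2 + b * ((1 - b) * X.trace / 2) =
            (1 - b ^ 2) * X.trace / 2 by ring, hb2', sub_self, zero_mul, zero_div, zero_smul, zero_add]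
      calc μ (g ^ 2) * X = μ g * (μ g * X * μ g⁻¹) * (μ g⁻¹ * μ g) * μ g := by
            rw [μinv, mul_one, pow_two, μmul]
            simp only [mul_assoc, μinv, mul_one]
        _ = (μ g * (μ g * X * μ g⁻¹) * μ g⁻¹) * (μ g * μ g) := by simp only [mul_assoc]
        _ = X * μ (g ^ 2) := by rw [hgg, pow_two, μmul]
    have hXall : ∀ g : B, μ g * X = X * μ g := by
      intro g
      obtain ⟨m, hm⟩ := Nat.odd_iff.mpr (Nat.odd_iff.mp (hodd.of_dvd_nat (orderOf_dvd_natCard g)))
      have : g = (g ^ 2) ^ (m + 1) := by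
        rw [← pow_mul, show 2 * (m + 1) = orderOf g + 1 by omega, pow_succ, pow_orderOf_eq_one, one_mul]
      rw [this]
      have key : ∀ k : ℕ, μ ((g ^ 2) ^ k) * X = X * μ ((g ^ 2) ^ k) := by
        intro k
        induction k with
        | zero => simp [μ1]
        | succ k ih => rw [pow_succ, μmul, mul_assoc, hX2, ← mul_assoc, ih, mul_assoc]
      exact key _
    have : commutator B = ⊥ := by
      rw [commutator_def, eq_bot_iff, Subgroup.commutator_le]
      intro a _ b _
      rw [Subgroup.mem_bot, commutatorElement_eq_one_iff_mul_comm]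
      exact μinj (by rw [μmul, μmul]; exact commute_of_commute_nonscalar hxns (hXall a).symm (hXall b).symm)
    rw [this]
    exact IsPGroup.of_bot

/-- An odd prime dividing the order of `GL(2, p)` is at most `p`. -/
theorem le_of_dvd_card_GL_two (hp2 : p ≠ 2) {q : ℕ} (hq : q.Prime) (hq2 : q ≠ 2)
    (h : q ∣ Nat.card (GL (Fin 2) (ZMod p))) : q ≤ p := by
  rw [card_GL_field (𝔽 := ZMod p) (n := 2), Fin.prod_univ_two, ZMod.card] at h
  simp only [Fin.val_zero, pow_zero, Fin.val_one, pow_one] at h
  have h1 : p ^ 2 - 1 = (p + 1) * (p - 1) := by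
    have := Nat.sq_sub_sq p 1
    simpa using this
  have h2 : p ^ 2 - p = p * (p - 1) := by rw [pow_two, Nat.mul_sub, mul_one]
  rw [h1, h2] at h
  rcases hq.dvd_mul.mp h with h | h <;> rcases hq.dvd_mul.mp h with h | h
  · rcases Nat.lt_or_ge q (p + 1) with hlt | hge
    · omega
    · have heq : q = p + 1 := le_antisymm (Nat.le_of_dvd (by omega) h) hge
      rcases hp.out.eq_two_or_odd with hp' | hodd
      · exact absurd hp' hp2
      · have := (hq.eq_two_or_odd).resolve_left hq2
        omega
  · rcases Nat.eq_zero_or_pos (p - 1) with h0 | h0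
    · have := hp.out.two_le; omega
    · have := Nat.le_of_dvd h0 h; omega
  · exact Nat.le_of_dvd hp.out.pos h
  · rcases Nat.eq_zero_or_pos (p - 1) with h0 | h0
    · have := hp.out.two_le; omega
    · have := Nat.le_of_dvd h0 h; omega

end Cfsg.Agent.OddLocal43
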