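import Cfsg.Prelude.Def_CaseTheorems
import Cfsg.Agent.OddLocal43.Coprime
import Cfsg.Agent.OddLocal43.GLTwo

/-!
# Operators of odd order on odd `p`-groups of rank at most two

The key facts: for a `p`-group `R` without elementary abelian subgroup of order `p ^ 3`, normalized by a
solvable group `A` of odd order, the `p'`-elements of the derived group of `A` centralize `R`, and so do
elements of `q`-power order of `A` for odd primes `q > p`.
-/

set_option autoImplicit false

namespace Cfsg.Agent.OddLocal43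

open Subgroup
open scoped commutatorElement

variable {G : Type*} [Group G] {p : ℕ}

theorem prankLE_of_injective {P H : Type*} [Group P] [Group H] {k : ℕ} (f : H →* P)
    (hf : Function.Injective f) (h : Cfsg.PRankLE p k P) : Cfsg.PRankLE p k H := by
  intro A hA hAp
  have hcomm : IsMulCommutative ↥(A.map f) := by
    refine ⟨⟨?_⟩⟩
    rintro ⟨_, a, ha, rfl⟩ ⟨_, b, hb, rfl⟩
    exact Subtype.ext (by
      simp only [Subgroup.coe_mul, ← map_mul]
      exact congrArg f (congrArg Subtype.val (mul_comm' (⟨a, ha⟩ : A) ⟨b, hb⟩)))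
  rw [Nat.card_congr (A.equivMapOfInjective f hf).toEquiv]
  refine h _ hcomm ?_
  rintro _ ⟨a, ha, rfl⟩
  rw [← map_pow, hAp a ha, map_one]

theorem prankLE_mono {H K : Subgroup G} {k : ℕ} (hle : H ≤ K) (h : Cfsg.PRankLE p k K) :
    Cfsg.PRankLE p k H :=
  prankLE_of_injective (inclusion hle) (inclusion_injective hle) h

/-- A finite `p`-group has a self-centralizing characteristic subgroup of class at most two. -/
theorem exists_class_two_self_centralizing {P : Type*} [Group P] [Finite P] [Fact p.Prime]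
    (hP : IsPGroup p P) :
    ∃ C : Subgroup P, C.Characteristic ∧ ⁅C, C⁆ ≤ centralizer (C : Set P) ∧
      centralizer (C : Set P) ≤ C := by
  classical
  -- a maximal characteristic abelian subgroup
  obtain ⟨D, hD⟩ : ∃ D : Subgroup P,
      Maximal (fun D : Subgroup P => D.Characteristic ∧ IsMulCommutative D) D :=
    Set.Finite.exists_maximal (Set.toFinite {D : Subgroup P | D.Characteristic ∧ IsMulCommutative D})
      ⟨⊥, inferInstance, inferInstance⟩
  obtain ⟨⟨hDchar, hDc⟩, hDmax⟩ := hD
  have := hDchar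
  set C : Subgroup P := centralizer (D : Set P) ⊓ (center (P ⧸ D)).comap (QuotientGroup.mk' D)
    with hC
  have hmem : ∀ x : P, x ∈ (center (P ⧸ D)).comap (QuotientGroup.mk' D) ↔ ∀ g : P, ⁅g, x⁆ ∈ D := by
    intro x
    simp only [mem_comap, mem_center_iff]
    constructor
    · intro h g
      rw [← QuotientGroup.eq_one_iff]
      show QuotientGroup.mk' D ⁅g, x⁆ = 1
      rw [map_commutatorElement, commutatorElement_eq_one_iff_mul_comm]
      exact h _
    · intro h q
      obtain ⟨g, rfl⟩ := QuotientGroup.mk'_surjective D q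
      rw [← commutatorElement_eq_one_iff_mul_comm, ← map_commutatorElement]
      exact (QuotientGroup.eq_one_iff _).mpr (h g)
  have hchar2 : ((center (P ⧸ D)).comap (QuotientGroup.mk' D)).Characteristic := by
    rw [characteristic_iff_le_comap]
    intro φ x hx
    rw [mem_comap, hmem]
    intro g
    have h1 := (hmem x).mp hx (φ.symm g)
    have h2 : φ ⁅φ.symm g, x⁆ ∈ D := (characteristic_iff_le_comap.mp hDchar φ) h1
    rw [map_commutatorElement, MulEquiv.apply_symm_apply] at h2
    exact h2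
  have hcharC : ∀ S T : Subgroup P, S.Characteristic → T.Characteristic → (S ⊓ T).Characteristic :=
    fun S T hS hT => characteristic_iff_le_comap.mpr fun φ x hx =>
      ⟨characteristic_iff_le_comap.mp hS φ hx.1, characteristic_iff_le_comap.mp hT φ hx.2⟩
  have hCchar : C.Characteristic := hcharC _ _ inferInstance hchar2
  have hDC : D ≤ C := by
    intro d hd
    refine ⟨?_, ?_⟩
    · exact mem_centralizer_iff.mpr fun e he =>
        congrArg Subtype.val (mul_comm' (⟨e, he⟩ : D) ⟨d, hd⟩)
    · show d ∈ (center (P ⧸ D)).comap (QuotientGroup.mk' D)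
      rw [mem_comap, QuotientGroup.mk'_apply, (QuotientGroup.eq_one_iff d).mpr hd]
      exact one_mem _
  have hCD : ⁅C, C⁆ ≤ D := commutator_le.mpr fun x hx y hy => (hmem y).mp hy.2 x
  have hDcent : D ≤ centralizer (C : Set P) := le_centralizer_symm inf_le_left
  refine ⟨C, hCchar, hCD.trans hDcent, ?_⟩
  have := hCchar
  set Q := centralizer (C : Set P) with hQ
  -- `Q ⊓ C = D`
  have hQC : Q ⊓ C ≤ D := by
    have hab : IsMulCommutative ↥(Q ⊓ C) := ⟨⟨fun a b => Subtype.ext
      (mem_centralizer_iff.mp b.2.1 a a.2.2)⟩⟩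
    have hch : (Q ⊓ C).Characteristic := hcharC _ _ inferInstance hCchar
    exact hDmax ⟨hch, hab⟩ (le_inf hDcent hDC)
  by_contra hnle
  obtain ⟨q, hqQ, hqC⟩ := SetLike.not_le_iff_exists.mp hnle
  set Qb := Q.map (QuotientGroup.mk' D) with hQb
  have hQbne : Qb ≠ ⊥ := by
    intro h
    have : QuotientGroup.mk' D q ∈ Qb := mem_map_of_mem _ hqQ
    rw [h, mem_bot, QuotientGroup.mk'_apply, QuotientGroup.eq_one_iff] at this
    exact hqC (hDC this)
  have : Qb.Normal := Normal.map inferInstance _ (QuotientGroup.mk'_surjective D)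
  have hPb : IsPGroup p (P ⧸ D) := hP.to_quotient D
  -- a nontrivial normal subgroup of a `p`-group meets the centre
  obtain ⟨y, hyQ, hyc, hy1⟩ : ∃ y, y ∈ Qb ∧ y ∈ center (P ⧸ D) ∧ y ≠ 1 := by
    have hfix : (MulAction.fixedPoints (ConjAct (P ⧸ D)) Qb).Nonempty := ⟨1, fun g => by simp⟩
    have hpg : IsPGroup p (ConjAct (P ⧸ D)) := hPb.of_equiv ConjAct.toConjAct
    obtain ⟨k, hk⟩ := IsPGroup.iff_card.mp (hPb.to_subgroup Qb)
    have hdvd : p ∣ Nat.card Qb := by
      rcases k with _ | k
      · exact absurd (Qb.eq_bot_of_card_eq (by simpa using hk)) hQbne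
      · exact hk ▸ dvd_pow_self p k.succ_ne_zero
    obtain ⟨b, hb, hb1⟩ := hpg.exists_fixed_point_of_prime_dvd_card_of_fixed_point Qb hdvd
      (a := 1) (fun g => by simp)
    refine ⟨b, b.2, mem_center_iff.mpr fun g => ?_, fun h => hb1 (Subtype.ext h.symm)⟩
    have := congrArg Subtype.val (hb (ConjAct.toConjAct g))
    simp only [ConjAct.Subgroup.val_conj_smul, ConjAct.toConjAct_smul] at this
    exact mul_inv_eq_iff_eq_mul.mp this
  obtain ⟨x, hxQ, rfl⟩ := mem_map.mp hyQ
  apply hy1
  rw [QuotientGroup.mk'_apply, QuotientGroup.eq_one_iff]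
  exact hQC ⟨hxQ, (centralizer_le hDC : Q ≤ centralizer (D : Set P)) hxQ, hyc⟩

/-- The same inside an ambient group. -/
theorem exists_class_two_self_centralizing_in [Finite G] [Fact p.Prime] {R : Subgroup G}
    (hR : IsPGroup p R) :
    ∃ C : Subgroup G, C ≤ R ∧ normalizer (R : Set G) ≤ normalizer (C : Set G) ∧
      ⁅C, C⁆ ≤ centralizer (C : Set G) ∧ R ⊓ centralizer (C : Set G) ≤ C := by
  obtain ⟨C, hchar, h1, h2⟩ := exists_class_two_self_centralizing hR
  refine ⟨C.map R.subtype, map_subtype_le _, normalizes_map_characteristic C, ?_, ?_⟩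
  · rw [← map_commutator]
    rintro _ ⟨x, hx, rfl⟩
    rw [mem_centralizer_iff]
    rintro _ ⟨y, hy, rfl⟩
    exact congrArg Subtype.val (mem_centralizer_iff.mp (h1 hx) y hy)
  · intro x hx
    refine ⟨⟨x, hx.1⟩, h2 (mem_centralizer_iff.mpr fun y hy => Subtype.ext ?_), rfl⟩
    exact mem_centralizer_iff.mp hx.2 y ⟨y, hy, rfl⟩

/-- The subgroup of elements killed by `p` in a subgroup of class two, for odd `p`. -/
def omegaClassTwo (hp : p.Prime) (hp2 : p ≠ 2) (C : Subgroup G)
    (hC : ⁅C, C⁆ ≤ centralizer (C : Set G)) : Subgroup G where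
  carrier := {x | x ∈ C ∧ x ^ p = 1}
  one_mem' := ⟨one_mem _, one_pow _⟩
  inv_mem' := fun {x} hx => ⟨inv_mem hx.1, by rw [inv_pow, hx.2, inv_one]⟩
  mul_mem' := fun {c h} hc hh => by
    refine ⟨mul_mem hc.1 hh.1, ?_⟩
    have hz : ⁅h, c⁆ ∈ centralizer (C : Set G) := hC (commutator_mem_commutator hh.1 hc.1)
    obtain ⟨e1, e2⟩ := mul_pow_of_central (z := ⁅h, c⁆) (c := c) (h := h)
      (mem_centralizer_iff.mp hz c hc.1).symm (mem_centralizer_iff.mp hz h hh.1).symm
      (by rw [commutatorElement_def]; group)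
    have hzp : ⁅h, c⁆ ^ p = 1 := by
      have := e1 p
      rw [hh.2, one_mul, mul_one, right_eq_mul] at this
      exact this
    obtain ⟨k, hk⟩ := dvd_choose_two hp hp2
    rw [e2 p, hk, pow_mul, hzp, one_pow, one_mul, hc.2, hh.2, one_mul]

theorem isMulCommutative_closure_of_comm {U : Type*} [Group U] {S : Set U}
    (h : ∀ a ∈ S, ∀ b ∈ S, a * b = b * a) :
    IsMulCommutative ↥(closure S) := by
  have h1 : closure S ≤ centralizer S := (closure_le _).mpr fun a ha =>
    mem_centralizer_iff.mpr fun b hb => h b hb a ha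
  have h2 : closure S ≤ centralizer (closure S : Set U) :=
    (closure_le _).mpr fun a ha => mem_centralizer_iff.mpr fun b hb =>
      (mem_centralizer_iff.mp (h1 hb) a ha).symm
  exact ⟨⟨fun a b => Subtype.ext (mem_centralizer_iff.mp (h2 b.2) a a.2)⟩⟩

theorem mul_le_card_of_lt [Finite G] (hp : p.Prime) {H K : Subgroup G} (hK : IsPGroup p K)
    (h : H < K) : p * Nat.card H ≤ Nat.card K := by
  have : Fact p.Prime := ⟨hp⟩
  obtain ⟨a, ha⟩ := IsPGroup.iff_card.mp (hK.to_le h.le)
  obtain ⟨b, hb⟩ := IsPGroup.iff_card.mp hK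
  have hne : Nat.card H < Nat.card K := by
    refine lt_of_le_of_ne (card_le_of_le h.le) fun e => h.ne ?_
    exact eq_of_le_of_card_ge h.le e.ge
  rw [ha, hb] at hne ⊢
  rw [← pow_succ']
  exact Nat.pow_le_pow_right hp.pos ((Nat.pow_lt_pow_iff_right hp.one_lt).mp hne)

/-- A `p`-group of exponent `p`, class two and rank two: an elementary abelian characteristic quotient
of order at most `p ^ 2` detects the `p'`-automorphisms. -/
theorem exists_small_quotient {U : Type*} [Group U] [Finite U] [hp : Fact p.Prime]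
    (hexp : ∀ u : U, u ^ p = 1) (hcl : ∀ u v w : U, Commute ⁅u, v⁆ w)
    (hr : Cfsg.PRankLE p 2 U) :
    ∃ Z : Subgroup U, ∃ _ : Z.Characteristic,
      (∀ a b : U ⧸ Z, a * b = b * a) ∧ Nat.card (U ⧸ Z) ≤ p ^ 2 ∧
      ∀ σ : U ≃* U, (∀ u, σ u * u⁻¹ ∈ Z) → ∀ z ∈ Z, σ z = z := by
  by_cases hab : ∀ a b : U, a * b = b * a
  · refine ⟨⊥, inferInstance, ?_, ?_, ?_⟩
    · intro a b
      obtain ⟨a, rfl⟩ := QuotientGroup.mk'_surjective _ a
      obtain ⟨b, rfl⟩ := QuotientGroup.mk'_surjective _ b
      rw [← map_mul, ← map_mul, hab]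
    · rw [Nat.card_congr (QuotientGroup.quotientBot (G := U)).toEquiv, ← card_top]
      exact hr ⊤ ⟨⟨fun a b => Subtype.ext (hab a b)⟩⟩ fun a _ => hexp a
    · intro σ _ z hz
      rw [mem_bot] at hz
      rw [hz, map_one]
  have hpg : IsPGroup p U := fun u => ⟨1, by rw [pow_one]; exact hexp u⟩
  set Z := center U with hZ
  have hcomm : ∀ u v : U, ⁅u, v⁆ ∈ Z := fun u v => mem_center_iff.mpr fun w => (hcl u v w).eq.symm
  push Not at hab
  obtain ⟨x, y, hxy⟩ := hab
  have hxZ : x ∉ Z := fun h => hxy (mem_center_iff.mp h y).symm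
  set E := closure ((Z : Set U) ∪ {x}) with hE
  have hEc : IsMulCommutative E := isMulCommutative_closure_of_comm (by
    rintro a (ha | ha) b hb
    · exact (mem_center_iff.mp ha b).symm
    · rcases hb with hb | hb
      · exact mem_center_iff.mp hb a
      · rw [Set.mem_singleton_iff.mp ha, Set.mem_singleton_iff.mp hb])
  have hEcard : Nat.card E ≤ p ^ 2 := hr E hEc fun a _ => hexp a
  have hZE : Z < E := by
    refine lt_of_le_of_ne (fun z hz => subset_closure (Or.inl hz)) fun h => hxZ ?_
    rw [h]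
    exact subset_closure (Or.inr rfl)
  have hZp := mul_le_card_of_lt hp.out (hpg.to_subgroup E) hZE
  have hZle : Nat.card Z ≤ p := by
    have : p * Nat.card Z ≤ p * p := by rw [← pow_two]; omega
    exact Nat.le_of_mul_le_mul_left this hp.out.pos
  have hZcard : Nat.card Z = p := by
    refine le_antisymm hZle ?_
    obtain ⟨k, hk⟩ := IsPGroup.iff_card.mp (hpg.to_subgroup Z)
    rcases k with _ | k
    · exfalso
      have : Nontrivial U := ⟨x, 1, fun h => hxZ (h ▸ one_mem _)⟩
      exact (nontrivial_iff_ne_bot _).mp (hpg.center_nontrivial) (Z.eq_bot_of_card_eq (by simpa using hk))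
    · exact Nat.le_of_dvd Nat.card_pos (hk ▸ dvd_pow_self p k.succ_ne_zero)
  -- the centralizer of `x`
  have hCx : ∀ c ∈ centralizer ({x} : Set U), c ∈ E := by
    intro c hc
    by_contra hcE
    set E' := closure ((E : Set U) ∪ {c}) with hE'
    have hcx : c * x = x * c := (mem_centralizer_iff.mp hc x rfl).symm
    have hcEall : ∀ e ∈ E, c * e = e * c := by
      have : E ≤ centralizer ({c} : Set U) := (closure_le _).mpr (by
        rintro a (ha | ha)
        · exact mem_centralizer_iff.mpr fun b hb => mem_center_iff.mp ha b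
        · exact mem_centralizer_iff.mpr fun b hb => by
            rw [Set.mem_singleton_iff.mp hb, Set.mem_singleton_iff.mp ha]; exact hcx)
      exact fun e he => mem_centralizer_iff.mp (this he) c rfl
    have hc' : IsMulCommutative E' := isMulCommutative_closure_of_comm (by
      rintro a (ha | ha) b (hb | hb)
      · exact congrArg Subtype.val (mul_comm' (⟨a, ha⟩ : E) ⟨b, hb⟩)
      · rw [Set.mem_singleton_iff.mp hb]; exact (hcEall a ha).symm
      · rw [Set.mem_singleton_iff.mp ha]; exact hcEall b hb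
      · rw [Set.mem_singleton_iff.mp ha, Set.mem_singleton_iff.mp hb])
    have hlt : E < E' := lt_of_le_of_ne (fun e he => subset_closure (Or.inl he))
      fun h => hcE (h ▸ subset_closure (Or.inr rfl))
    have h1 := hr E' hc' fun a _ => hexp a
    have h2 := mul_le_card_of_lt hp.out (hpg.to_subgroup E') hlt
    rw [pow_two] at h1
    have h3 : p * p ≤ Nat.card E := by rw [hZcard] at hZp; exact hZp
    nlinarith [Nat.mul_le_mul_left p h3, hp.out.two_le]
  -- `u ↦ [u, x]` has image in the centre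
  let φ : U →* Z := MonoidHom.mk' (fun u => ⟨⁅u, x⁆, hcomm u x⟩) fun a b => Subtype.ext (by
    show ⁅a * b, x⁆ = ⁅a, x⁆ * ⁅b, x⁆
    rw [commutatorElement_mul_left_eq_conj_mul]
    have e1 : a * ⁅b, x⁆ * a⁻¹ = ⁅b, x⁆ := by
      rw [mem_center_iff.mp (hcomm b x) a, mul_inv_cancel_right]
    rw [e1, mem_center_iff.mp (hcomm a x)])
  have hker : φ.ker ≤ E := fun u hu => hCx u (mem_centralizer_iff.mpr fun h hh => by
    rw [Set.mem_singleton_iff.mp hh]
    exact (commutatorElement_eq_one_iff_mul_comm.mp (congrArg Subtype.val hu)).symm)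
  have hU : Nat.card U ≤ p ^ 2 * p := by
    rw [← φ.ker.card_mul_index]
    refine Nat.mul_le_mul ((card_le_of_le hker).trans hEcard) ?_
    rw [index_ker]
    exact (Nat.card_le_card_of_injective _ Subtype.val_injective).trans hZcard.le
  refine ⟨Z, inferInstance, ?_, ?_, ?_⟩
  · intro a b
    obtain ⟨a, rfl⟩ := QuotientGroup.mk'_surjective _ a
    obtain ⟨b, rfl⟩ := QuotientGroup.mk'_surjective _ b
    rw [← commutatorElement_eq_one_iff_mul_comm, ← map_commutatorElement]
    exact (QuotientGroup.eq_one_iff _).mpr (hcomm a b)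
  · rw [card_eq_card_quotient_mul_card_subgroup Z, hZcard] at hU
    exact Nat.le_of_mul_le_mul_right hU hp.out.pos
  · intro σ hσ
    have hfix : ∀ u v : U, σ ⁅u, v⁆ = ⁅u, v⁆ := by
      intro u v
      rw [map_commutatorElement]
      have key : ∀ (z w : U) (hz : z ∈ Z) (w' : U), ⁅z * w, w'⁆ = ⁅w, w'⁆ := by
        intro z w hz w'
        rw [commutatorElement_mul_left_eq_conj_mul,
          commutatorElement_eq_one_iff_mul_comm.mpr (mem_center_iff.mp hz w').symm,
          mul_one, ← mem_center_iff.mp hz ⁅w, w'⁆, mul_inv_cancel_right]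
      have key' : ∀ (z w : U) (hz : z ∈ Z) (w' : U), ⁅w', z * w⁆ = ⁅w', w⁆ := by
        intro z w hz w'
        rw [← commutatorElement_inv, key z w hz, commutatorElement_inv]
      calc ⁅σ u, σ v⁆ = ⁅(σ u * u⁻¹) * u, (σ v * v⁻¹) * v⁆ := by simp
        _ = ⁅u, v⁆ := by rw [key _ _ (hσ u), key' _ _ (hσ v)]
    have hne : ⁅x, y⁆ ≠ 1 := fun h => hxy (commutatorElement_eq_one_iff_mul_comm.mp h)
    have htop : zpowers (⟨⁅x, y⁆, hcomm x y⟩ : Z) = ⊤ :=
      zpowers_eq_top_of_prime_card hZcard fun h => hne (congrArg Subtype.val h)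
    intro z hz
    obtain ⟨k, hk⟩ := mem_zpowers_iff.mp (htop ▸ mem_top (⟨z, hz⟩ : Z))
    have : z = ⁅x, y⁆ ^ k := (congrArg Subtype.val hk).symm.trans (by simp)
    rw [this, map_zpow, hfix]

/-- The automorphism group of an elementary abelian group of order at most `p ^ 2` is linear of degree two. -/
theorem exists_injective_to_GL_two {V : Type*} [Group V] [Finite V] [hp : Fact p.Prime]
    (hc : ∀ a b : V, a * b = b * a) (he : ∀ v : V, v ^ p = 1) (hcard : Nat.card V ≤ p ^ 2) :
    ∃ f : MulAut V →* GL (Fin 2) (ZMod p), Function.Injective f := by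
  letI : CommGroup V := { ‹Group V› with mul_comm := hc }
  letI : Module (ZMod p) (Additive V) :=
    AddCommGroup.zmodModule (n := p) (G := Additive V) fun v => he v.toMul
  haveI : Module.Finite (ZMod p) (Additive V) := Module.Finite.of_finite
  set k := Module.finrank (ZMod p) (Additive V) with hk
  have hk2 : k ≤ 2 := by
    have h1 : Nat.card (Additive V) = p ^ k := by
      have h := @Module.natCard_eq_pow_finrank (ZMod p) (Additive V) _ _ _ ‹_›
      rwa [Nat.card_zmod] at h
    rw [show Nat.card (Additive V) = Nat.card V from rfl] at h1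
    exact (Nat.pow_le_pow_iff_right hp.out.one_lt).mp (h1 ▸ hcard)
  obtain ⟨l, hl⟩ : ∃ l, k + l = 2 := ⟨2 - k, by omega⟩
  let e : Fin k ⊕ Fin l ≃ Fin 2 := finSumFinEquiv.trans (finCongr hl)
  let b : Module.Basis (Fin k) (ZMod p) (Additive V) := @Module.finBasis (ZMod p) (Additive V) _ _ _ (Module.Free.of_divisionRing _ _) _ ‹_›
  let pad : Matrix (Fin k) (Fin k) (ZMod p) →* Matrix (Fin 2) (Fin 2) (ZMod p) :=
    { toFun := fun X => Matrix.reindex e e (Matrix.fromBlocks X 0 0 1)
      map_one' := by simp [Matrix.fromBlocks_one]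
      map_mul' := fun X Y => by simp [Matrix.fromBlocks_multiply] }
  let toMat : MulAut V →* Matrix (Fin k) (Fin k) (ZMod p) :=
    { toFun := fun σ => LinearMap.toMatrixAlgEquiv b
        ((MonoidHom.toAdditive σ.toMonoidHom).toZModLinearMap p)
      map_one' := by
        rw [← map_one (LinearMap.toMatrixAlgEquiv b)]
        rfl
      map_mul' := fun σ τ => by
        rw [← map_mul]
        rfl }
  refine ⟨(pad.comp toMat).toHomUnits, fun σ τ h => ?_⟩
  have h' : toMat σ = toMat τ := by
    have h1 : pad (toMat σ) = pad (toMat τ) := congrArg Units.val h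
    have h2 := (Matrix.reindex e e).injective h1
    exact (Matrix.fromBlocks_inj.mp h2).1
  have h2 := (LinearMap.toMatrixAlgEquiv b).injective h'
  apply MulEquiv.ext
  intro v
  exact congrArg Additive.toMul (LinearMap.congr_fun h2 (Additive.ofMul v))

theorem mem_zpowers_pow_of_coprime {a : G} {n : ℕ} [Finite G] (h : (orderOf a).Coprime n) :
    a ∈ zpowers (a ^ n) := by
  obtain ⟨m, hm⟩ := exists_pow_eq_self_of_coprime h.symm
  exact ⟨m, by simpa using hm⟩

/-- The linear representation of degree two detecting the `p'`-operators of a rank two `p`-group. -/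
theorem exists_rank_two_rep [Finite G] [hp : Fact p.Prime] (hp2 : p ≠ 2) {R : Subgroup G}
    (hR : IsPGroup p R) (hr : Cfsg.PRankLE p 2 R) :
    ∃ ψ : ↥(normalizer (R : Set G)) →* GL (Fin 2) (ZMod p),
      ∀ a : ↥(normalizer (R : Set G)), ψ a = 1 → (orderOf (a : G)).Coprime p →
        (a : G) ∈ centralizer (R : Set G) := by
  obtain ⟨C, hCR, hN, hC2, hCself⟩ := exists_class_two_self_centralizing_in hR
  set U := omegaClassTwo hp.out hp2 C hC2 with hU
  have hUC : U ≤ C := fun x hx => hx.1
  have hNU : normalizer (R : Set G) ≤ normalizer (U : Set G) :=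
    le_normalizer_iff.mpr fun g hg x hx =>
      ⟨le_normalizer_iff.mp le_rfl g (hN hg) x hx.1, by rw [conj_pow, hx.2, mul_one, mul_inv_cancel]⟩
  obtain ⟨Z, hZ, hc, hcard, hfix⟩ := exists_small_quotient (U := U) (p := p)
    (fun u => Subtype.ext (by simpa using u.2.2))
    (fun u v w => Subtype.ext (by
      have := mem_centralizer_iff.mp (hC2 (commutator_mem_commutator u.2.1 v.2.1)) w w.2.1
      simpa [commutatorElement_def] using this.symm))
    (prankLE_mono (hUC.trans hCR) hr)
  have he : ∀ v : U ⧸ Z, v ^ p = 1 := by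
    intro v
    obtain ⟨u, rfl⟩ := QuotientGroup.mk'_surjective _ v
    rw [← map_pow, show u ^ p = 1 from Subtype.ext (by simpa using u.2.2), map_one]
  obtain ⟨f, hf⟩ := exists_injective_to_GL_two hc he hcard
  let σ : ↥(normalizer (R : Set G)) →* MulAut U :=
    (normalizerMonoidHom U).comp (inclusion hNU)
  have hmapZ : ∀ τ : MulAut U, Z.map (τ : U →* U) = Z := characteristic_iff_map_eq.mp hZ
  let ρ : MulAut U →* MulAut (U ⧸ Z) :=
    { toFun := fun τ => QuotientGroup.congr Z Z τ (hmapZ τ)
      map_one' := MulEquiv.ext fun q => by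
        obtain ⟨u, rfl⟩ := QuotientGroup.mk'_surjective _ q
        rfl
      map_mul' := fun τ τ' => MulEquiv.ext fun q => by
        obtain ⟨u, rfl⟩ := QuotientGroup.mk'_surjective _ q
        rfl }
  refine ⟨f.comp (ρ.comp σ), fun a ha hcop => ?_⟩
  have h1 : ρ (σ a) = 1 := hf (by rw [map_one]; exact ha)
  have h2 : ∀ u, σ a u * u⁻¹ ∈ Z := by
    intro u
    rw [← QuotientGroup.eq_one_iff, QuotientGroup.mk_mul, QuotientGroup.mk_inv]
    have := MulEquiv.congr_fun h1 (u : U ⧸ Z)
    exact mul_inv_eq_one.mpr this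
  have h3 := hfix (σ a) h2
  have hap : ∀ u : U, (a : G) ^ p * u * ((a : G) ^ p)⁻¹ = u := by
    intro u
    set z := σ a u * u⁻¹ with hz
    have hz1 : (a : G) * z * (a : G)⁻¹ = z := congrArg Subtype.val (h3 z (h2 u))
    have hz2 : (a : G) * u * (a : G)⁻¹ = z * u := by
      rw [hz]; simp [σ]
    rw [pow_conj_of_commute (mul_inv_eq_iff_eq_mul.mp hz1) hz2 p, z.2.2, one_mul]
  -- `a` centralizes `U`
  have hA : zpowers (a : G) ≤ normalizer (R : Set G) := zpowers_le.mpr a.2
  have hAU : zpowers (a : G) ≤ centralizer (U : Set G) := by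
    refine zpowers_le.mpr ?_
    refine (zpowers_le.mpr ?_) (mem_zpowers_pow_of_coprime hcop)
    exact mem_centralizer_iff.mpr fun u hu => (mul_inv_eq_iff_eq_mul.mp (hap ⟨u, hu⟩)).symm
  have hcopA : (Nat.card (zpowers (a : G))).Coprime p := by rwa [Nat.card_zpowers]
  have hAC : C ≤ centralizer (zpowers (a : G) : Set G) :=
    le_centralizer_of_order_p hp2 hcopA (hR.to_le hCR) (hA.trans hN) fun x hx hxp =>
      le_centralizer_symm hAU ⟨hx, hxp ▸ pow_orderOf_eq_one x⟩
  obtain ⟨k, hk⟩ := IsPGroup.iff_card.mp hR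
  have hRc : R ≤ centralizer (zpowers (a : G) : Set G) := by
    refine le_centralizer_of_self_centralizing hR.isNilpotent hA (hk ▸ hcopA.pow_right k) ?_
    refine le_trans ?_ (le_inf hCR hAC)
    exact (le_inf inf_le_left (inf_le_right.trans (centralizer_le (le_inf hCR hAC)))).trans hCself
  exact le_centralizer_symm hRc (mem_zpowers _)

/-- Blackburn's theorem in operator form: `p'`-elements of the derived operator group act trivially. -/
theorem commutator_coprime_le_centralizer [Finite G] [Fact p.Prime] (hp2 : p ≠ 2) {R A : Subgroup G}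
    (hR : IsPGroup p R) (hr : Cfsg.PRankLE p 2 R) (hA : A ≤ normalizer (R : Set G))
    (hAs : Group.IsSolvable A) (hodd : Odd (Nat.card A)) {a : G} (ha : a ∈ ⁅A, A⁆)
    (hcop : (orderOf a).Coprime p) : a ∈ centralizer (R : Set G) := by
  obtain ⟨ψ, hψ⟩ := exists_rank_two_rep hp2 hR hr
  set θ := ψ.comp (inclusion hA) with hθ
  have hodd' : Odd (Nat.card θ.range) := hodd.of_dvd_nat (card_range_dvd θ)
  have : Group.IsSolvable θ.range :=
    solvable_of_surjective θ.rangeRestrict_surjective
  have hP := isPGroup_commutator_of_GL_two hp2 hodd' θ.range.subtype θ.range.subtype_injective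
  rw [← map_subtype_commutator] at ha
  obtain ⟨a, ha', rfl⟩ := ha
  have h1 : θ.rangeRestrict a ∈ commutator θ.range :=
    Abelianization.commutator_subset_ker (Abelianization.of.comp θ.rangeRestrict) ha' |> fun h => by
      rw [← Abelianization.ker_of]
      exact h
  have h2 : θ.rangeRestrict a = 1 := by
    obtain ⟨k, hk⟩ := hP ⟨_, h1⟩
    have hk' : θ.rangeRestrict a ^ p ^ k = 1 := congrArg Subtype.val hk
    rw [← orderOf_eq_one_iff]
    refine Nat.eq_one_of_dvd_coprimes (hcop.pow_right k) ?_ (orderOf_dvd_of_pow_eq_one hk')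
    exact (orderOf_map_dvd θ.rangeRestrict a).trans (by simp)
  exact hψ (inclusion hA a) (congrArg Subtype.val h2) hcop

/-- Elements of `q`-power order, `q > p` odd, act trivially on a rank two `p`-group. -/
theorem prime_pow_mem_centralizer [Finite G] [Fact p.Prime] (hp2 : p ≠ 2) {R : Subgroup G}
    (hR : IsPGroup p R) (hr : Cfsg.PRankLE p 2 R) {a : G} (ha : a ∈ normalizer (R : Set G))
    {q k : ℕ} (hq : q.Prime) (hq2 : q ≠ 2) (hqp : p < q) (hord : orderOf a ∣ q ^ k) :
    a ∈ centralizer (R : Set G) := by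
  obtain ⟨ψ, hψ⟩ := exists_rank_two_rep hp2 hR hr
  have hcop : (orderOf a).Coprime p := Nat.Coprime.coprime_dvd_left hord
    (Nat.Coprime.pow_left k ((Nat.coprime_primes hq Fact.out).mpr hqp.ne'))
  refine hψ ⟨a, ha⟩ ?_ hcop
  rw [← orderOf_eq_one_iff]
  obtain ⟨j, -, hj⟩ := (Nat.dvd_prime_pow hq).mp
    ((orderOf_map_dvd ψ ⟨a, ha⟩).trans (by rw [orderOf_mk]; exact hord))
  rcases j with _ | j
  · simpa using hj
  · exfalso
    have := le_of_dvd_card_GL_two hp2 hq hq2
      ((dvd_pow_self q j.succ_ne_zero).trans (hj ▸ orderOf_dvd_natCard (ψ ⟨a, ha⟩)))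
    omega

end Cfsg.Agent.OddLocal43
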