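import Cfsg.Prelude.Def_OddOrderLocal
import Cfsg.Prelude.Def_Local
import Cfsg.Agent.OddLocal43.RankTwo
import Cfsg.Agent.Lib.Thompson.Cores
import Cfsg.Agent.Lib.Thompson.PSolvable
import Cfsg.Agent.Lib.Fitting.Minimal

/-!
# Solvable groups of odd order with small rank
-/

set_option autoImplicit false

namespace Cfsg.Agent.OddLocal43

open Subgroup
open scoped commutatorElement

variable {G : Type*} [Group G] {p : ℕ}

theorem ne_two_of_dvd_odd {n q : ℕ} (hn : Odd n) (h : q ∣ n) : q ≠ 2 := by
  rintro rfl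
  exact (Nat.not_even_iff_odd.mpr hn) (even_iff_two_dvd.mpr h)

theorem eq_one_of_isPGroup_of_coprime (hp : p.Prime) {H : Subgroup G} (hH : IsPGroup p H) {g : G}
    (hg : g ∈ H) (hcop : (orderOf g).Coprime p) : g = 1 := by
  obtain ⟨k, hk⟩ := hH ⟨g, hg⟩
  rw [← orderOf_eq_one_iff]
  exact Nat.eq_one_of_dvd_coprimes (hcop.pow_right k) dvd_rfl
    (orderOf_dvd_of_pow_eq_one (congrArg Subtype.val hk))

theorem isPGroup_of_coprime_eq_one [Finite G] [hp : Fact p.Prime] {K : Subgroup G}
    (h : ∀ b ∈ K, (orderOf b).Coprime p → b = 1) : IsPGroup p K := by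
  intro g
  obtain ⟨a, m, hm, ho⟩ := Nat.exists_eq_pow_mul_and_not_dvd (orderOf_pos (g : G)).ne' p hp.out.ne_one
  refine ⟨a, Subtype.ext ?_⟩
  refine h _ (pow_mem g.2 _) (Nat.Coprime.coprime_dvd_left (orderOf_dvd_of_pow_eq_one ?_)
    ((hp.out.coprime_iff_not_dvd.mpr hm).symm))
  rw [Subgroup.coe_pow, ← pow_mul, ← ho, pow_orderOf_eq_one]

/-- All elements of `p`-power order of a subgroup containing every Sylow subgroup give everything. -/
theorem eq_top_of_prime_pow_mem [Finite G] {K : Subgroup G}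
    (h : ∀ (q k : ℕ), q.Prime → ∀ g : G, orderOf g = q ^ k → g ∈ K) : K = ⊤ := by
  rw [← index_eq_one]
  by_contra hne
  obtain ⟨q, hq, hdvd⟩ := Nat.exists_prime_and_dvd hne
  have : Fact q.Prime := ⟨hq⟩
  obtain ⟨S⟩ : Nonempty (Sylow q G) := inferInstance
  refine S.not_dvd_index' Subgroup.index_ne_zero_of_finite (hdvd.trans (index_dvd_of_le ?_))
  intro g hg
  obtain ⟨m, hm⟩ := S.isPGroup' ⟨g, hg⟩
  obtain ⟨k, -, hk⟩ := (Nat.dvd_prime_pow hq).mp (orderOf_dvd_of_pow_eq_one (congrArg Subtype.val hm))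
  exact h q k hq g hk

/-- The `p`-rank does not grow modulo a normal subgroup of order prime to `p`. -/
theorem prankLE_quotient [Finite G] [hp : Fact p.Prime] {k : ℕ} (N : Subgroup G) [N.Normal]
    (hN : (Nat.card N).Coprime p) (h : Cfsg.PRankLE p k G) : Cfsg.PRankLE p k (G ⧸ N) := by
  intro A hA hAp
  set H := A.comap (QuotientGroup.mk' N) with hH
  have hNH : N ≤ H := fun x hx => by
    rw [hH, mem_comap, QuotientGroup.mk'_apply, (QuotientGroup.eq_one_iff x).mpr hx]
    exact one_mem _
  have hApg : IsPGroup p A := fun a => ⟨1, Subtype.ext (by rw [pow_one, Subgroup.coe_pow]; exact hAp a a.2)⟩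
  obtain ⟨e, he⟩ := IsPGroup.iff_card.mp hApg
  have hrel : (N.subgroupOf H).index = Nat.card A := by
    have h1 := relIndex_comap (⊥ : Subgroup (G ⧸ N)) (QuotientGroup.mk' N) H
    rw [MonoidHom.comap_bot, QuotientGroup.ker_mk', hH,
      map_comap_eq_self_of_surjective (QuotientGroup.mk'_surjective N), relIndex_bot_left] at h1
    exact h1
  obtain ⟨K, hK⟩ := exists_right_complement'_of_coprime (N := N.subgroupOf H) (by
    rw [hrel, he, Nat.card_congr (subgroupOfEquivOfLe hNH).toEquiv]
    exact hN.pow_right e)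
  have hKcard : Nat.card K = Nat.card A := by
    rw [← hrel, hK.symm.index_eq_card]
  let f : K →* G := H.subtype.comp K.subtype
  have hf : Function.Injective f := H.subtype_injective.comp K.subtype_injective
  have hsep : ∀ x : K, QuotientGroup.mk' N (f x) = 1 → x = 1 := by
    intro x hx
    have h1 : (x : H) ∈ N.subgroupOf H := mem_subgroupOf.mpr ((QuotientGroup.eq_one_iff _).mp hx)
    have h2 := hK.disjoint.le_bot ⟨h1, x.2⟩
    exact Subtype.ext (mem_bot.mp h2)
  have hmem : ∀ x : K, QuotientGroup.mk' N (f x) ∈ A := fun x => (x : H).2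
  have hKc : IsMulCommutative (⊤ : Subgroup K) := ⟨⟨fun a b => Subtype.ext (by
    apply eq_of_mul_inv_eq_one
    refine hsep _ ?_
    simp only [map_mul, map_inv]
    rw [mul_inv_eq_one, Subgroup.coe_mul, Subgroup.coe_mul, map_mul, map_mul, map_mul, map_mul]
    exact congrArg Subtype.val (mul_comm' (⟨_, hmem a⟩ : A) ⟨_, hmem b⟩))⟩⟩
  have := prankLE_of_injective f hf h ⊤ hKc fun a _ => hsep _ (by
    rw [map_pow, map_pow]
    exact hAp _ (hmem a))
  rwa [card_top, hKcard] at this

section Solvable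

variable [Finite G] [Group.IsSolvable G] [hp : Fact p.Prime]

theorem centralizer_pCore_le_of_solvable (hO : Cfsg.pPrimeCore p G = ⊥) :
    centralizer (Cfsg.pCore p G : Set G) ≤ Cfsg.pCore p G := by
  have hF : Cfsg.fittingSubgroup G ≤ Cfsg.pCore p G := by
    rw [Fitting.fitting_eq_iSup_pCore]
    refine iSup_le fun q => ?_
    by_cases hqp : (q : ℕ) = p
    · rw [hqp]
    · have : Fact (q : ℕ).Prime := ⟨q.2⟩
      obtain ⟨k, hk⟩ := IsPGroup.iff_card.mp (Thompson.isPGroup_pCore (p := q) (G := G))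
      refine (le_bot_iff.mpr ?_).trans bot_le
      rw [← le_bot_iff, ← hO]
      exact Thompson.le_pPrimeCore inferInstance
        (hk ▸ Nat.Coprime.pow_left k ((Nat.coprime_primes q.2 hp.out).mpr hqp))
  exact (centralizer_le hF).trans (Fitting.centralizer_fitting_le.trans hF)

/-- Core facts for a solvable group of odd order of `p`-rank two with trivial `p'`-core. -/
theorem reduced_rank_two (hodd : Odd (Nat.card G)) (hp2 : p ≠ 2) (hr : Cfsg.PRankLE p 2 G)
    (hO : Cfsg.pPrimeCore p G = ⊥) :
    IsPGroup p (commutator G) ∧ commutator G ≤ Cfsg.pCore p G ∧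
      ((Cfsg.pCore p G).index).Coprime p ∧ ∀ q : ℕ, q.Prime → q ∣ Nat.card G → q ≤ p := by
  set R := Cfsg.pCore p G with hR
  have hRp : IsPGroup p R := Thompson.isPGroup_pCore
  have hrR : Cfsg.PRankLE p 2 R := prankLE_of_injective R.subtype R.subtype_injective hr
  have hC : centralizer (R : Set G) ≤ R := centralizer_pCore_le_of_solvable hO
  have hN : (⊤ : Subgroup G) ≤ normalizer (R : Set G) := le_normalizer_of_normal
  have hd : IsPGroup p (commutator G) := by
    refine isPGroup_of_coprime_eq_one fun b hb hcop => ?_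
    refine eq_one_of_isPGroup_of_coprime hp.out hRp (hC ?_) hcop
    exact commutator_coprime_le_centralizer hp2 hRp hrR hN
      (Group.isSolvable_of_surjective (f := (Subgroup.topEquiv (G := G)).symm.toMonoidHom)
        (Subgroup.topEquiv (G := G)).symm.surjective)
      (by rwa [card_top]) (by rwa [← commutator_def]) hcop
  have hle : commutator G ≤ R := Thompson.le_pCore inferInstance hd
  refine ⟨hd, hle, ?_, ?_⟩
  · obtain ⟨S⟩ : Nonempty (Sylow p G) := inferInstance
    have hRS : R ≤ (S : Subgroup G) := Thompson.pCore_le_sylow S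
    have hSn : (S : Subgroup G).Normal := Subgroup.Normal.of_commutator_le G (hle.trans hRS)
    have : (S : Subgroup G) = R := le_antisymm (Thompson.le_pCore hSn S.isPGroup') hRS
    rw [← this]
    exact (hp.out.coprime_iff_not_dvd.mpr (S.not_dvd_index' Subgroup.index_ne_zero_of_finite)).symm
  · intro q hq hdvd
    by_contra hlt
    have : Fact q.Prime := ⟨hq⟩
    obtain ⟨g, hg⟩ := exists_prime_orderOf_dvd_card' q hdvd
    have h1 : g ∈ centralizer (R : Set G) := prime_pow_mem_centralizer hp2 hRp hrR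
      (hN (mem_top g)) hq (ne_two_of_dvd_odd hodd hdvd) (by omega) (k := 1) (by rw [hg, pow_one])
    have h2 : g = 1 := eq_one_of_isPGroup_of_coprime hp.out hRp (hC h1) (by
      rw [hg]; exact (Nat.coprime_primes hq hp.out).mpr (by omega))
    rw [h2, orderOf_one] at hg
    exact hq.ne_one hg.symm

end Solvable

/-- A normal subgroup of order prime to `p` with `p`-group quotient gives a normal `p`-complement. -/
theorem hasNormalPComplement_of_quotient [Finite G] [hp : Fact p.Prime] (N : Subgroup G) [N.Normal]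
    (hN : (Nat.card N).Coprime p) (hidx : IsPGroup p (G ⧸ N)) :
    Cfsg.HasNormalPComplement p G := by
  obtain ⟨S⟩ : Nonempty (Sylow p G) := inferInstance
  refine ⟨S, N, inferInstance, isComplement'_of_coprime ?_ ?_⟩
  · obtain ⟨k, hk⟩ := IsPGroup.iff_card.mp hidx
    have h1 : Nat.card G = p ^ k * Nat.card N := by
      rw [card_eq_card_quotient_mul_card_subgroup N, hk]
    rw [S.card_eq_multiplicity, h1, Nat.factorization_mul (pow_ne_zero _ hp.out.ne_zero)
      Nat.card_pos.ne', Finsupp.add_apply, hp.out.factorization_pow, Finsupp.single_eq_same,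
      Nat.factorization_eq_zero_of_not_dvd (hp.out.coprime_iff_not_dvd.mp hN.symm), add_zero,
      mul_comm]
  · obtain ⟨k, hk⟩ := IsPGroup.iff_card.mp S.isPGroup'
    rw [hk]
    exact hN.pow_right k

end Cfsg.Agent.OddLocal43
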