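import Cfsg.Agent.OddLocal43.FrobeniusAction
import Cfsg.Agent.OddLocal43.Coprime
import Cfsg.Agent.Lib.Coprime.Action
import Cfsg.Agent.Lib.Fitting
import Cfsg.Agent.Lib.Frobenius.Nilpotent
import Cfsg.Agent.Lib.Frobenius.Kernel

/-!
# Frobenius groups acting on nilpotent groups

For a Frobenius group `K R` acting coprimely on a nilpotent group `M` with `C_M K = 1`:
`card M = card (C_M R) ^ card R`, and `[K, K]` acts trivially when `C_M R` is cyclic.
-/

set_option autoImplicit false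

namespace Cfsg.Agent.OddLocal43

open Subgroup
open scoped Pointwise commutatorElement

universe u

/-- The kernel of a Frobenius pair of subgroups is nilpotent. -/
theorem isNilpotent_of_frobenius {X : Type u} [Group X] [Finite X] (K R : Subgroup X) (hK1 : K ≠ ⊥)
    (hR1 : R ≠ ⊥) (hRK : R ≤ normalizer (K : Set X)) (hKR : K ⊓ R = ⊥)
    (hfpf : ∀ r ∈ R, r ≠ 1 → K ⊓ centralizer ({r} : Set X) = ⊥) : Group.IsNilpotent K := by
  have hc := isComplement'_subgroupOf_sup hRK hKR
  have : (K.subgroupOf (K ⊔ R)).Normal :=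
    normal_subgroupOf_of_le_normalizer (sup_le le_normalizer hRK)
  have hne : ∀ {H : Subgroup X}, H ≤ K ⊔ R → H ≠ ⊥ → H.subgroupOf (K ⊔ R) ≠ ⊥ := fun {H} hH h1 h =>
    h1 (le_bot_iff.mp ((le_inf le_rfl hH).trans (disjoint_iff.mp (subgroupOf_eq_bot.mp h)).le))
  have hF : Cfsg.IsFrobeniusComplement (R.subgroupOf (K ⊔ R)) := by
    refine Frobenius.isFrobeniusComplement_of_fixedPointFree hc (hne le_sup_left hK1)
      (hne le_sup_right hR1) fun r hr hr1 => ?_
    rw [eq_bot_iff_forall]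
    rintro k ⟨hk, hkc⟩
    have h1 : (k : X) ∈ K ⊓ centralizer ({(r : X)} : Set X) :=
      ⟨hk, mem_centralizer_singleton_iff.mpr (congrArg Subtype.val (mem_centralizer_singleton_iff.mp hkc))⟩
    rw [hfpf r hr fun h => hr1 (Subtype.ext h)] at h1
    exact Subtype.ext (mem_bot.mp h1)
  obtain ⟨N, hN, -, hnil⟩ := Frobenius.frobeniusKernel_isNilpotent hF
  have hNK : N = K.subgroupOf (K ⊔ R) :=
    SetLike.coe_injective (hN.trans (Frobenius.coe_eq_frobeniusKernel hc hF).symm)
  subst hNK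
  have := Fitting.isNilpotent_map (K ⊔ R).subtype hnil
  rwa [map_subgroupOf_eq_of_le le_sup_left] at this

variable {X : Type u} [Group X] [Finite X]

/-- A nontrivial nilpotent subgroup has a nontrivial elementary abelian invariant central subgroup. -/
theorem exists_elementary_central (M : Subgroup X) (hMn : Group.IsNilpotent M) (hM : M ≠ ⊥) :
    ∃ (ℓ : ℕ) (N : Subgroup X), ℓ.Prime ∧ Cfsg.IsElementaryAbelian ℓ N ∧ N ≠ ⊥ ∧ N ≤ M ∧
      normalizer (M : Set X) ≤ normalizer (N : Set X) ∧ ℓ ∣ Nat.card M := by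
  have : Nontrivial M := (nontrivial_iff_ne_bot M).mpr hM
  have hZ : center M ≠ ⊥ := by
    have := Fitting.inf_center_ne_bot (N := (⊤ : Subgroup M)) top_ne_bot
    simpa using this
  have h1 : Nat.card (center M) ≠ 1 := fun h => hZ ((center M).eq_bot_of_card_eq h)
  obtain ⟨ℓ, hℓ, hdvd⟩ := Nat.exists_prime_and_dvd h1
  have := Fact.mk hℓ
  obtain ⟨z, hz⟩ := exists_prime_orderOf_dvd_card' (G := center M) ℓ hdvd
  let N : Subgroup X :=
    { carrier := {x | x ∈ M ∧ (∀ m ∈ M, Commute m x) ∧ x ^ ℓ = 1}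
      one_mem' := ⟨one_mem _, fun m _ => Commute.one_right m, one_pow _⟩
      mul_mem' := fun {a b} ha hb => ⟨mul_mem ha.1 hb.1, fun m hm => (ha.2.1 m hm).mul_right (hb.2.1 m hm),
        by rw [(hb.2.1 a ha.1).mul_pow, ha.2.2, hb.2.2, one_mul]⟩
      inv_mem' := fun {a} ha => ⟨inv_mem ha.1, fun m hm => (ha.2.1 m hm).inv_right,
        by rw [inv_pow, ha.2.2, inv_one]⟩ }
  refine ⟨ℓ, N, hℓ, ⟨⟨⟨fun a b => Subtype.ext (b.2.2.1 a a.2.1)⟩⟩, fun x hx => hx.2.2⟩, fun h => ?_,
    fun x hx => hx.1, ?_, hdvd.trans (card_subgroup_dvd_card _)⟩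
  · have hzN : ((z : M) : X) ∈ N := ⟨(z : M).2, fun m hm =>
      congrArg Subtype.val (mem_center_iff.mp z.2 ⟨m, hm⟩),
      by rw [← hz]; exact congrArg (fun y : center M => ((y : M) : X)) (pow_orderOf_eq_one z)⟩
    rw [h] at hzN
    have : z = 1 := Subtype.ext (Subtype.ext (mem_bot.mp hzN))
    rw [this, orderOf_one] at hz
    exact hℓ.ne_one hz.symm
  · refine le_normalizer_iff.mpr fun g hg x hx => ⟨(mem_normalizer_iff.mp hg x).mp hx.1, fun m hm => ?_, ?_⟩
    · have hm' : g⁻¹ * m * g ∈ M := (mem_normalizer_iff.mp hg _).mpr (by simpa [mul_assoc] using hm)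
      have hc := congrArg (fun t => g * t * g⁻¹) (hx.2.1 _ hm').eq

      show m * (g * x * g⁻¹) = g * x * g⁻¹ * m
      calc m * (g * x * g⁻¹) = g * (g⁻¹ * m * g * x) * g⁻¹ := by group
        _ = g * (x * (g⁻¹ * m * g)) * g⁻¹ := hc
        _ = g * x * g⁻¹ * m := by group
    · rw [conj_pow, hx.2.2, mul_one, mul_inv_cancel]

omit [Finite X] in
theorem card_map_eq_of_inf_eq_bot (N : Subgroup X) [N.Normal] {H : Subgroup X} (h : H ⊓ N = ⊥) :
    Nat.card (H.map (QuotientGroup.mk' N)) = Nat.card H := by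
  refine (Nat.card_congr (Equiv.ofBijective
    (fun x : H => (⟨QuotientGroup.mk' N x, mem_map_of_mem _ x.2⟩ : H.map (QuotientGroup.mk' N))) ⟨?_, ?_⟩)).symm
  · intro a b hab
    have h1 := (QuotientGroup.eq (s := N)).mp (congrArg Subtype.val hab)
    have h2 : (a : X)⁻¹ * b ∈ H ⊓ N := mem_inf.mpr ⟨mul_mem (inv_mem a.2) b.2, h1⟩
    rw [h, mem_bot, inv_mul_eq_one] at h2
    exact Subtype.ext h2
  · rintro ⟨_, x, hx, rfl⟩
    exact ⟨⟨x, hx⟩, rfl⟩

theorem card_map_mul_card (N : Subgroup X) [N.Normal] (H : Subgroup X) :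
    Nat.card (H.map (QuotientGroup.mk' N)) * Nat.card ↥(H ⊓ N) = Nat.card H := by
  have hker : ((QuotientGroup.mk' N).comp H.subtype).ker = N.subgroupOf H := by
    ext x; simp [mem_subgroupOf]
  have h := ((QuotientGroup.mk' N).comp H.subtype).ker.card_mul_index
  rw [Subgroup.index_ker, MonoidHom.range_comp, range_subtype, hker,
    ← inf_subgroupOf_left, Nat.card_congr (subgroupOfEquivOfLe inf_le_left).toEquiv] at h
  rw [mul_comm, h]

/-- Fixed points in the image of an invariant subgroup are images of fixed points. -/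
theorem map_inf_centralizer (N : Subgroup X) [N.Normal] (A M : Subgroup X)
    (hcop : (Nat.card A).Coprime (Nat.card N)) (hsolv : Group.IsSolvable N) (hNM : N ≤ M) :
    M.map (QuotientGroup.mk' N) ⊓ centralizer (A.map (QuotientGroup.mk' N) : Set (X ⧸ N)) =
      (M ⊓ centralizer (A : Set X)).map (QuotientGroup.mk' N) := by
  refine le_antisymm ?_ ?_
  · rintro _ ⟨⟨m, hm, rfl⟩, hc⟩
    have hN : normalizer (N : Set X) = ⊤ := normalizer_eq_top_iff.mpr inferInstance
    obtain ⟨n, hn, hmn⟩ := Coprime.exists_fixed_in_coset_of_normal A N (hN ▸ le_top) hcop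
      (Or.inr hsolv) m (hN ▸ mem_top m) (fun a ha => by
        have h1 := mem_centralizer_iff.mp hc _ (mem_map_of_mem (QuotientGroup.mk' N) ha)
        rw [← QuotientGroup.eq_one_iff]
        simp only [QuotientGroup.mk'_apply] at h1
        simp only [QuotientGroup.mk_mul, QuotientGroup.mk_inv, h1]
        group)
    refine ⟨m * n, ⟨mul_mem hm (hNM hn), hmn⟩, ?_⟩
    simp [(QuotientGroup.eq_one_iff n).mpr hn]
  · rintro _ ⟨m, hm, rfl⟩
    refine ⟨mem_map_of_mem _ hm.1, mem_centralizer_iff.mpr ?_⟩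
    rintro _ ⟨a, ha, rfl⟩
    rw [← map_mul, ← map_mul, mem_centralizer_iff.mp hm.2 a ha]

/-- The normal case of `frobenius_nilpotent_action`. -/
theorem frobenius_nilpotent_action_of_normal (n : ℕ) :
    ∀ {X : Type u} [Group X] [Finite X] (K R M : Subgroup X) [M.Normal], Nat.card M ≤ n →
      R ≤ normalizer (K : Set X) → K ⊓ R = ⊥ →
      (∀ r ∈ R, r ≠ 1 → K ⊓ centralizer ({r} : Set X) = ⊥) →
      Group.IsNilpotent M → (Nat.card ↥(K ⊔ R)).Coprime (Nat.card M) →
      M ⊓ centralizer (K : Set X) = ⊥ →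
      Nat.card M = Nat.card ↥(M ⊓ centralizer (R : Set X)) ^ Nat.card R ∧
        (IsCyclic ↥(M ⊓ centralizer (R : Set X)) → Group.IsNilpotent K →
          ⁅K, K⁆ ≤ centralizer (M : Set X)) := by
  induction n using Nat.strong_induction_on with
  | _ n ih =>
  intro X _ _ K R M _ hn hRK hKR hfpf hMn hcop hCK
  by_cases hM : M = ⊥
  · subst hM
    refine ⟨by rw [bot_inf_eq, card_bot, one_pow], fun _ _ => ?_⟩
    intro g _
    exact mem_centralizer_iff.mpr fun x hx => by rw [mem_bot.mp hx, one_mul, mul_one]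
  obtain ⟨ℓ, N, hℓ, hNe, hN1, hNM, hnorm, hdvd⟩ := exists_elementary_central M hMn hM
  have := Fact.mk hℓ
  have hMtop : normalizer (M : Set X) = ⊤ := normalizer_eq_top_iff.mpr inferInstance
  have : N.Normal := normalizer_eq_top_iff.mp (top_le_iff.mp (hMtop ▸ hnorm))
  have hNn : ∀ H : Subgroup X, H ≤ normalizer (N : Set X) := fun H =>
    (normalizer_eq_top_iff.mpr ‹N.Normal›) ▸ le_top
  have hcopℓ : (Nat.card ↥(K ⊔ R)).Coprime ℓ := hcop.coprime_dvd_right hdvd
  have hcopN : (Nat.card ↥(K ⊔ R)).Coprime (Nat.card N) := hcop.coprime_dvd_right (card_dvd_of_le hNM)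
  have hNc := hNe.1
  have hNs : Group.IsSolvable N := isSolvable_of_comm fun a b => hNc.is_comm.comm a b
  have hNR := card_eq_pow_of_frobenius K R N hNe hcopℓ hRK hKR hfpf (hNn K) (hNn R)
    (le_bot_iff.mp ((inf_le_inf_right _ hNM).trans hCK.le))
  set f := QuotientGroup.mk' N with hf
  have hbot : ∀ H : Subgroup X, H ≤ K ⊔ R → H ⊓ N = ⊥ := fun H hH =>
    inf_eq_bot_of_coprime (hcopN.coprime_dvd_left (card_dvd_of_le hH))
  have hcardM : Nat.card (M.map (QuotientGroup.mk' N)) * Nat.card N = Nat.card M := by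
    have := card_map_mul_card N M
    rwa [inf_eq_right.mpr hNM] at this
  have hNlt : 1 < Nat.card N := N.one_lt_card_iff_ne_bot.mpr hN1
  have hlt : Nat.card (M.map f) < n := by
    have hpos : 0 < Nat.card (M.map f) := Nat.card_pos
    calc Nat.card (M.map f) < Nat.card (M.map f) * Nat.card N := lt_mul_of_one_lt_right hpos hNlt
      _ ≤ n := hcardM.le.trans hn
  have : (M.map f).Normal := ‹M.Normal›.map f (QuotientGroup.mk'_surjective N)
  have hRK' : R.map f ≤ normalizer ((K.map f : Subgroup (X ⧸ N)) : Set (X ⧸ N)) :=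
    (map_mono hRK).trans (le_normalizer_map f)
  have hKR' : K.map f ⊓ R.map f = ⊥ := by
    rw [eq_bot_iff_forall]
    rintro _ ⟨⟨k, hk, rfl⟩, r, hr, hkr⟩
    have h1 : r⁻¹ * k ∈ (K ⊔ R) ⊓ N :=
      mem_inf.mpr ⟨mul_mem (inv_mem (mem_sup_right hr)) (mem_sup_left hk), QuotientGroup.eq.mp hkr⟩
    rw [hbot _ le_rfl, mem_bot, inv_mul_eq_one] at h1
    have h2 : k ∈ K ⊓ R := ⟨hk, h1 ▸ hr⟩
    rw [hKR, mem_bot] at h2
    rw [h2, map_one]
  have hfpf' : ∀ r ∈ R.map f, r ≠ 1 → K.map f ⊓ centralizer ({r} : Set (X ⧸ N)) = ⊥ := by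
    rintro _ ⟨r, hr, rfl⟩ hr1
    rw [eq_bot_iff_forall]
    rintro _ ⟨⟨k, hk, rfl⟩, hc⟩
    have hc' := mem_centralizer_singleton_iff.mp hc
    rw [← map_mul, ← map_mul] at hc'
    have h1 : (k * r)⁻¹ * (r * k) ∈ (K ⊔ R) ⊓ N :=
      mem_inf.mpr ⟨mul_mem (inv_mem (mul_mem (mem_sup_left hk) (mem_sup_right hr)))
        (mul_mem (mem_sup_right hr) (mem_sup_left hk)), QuotientGroup.eq.mp hc'⟩
    rw [hbot _ le_rfl, mem_bot, inv_mul_eq_one] at h1
    have h2 : k ∈ K ⊓ centralizer ({r} : Set X) := ⟨hk, mem_centralizer_singleton_iff.mpr h1⟩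
    rw [hfpf r hr fun h => hr1 (by rw [h, map_one]), mem_bot] at h2
    rw [h2, map_one]
  have hMn' : Group.IsNilpotent (M.map f) := Fitting.isNilpotent_map f hMn
  have hcop' : (Nat.card ↥(K.map f ⊔ R.map f)).Coprime (Nat.card (M.map f)) := by
    rw [← Subgroup.map_sup, card_map_eq_of_inf_eq_bot N (hbot _ le_rfl)]
    exact hcop.coprime_dvd_right (hcardM ▸ dvd_mul_right _ _)
  have hCK' : M.map f ⊓ centralizer (K.map f : Set (X ⧸ N)) = ⊥ := by
    rw [map_inf_centralizer N K M (hcopN.coprime_dvd_left (card_dvd_of_le le_sup_left)) hNs hNM, hCK,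
      Subgroup.map_bot]
  obtain ⟨ih1, ih2⟩ := ih _ hlt (K.map f) (R.map f) (M.map f) le_rfl hRK' hKR' hfpf' hMn' hcop' hCK'
  set C := M ⊓ centralizer (R : Set X) with hC
  have hC' : M.map f ⊓ centralizer (R.map f : Set (X ⧸ N)) = C.map f :=
    map_inf_centralizer N R M (hcopN.coprime_dvd_left (card_dvd_of_le le_sup_right)) hNs hNM
  rw [hC', card_map_eq_of_inf_eq_bot N (hbot R le_sup_right)] at ih1
  rw [hC'] at ih2
  have hCN : N ⊓ centralizer (R : Set X) = C ⊓ N := by
    rw [hC, inf_right_comm, inf_eq_right.mpr hNM]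
  have hcardC : Nat.card (C.map f) * Nat.card ↥(N ⊓ centralizer (R : Set X)) = Nat.card C := by
    rw [hCN]
    exact card_map_mul_card N C
  refine ⟨?_, fun hcyc hKn => ?_⟩
  · rw [← hcardM, ih1, hNR, ← mul_pow, hcardC]
  · have hCc : IsCyclic (C.map f) :=
      isCyclic_of_surjective (f.subgroupMap C) (f.subgroupMap_surjective C)
    have hKn' : Group.IsNilpotent (K.map f) := Fitting.isNilpotent_map f hKn
    have h2 : ⁅K, K⁆.map f ≤ centralizer ((M.map f : Subgroup (X ⧸ N)) : Set (X ⧸ N)) := by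
      rw [map_commutator]; exact ih2 hCc hKn'
    have hCNcard : Nat.card ↥(N ⊓ centralizer (R : Set X)) = ℓ := by
      set D := N ⊓ centralizer (R : Set X) with hD
      have hDC : D ≤ C := inf_le_inf_right _ hNM
      have hDne : D ≠ ⊥ := centralizer_ne_bot_of_frobenius K R N hNe hcopℓ hRK hKR hfpf (hNn K) (hNn R)
        (le_bot_iff.mp ((inf_le_inf_right _ hNM).trans hCK.le)) hN1
      have : IsCyclic D := isCyclic_of_injective (inclusion hDC) (inclusion_injective hDC)
      obtain ⟨d, hd⟩ := IsCyclic.exists_ofOrder_eq_natCard (α := D)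
      have h3 : orderOf d ∣ ℓ := orderOf_dvd_of_pow_eq_one (Subtype.ext (hNe.2 d d.2.1))
      rw [hd] at h3
      exact ((Nat.dvd_prime hℓ).mp h3).resolve_left fun h => hDne (D.eq_bot_of_card_eq h)
    have h35 := commutator_le_centralizer_of_card_prime K R N hNe hcopℓ hRK hKR hfpf hKn (hNn K) (hNn R) hCNcard
    refine le_centralizer_symm (le_centralizer_of_double_commutator (hMtop ▸ le_top)
      (hcop.coprime_dvd_left (card_dvd_of_le ((commutator_le_self K).trans le_sup_left))) ?_)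
    refine le_trans ?_ (le_centralizer_symm h35)
    rw [commutator_le]
    intro m hm a ha
    rw [← QuotientGroup.eq_one_iff]
    have h4 := mem_centralizer_iff.mp (h2 (mem_map_of_mem f ha)) _ (mem_map_of_mem f hm)
    show f ⁅m, a⁆ = 1
    rw [map_commutatorElement, commutatorElement_eq_one_iff_mul_comm]
    exact h4

/-- BG 3.10, the order formula and the action of the derived kernel. -/
theorem frobenius_nilpotent_action (K R M : Subgroup X) (hRK : R ≤ normalizer (K : Set X))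
    (hKR : K ⊓ R = ⊥) (hfpf : ∀ r ∈ R, r ≠ 1 → K ⊓ centralizer ({r} : Set X) = ⊥)
    (hMn : Group.IsNilpotent M) (hcop : (Nat.card ↥(K ⊔ R)).Coprime (Nat.card M))
    (hKM : K ≤ normalizer (M : Set X)) (hRM : R ≤ normalizer (M : Set X))
    (hCK : M ⊓ centralizer (K : Set X) = ⊥) :
    Nat.card M = Nat.card ↥(M ⊓ centralizer (R : Set X)) ^ Nat.card R ∧
      (IsCyclic ↥(M ⊓ centralizer (R : Set X)) → Group.IsNilpotent K →
        ⁅K, K⁆ ≤ centralizer (M : Set X)) := by
  set Y := normalizer (M : Set X) with hY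
  have hKY : K ≤ Y := hKM
  have hRY : R ≤ Y := hRM
  have hMY : M ≤ Y := le_normalizer
  have : (M.subgroupOf Y).Normal := normal_subgroupOf_of_le_normalizer le_rfl
  have hinf : ∀ A B : Subgroup X, A ≤ Y → B ≤ Y →
      (A.subgroupOf Y ⊓ centralizer (B.subgroupOf Y : Set Y)).map Y.subtype =
        A ⊓ centralizer (B : Set X) := by
    intro A B hA hB
    refine le_antisymm ?_ ?_
    · rintro _ ⟨a, ⟨ha, hc⟩, rfl⟩
      exact ⟨ha, mem_centralizer_iff.mpr fun b hb =>
        congrArg Subtype.val (mem_centralizer_iff.mp hc ⟨b, hB hb⟩ hb)⟩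
    · rintro a ⟨ha, hc⟩
      exact ⟨⟨a, hA ha⟩, ⟨ha, mem_centralizer_iff.mpr fun b hb =>
        Subtype.ext (mem_centralizer_iff.mp hc b hb)⟩, rfl⟩
  have hcard : ∀ {A : Subgroup X}, A ≤ Y → Nat.card (A.subgroupOf Y) = Nat.card A := fun {A} hA =>
    Nat.card_congr (subgroupOfEquivOfLe hA).toEquiv
  obtain ⟨h1, h2⟩ := frobenius_nilpotent_action_of_normal (Nat.card (M.subgroupOf Y))
    (K.subgroupOf Y) (R.subgroupOf Y) (M.subgroupOf Y) le_rfl
    (fun r hr => by rw [← subgroupOf_normalizer_eq hKY]; exact hRK hr)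
    (by
      rw [eq_bot_iff_forall]
      rintro x ⟨hx1, hx2⟩
      exact Subtype.ext (mem_bot.mp (hKR.le (mem_inf.mpr ⟨hx1, hx2⟩))))
    (fun r hr hr1 => by
      rw [eq_bot_iff_forall]
      rintro k ⟨hk, hc⟩
      have h : (k : X) ∈ K ⊓ centralizer ({(r : X)} : Set X) :=
        ⟨hk, mem_centralizer_singleton_iff.mpr (congrArg Subtype.val (mem_centralizer_singleton_iff.mp hc))⟩
      rw [hfpf r hr fun h => hr1 (Subtype.ext h)] at h
      exact Subtype.ext (mem_bot.mp h))
    ((Group.isNilpotent_congr (subgroupOfEquivOfLe hMY)).mpr hMn)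
    (by rw [← subgroupOf_sup hKY hRY, hcard (sup_le hKY hRY), hcard hMY]; exact hcop)
    (Subgroup.map_injective Y.subtype_injective (by rw [hinf M K hMY hKY, hCK, Subgroup.map_bot]))
  have e := hinf M R hMY hRY
  have hcardC : Nat.card ↥(M.subgroupOf Y ⊓ centralizer (R.subgroupOf Y : Set Y)) =
      Nat.card ↥(M ⊓ centralizer (R : Set X)) := by
    rw [← e, card_map_of_injective Y.subtype_injective]
  refine ⟨by rw [← hcard hMY, ← hcard hRY, ← hcardC]; exact h1, fun hcyc hKn => ?_⟩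
  have := h2 ((MulEquiv.isCyclic ((equivMapOfInjective _ _ Y.subtype_injective).trans
      (MulEquiv.subgroupCongr e))).mpr hcyc) ((Group.isNilpotent_congr (subgroupOfEquivOfLe hKY)).mpr hKn)
  rw [commutator_le] at this ⊢
  intro a ha b hb
  exact mem_centralizer_iff.mpr fun m hm =>
    congrArg Subtype.val (mem_centralizer_iff.mp (this ⟨a, hKY ha⟩ ha ⟨b, hKY hb⟩ hb) ⟨m, hMY hm⟩ hm)

end Cfsg.Agent.OddLocal43
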