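import Cfsg.Agent.OddLocal43.PLengthNoConfig
import Cfsg.Agent.OddLocal43.NilpotentAction
import Cfsg.Agent.BGSigma.PLength
import Cfsg.Agent.BGUniq.FittingOf
import Cfsg.Agent.BGUniq.PLocalBasic
import Cfsg.Agent.FGS82.MaximalPrimeIndex
import Cfsg.Agent.Lib.Coprime.Abelian

/-!
# BG 3.6: `p`-length one of `[H, R]`

`H` a solvable normal subgroup of a group of odd order, `R` coprime to `H` with `[H, R] = H` and `R₀ ≤ R`
of prime order such that `C_H(R₀)` has cyclic Sylow subgroups: then `H` has `p`-length one.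
-/

set_option autoImplicit false

namespace Cfsg.Agent.OddLocal43

open Subgroup
open scoped commutatorElement Pointwise

universe u

variable {X : Type u} [Group X] [Finite X]

/-- A `p`-subgroup of a subgroup with cyclic Sylow subgroups is cyclic. -/
theorem isCyclic_of_le_zgroup {p : ℕ} [Fact p.Prime] {U C : Subgroup X} (hU : IsPGroup p U)
    (hC : IsZGroup C) (hUC : U ≤ C) : IsCyclic U := by
  haveI := hC
  haveI : IsPGroup p (U.subgroupOf C) := hU.of_equiv (subgroupOfEquivOfLe hUC).symm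
  exact (subgroupOfEquivOfLe hUC).isCyclic.mp this.isCyclic_of_isZGroup

/-- A subgroup meeting every Sylow subgroup fully is everything. -/
theorem le_of_forall_sylow_le {W C : Subgroup X}
    (h : ∀ q : ℕ, ∀ [Fact q.Prime], ∀ Q : Sylow q W, (Q : Subgroup W).map W.subtype ≤ C) : W ≤ C := by
  rw [← subgroupOf_eq_top, ← index_eq_one, Nat.eq_one_iff_not_exists_prime_dvd]
  intro q hq hd
  haveI := Fact.mk hq
  obtain ⟨Q⟩ := (inferInstance : Nonempty (Sylow q W))
  refine Q.not_dvd_index (hd.trans (index_dvd_of_le ?_))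
  intro x hx
  exact mem_subgroupOf.mpr (h q Q ⟨x, hx, rfl⟩)

theorem le_normalizer_of_normal {Y : Type*} [Group Y] (N : Subgroup Y) [N.Normal] (A : Subgroup Y) :
    A ≤ normalizer (N : Set Y) := by
  rw [normalizer_eq_top_iff.mpr ‹_›]; exact le_top

/-- The core of BG 3.6. -/
theorem not_dvd_relIndex_pCore_of_core {p r : ℕ} [hp : Fact p.Prime] (hr : r.Prime)
    (hodd : Odd (Nat.card X)) (H R R₀ : Subgroup X) [H.Normal] (hsolv : Group.IsSolvable H)
    (hcop : (Nat.card H).Coprime (Nat.card R)) (hHR : ⁅H, R⁆ = H) (hR₀R : R₀ ≤ R)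
    (hR₀ : Nat.card R₀ = r) (hZ : IsZGroup ↥(H ⊓ centralizer (R₀ : Set X)))
    (hO : Cfsg.pPrimeCore p H = ⊥) (hΦ : frattini H = ⊥) :
    ¬ p ∣ (Cfsg.pCore p H).index := by
  classical
  intro hdvd
  haveI := hsolv
  set V : Subgroup X := (Cfsg.pCore p H).map H.subtype with hVdef
  haveI : (Cfsg.pCore p H).Normal := Fitting.pCore_normal p
  haveI hVn : V.Normal := Thompson.map_subtype_normal_of_characteristic H _
  have hVH : V ≤ H := map_subtype_le _
  have hVp : IsPGroup p V := Thompson.isPGroup_pCore.map _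
  have hVab : ∀ a ∈ V, ∀ b ∈ V, a * b = b * a := by
    rintro _ ⟨a, ha, rfl⟩ _ ⟨b, hb, rfl⟩
    have h := mem_map_of_mem (Cfsg.pCore p H).subtype
      (PGroup.comm_mem_frattini Thompson.isPGroup_pCore (⟨a, ha⟩ : Cfsg.pCore p H) ⟨b, hb⟩)
    have h' := Fitting.frattini_map_le (Cfsg.pCore p H) h
    rw [hΦ, mem_bot] at h'
    have h2 : a * b = b * a :=
      commutatorElement_eq_one_iff_mul_comm.mp (by simpa [commutatorElement_def] using h')
    exact congrArg Subtype.val h2
  have hV : Cfsg.IsElementaryAbelian p V := by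
    refine ⟨⟨⟨fun a b => Subtype.ext (hVab a a.2 b b.2)⟩⟩, ?_⟩
    rintro _ ⟨a, ha, rfl⟩
    have h := mem_map_of_mem (Cfsg.pCore p H).subtype
      (pow_mem_frattini Thompson.isPGroup_pCore (⟨a, ha⟩ : Cfsg.pCore p H))
    have h' := Fitting.frattini_map_le (Cfsg.pCore p H) h
    rw [hΦ, mem_bot] at h'
    exact congrArg Subtype.val (show a ^ p = 1 from h')
  haveI hVc : IsMulCommutative V := hV.1
  have hCHV : H ⊓ centralizer (V : Set X) ≤ V := by
    rintro x ⟨hxH, hxC⟩
    have h := Thompson.centralizer_pCore_le (BGUniq.isPSolvable_of_isSolvable' p H) hO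
      (x := ⟨x, hxH⟩) (mem_centralizer_iff.mpr fun v hv => Subtype.ext
        (mem_centralizer_iff.mp hxC v ⟨v, hv, rfl⟩))
    exact ⟨⟨x, hxH⟩, h, rfl⟩
  have hVidx : p ∣ V.relIndex H := by
    rw [relIndex, hVdef, subgroupOf, comap_map_eq_self_of_injective H.subtype_injective]
    exact hdvd
  -- the primes
  have hpH : p ∣ Nat.card H := hVidx.trans (relIndex_dvd_card _ _)
  have hp2 : p ≠ 2 := by
    intro h; subst h
    exact (hodd.of_dvd_nat (hpH.trans (card_subgroup_dvd_card H))).not_two_dvd_nat dvd_rfl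
  have hr2 : r ≠ 2 := by
    intro h; subst h
    exact (hodd.of_dvd_nat (hR₀ ▸ card_subgroup_dvd_card R₀)).not_two_dvd_nat dvd_rfl
  have hrH : (Nat.card H).Coprime r := by
    rw [← hR₀]; exact hcop.coprime_dvd_right (card_dvd_of_le hR₀R)
  have hpr : p ≠ r := by
    intro h; subst h
    exact hp.out.ne_one (Nat.eq_one_of_dvd_coprimes hrH hpH dvd_rfl)
  have hnorm : ∀ (N : Subgroup X) [N.Normal] (A : Subgroup X), A ≤ normalizer (N : Set X) :=
    fun N _ A => le_normalizer_of_normal N A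
  -- the Fitting subgroup of `H / V`
  set π := QuotientGroup.mk' V with hπ
  have hπs : Function.Surjective π := QuotientGroup.mk'_surjective V
  set Hb := H.map π with hHb
  haveI : Hb.Normal := (inferInstance : H.Normal).map π hπs
  haveI hHbs : Group.IsSolvable Hb := by
    exact Group.isSolvable_of_surjective (f := π.subgroupMap H) (π.subgroupMap_surjective H)
  set Fb := Cfsg.fittingOf Hb with hFb
  haveI : Fb.Normal := Thompson.map_subtype_normal_of_characteristic Hb _
  have hFbH : Fb ≤ Hb := BGUniq.fittingOf_le Hb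
  have hFbn : Group.IsNilpotent Fb := BGUniq.isNilpotent_fittingOf Hb
  have hFbc : Hb ⊓ centralizer (Fb : Set (X ⧸ V)) ≤ Fb := BGUniq.inf_centralizer_fittingOf_le hHbs
  have hFbp : ¬ p ∣ Nat.card Fb := by
    intro h
    obtain ⟨S⟩ := (inferInstance : Nonempty (Sylow p Fb))
    haveI := hFbn
    have hSn : (S : Subgroup Fb).Normal :=
      Sylow.normal_of_normalizerCondition Group.normalizerCondition_of_isNilpotent S
    haveI : (S : Subgroup Fb).Characteristic := Sylow.characteristic_of_normal S hSn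
    set T := (S : Subgroup Fb).map Fb.subtype
    haveI : T.Normal := Thompson.map_subtype_normal_of_characteristic Fb _
    have hTb : T ≤ Hb := (map_subtype_le _).trans hFbH
    set U := T.comap π ⊓ H
    haveI : U.Normal := normal_inf_normal _ _
    have hUp : IsPGroup p U := by
      have h1 : IsPGroup p (T.comap π) :=
        (S.isPGroup'.map _).comap_of_ker_isPGroup π (by rw [hπ, QuotientGroup.ker_mk']; exact hVp)
      exact h1.to_le inf_le_left
    have hUV : U ≤ V := by
      have h1 := Thompson.le_pCore (p := p) (N := U.subgroupOf H) inferInstance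
        (hUp.of_equiv (subgroupOfEquivOfLe (inf_le_right : U ≤ H)).symm)
      intro x hx
      exact ⟨⟨x, hx.2⟩, h1 (mem_subgroupOf.mpr hx), rfl⟩
    have hT1 : T = ⊥ := by
      rw [eq_bot_iff]
      intro y hy
      obtain ⟨x, hx, rfl⟩ := hTb hy
      exact mem_bot.mpr ((QuotientGroup.eq_one_iff x).mpr (hUV ⟨hy, hx⟩))
    have hc := S.dvd_card_of_dvd_card h
    have hT1' : (S : Subgroup Fb).map Fb.subtype = ⊥ := hT1
    rw [← card_map_of_injective Fb.subtype_injective, hT1', card_bot] at hc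
    exact hp.out.not_dvd_one hc
  -- a complement to `V` in its preimage, normalized by `R`
  set F₀ := Fb.comap π with hF₀
  haveI : F₀.Normal := inferInstance
  have hVF₀ : V ≤ F₀ := fun x hx => by
    show π x ∈ Fb
    rw [hπ, QuotientGroup.mk'_apply, (QuotientGroup.eq_one_iff x).mpr hx]; exact one_mem _
  have hF₀H : F₀ ≤ H := by
    intro x hx
    obtain ⟨y, hy, hxy⟩ := hFbH (show π x ∈ Fb from hx)
    rw [hπ, QuotientGroup.mk'_apply, QuotientGroup.mk'_apply, QuotientGroup.eq] at hxy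
    simpa using mul_mem hy (hVH hxy)
  have hrelF : V.relIndex F₀ = Nat.card Fb := by
    rw [hπ] at hF₀
    rw [Thompson.relIndex_eq_card_map_mk', hF₀, map_comap_eq_self_of_surjective (QuotientGroup.mk'_surjective V)]
  obtain ⟨eV, heV⟩ := IsPGroup.iff_card.mp hVp
  have hcopFV : (Nat.card Fb).Coprime (Nat.card V) := by
    rw [heV]; exact ((hp.out.coprime_iff_not_dvd.mpr hFbp).symm).pow_right eV
  obtain ⟨W₀, hW₀, hW₀F⟩ : ∃ W₀ : Subgroup X, Nat.card W₀ = Nat.card Fb ∧ W₀ ≤ F₀ := by
    obtain ⟨B, hB⟩ := exists_right_complement'_of_coprime (N := V.subgroupOf F₀) (by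
      rw [Nat.card_congr (subgroupOfEquivOfLe hVF₀).toEquiv, ← relIndex, hrelF]
      exact hcopFV.symm)
    refine ⟨B.map F₀.subtype, ?_, map_subtype_le _⟩
    rw [card_map_of_injective F₀.subtype_injective, ← hB.symm.index_eq_card, ← relIndex, hrelF]
  have hWV : ∀ W : Subgroup X, Nat.card W = Nat.card Fb → W ⊓ V = ⊥ := fun W hW =>
    le_bot_iff.mp fun x hx => mem_bot.mpr
      (orderOf_eq_one_iff.mp (Nat.eq_one_of_dvd_coprimes (hW ▸ hcopFV)
        (orderOf_dvd_natCard W hx.1) (orderOf_dvd_natCard V hx.2)))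
  have hWmap : ∀ W : Subgroup X, Nat.card W = Nat.card Fb → W ≤ F₀ → W.map π = Fb := fun W hW hWF =>
    eq_of_le_of_card_ge (map_le_iff_le_comap.mpr hWF)
      (by rw [hπ, card_map_eq_of_inf_eq_bot V (hWV W hW), hW])
  have hWsup : ∀ W : Subgroup X, Nat.card W = Nat.card Fb → W ≤ F₀ → F₀ = V ⊔ W := fun W hW hWF => by
    rw [hF₀, ← hWmap W hW hWF, comap_map_eq, hπ, QuotientGroup.ker_mk', sup_comm]
  have hfrat : ∀ W : Subgroup X, Nat.card W = Nat.card Fb → W ≤ F₀ →
      ∀ x : X, x ∈ V ⊔ normalizer (W : Set X) := by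
    intro W hW hWF x
    set W' := W.map (MulAut.conj x).toMonoidHom with hW'
    have hW'c : Nat.card W' = Nat.card W := card_map_of_injective (MulAut.conj x).injective
    obtain ⟨n, hn, hnW⟩ := Coprime.exists_conj_le V W' W (hnorm V W') (hnorm V W)
      (by
        rintro _ ⟨w, hw, rfl⟩
        rw [← hWsup W hW hWF]
        exact (inferInstance : F₀.Normal).conj_mem w (hWF hw) x)
      (by rw [hW'c, hW]; exact hcopFV) (by rw [hW]; exact hcopFV)
      (Or.inr (Coprime.isSolvable_of_isNilpotent' hVp.isNilpotent))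
    have hnx : n * x ∈ normalizer (W : Set X) := by
      rw [mem_normalizer_iff_map_conj_eq]
      refine eq_of_le_of_card_ge ?_ (card_map_of_injective (MulAut.conj (n * x)).injective).ge
      rintro _ ⟨w, hw, rfl⟩
      have := hnW _ ⟨w, hw, rfl⟩
      simpa [mul_assoc] using this
    rw [show x = n⁻¹ * (n * x) by group]
    exact mul_mem_sup (inv_mem hn) hnx
  have hRcop : ∀ A : Subgroup X, A ≤ R → ∀ K : Subgroup X, K ≤ H → (Nat.card A).Coprime (Nat.card K) :=
    fun A hA K hK => (hcop.symm.coprime_dvd_left (card_dvd_of_le hA)).coprime_dvd_right (card_dvd_of_le hK)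
  obtain ⟨k, hk, hkR⟩ := Coprime.exists_conj_le_of_le_sup R V (normalizer (W₀ : Set X)) (hnorm V R)
    (hnorm V _) (hRcop R le_rfl V hVH) (Or.inr (Coprime.isSolvable_of_isNilpotent' hVp.isNilpotent))
    (fun x _ => hfrat W₀ hW₀ hW₀F x)
  set W := W₀.map (MulAut.conj k⁻¹).toMonoidHom with hWdef
  have hW : Nat.card W = Nat.card Fb := by
    rw [← hW₀]; exact card_map_of_injective (MulAut.conj k⁻¹).injective
  have hWF : W ≤ F₀ := by
    rintro _ ⟨w, hw, rfl⟩
    exact (inferInstance : F₀.Normal).conj_mem w (hW₀F hw) k⁻¹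
  have hRW : R ≤ normalizer (W : Set X) := by
    refine Coprime.le_normalizer_of_conj_mem fun a ha => ?_
    rintro _ ⟨w, hw, rfl⟩
    exact ⟨_, (mem_normalizer_iff.mp (hkR a ha) w).mp hw, by simp [mul_assoc]⟩
  clear_value W
  clear hWdef hW₀ hW₀F hkR
  have hWH : W ≤ H := hWF.trans hF₀H
  have hWb := hWmap W hW hWF
  have hWV' := hWV W hW
  have hWn : Group.IsNilpotent W := by
    haveI := hFbn
    let f : W →* Fb := (π.comp W.subtype).codRestrict Fb fun w => hWF w.2
    have hf : Function.Injective f := by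
      intro a b hab
      have h1 := (QuotientGroup.eq (s := V)).mp (congrArg Subtype.val hab)
      have h2 : (a : X)⁻¹ * b ∈ W ⊓ V := mem_inf.mpr ⟨mul_mem (inv_mem a.2) b.2, h1⟩
      rw [hWV', mem_bot, inv_mul_eq_one] at h2
      exact Subtype.ext h2
    exact Group.nilpotent_of_mulEquiv (MonoidHom.ofInjective hf).symm
  have hWp : ¬ p ∣ Nat.card W := hW ▸ hFbp
  have hcopWV : (Nat.card W).Coprime (Nat.card V) := hW ▸ hcopFV
  have hcentW : ∀ x ∈ H, x ∈ centralizer (W : Set X) → π x ∈ Fb := fun x hx hxC =>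
    hFbc ⟨mem_map_of_mem π hx, mem_centralizer_iff.mpr (by
      rw [← hWb]
      rintro _ ⟨w, hw, rfl⟩
      rw [← map_mul, ← map_mul, mem_centralizer_iff.mp hxC w hw])⟩
  have hpW : ∀ U : Subgroup X, IsPGroup p U → U ≤ F₀ → U ≤ V := by
    intro U hU hUF x hx
    have h1 : orderOf (π x) ∣ Nat.card Fb := orderOf_dvd_natCard Fb (hUF hx)
    obtain ⟨j, hj⟩ := IsPGroup.iff_card.mp hU
    have h2 : orderOf (π x) ∣ p ^ j :=
      (orderOf_map_dvd π x).trans (hj ▸ orderOf_dvd_natCard U hx)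
    have h3 : π x = 1 := orderOf_eq_one_iff.mp
      (Nat.eq_one_of_dvd_coprimes (((hp.out.coprime_iff_not_dvd.mpr hFbp)).pow_left j) h2 h1)
    exact (QuotientGroup.eq_one_iff x).mp h3
  -- the normalizer of the complement
  set N := H ⊓ normalizer (W : Set X) with hN
  have hNH : N ≤ H := inf_le_left
  have hRN : R ≤ normalizer (N : Set X) :=
    Coprime.le_normalizer_inf (hnorm H R) (Coprime.le_normalizer_normalizer hRW)
  have hNsup : H ≤ V ⊔ N := by
    intro x hx
    obtain ⟨v, hv, n, hn, rfl⟩ := mem_sup_of_normal_left.mp (hfrat W hW hWF x)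
    exact mul_mem_sup hv ⟨by simpa using mul_mem (inv_mem (hVH hv)) hx, hn⟩
  have hNV : N ⊓ V ≤ centralizer (W : Set X) := by
    intro x hx
    refine mem_centralizer_iff.mpr fun w hw => ?_
    have h1 : x * w * x⁻¹ * w⁻¹ ∈ W ⊓ V := by
      refine mem_inf.mpr ⟨mul_mem ((mem_normalizer_iff.mp hx.1.2 w).mp hw) (inv_mem hw), ?_⟩
      rw [show x * w * x⁻¹ * w⁻¹ = x * (w * x⁻¹ * w⁻¹) by group]
      exact mul_mem hx.2 (hVn.conj_mem _ (inv_mem hx.2) w)
    rw [hWV', mem_bot, mul_inv_eq_one, mul_inv_eq_iff_eq_mul] at h1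
    exact h1.symm
  obtain ⟨S, hS⟩ := Coprime.exists_invariant_sylow R N hRN (hRcop R le_rfl N hNH)
    (Or.inr (Coprime.solvable_of_le hNH hsolv)) p
  set P := (S : Subgroup N).map N.subtype with hP
  have hPp : IsPGroup p P := S.isPGroup'.map _
  have hPN : P ≤ N := map_subtype_le _
  have hPH : P ≤ H := hPN.trans hNH
  have hPW : P ≤ normalizer (W : Set X) := hPN.trans inf_le_right
  have hPV : ¬ P ≤ V := by
    intro h
    have h1 : Nat.card (N.map π) * Nat.card ↥(N ⊓ V) = Nat.card N := card_map_mul_card V N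
    have h2 : N.map π = Hb := by
      refine le_antisymm (map_mono hNH) ((map_mono hNsup).trans ?_)
      rw [Subgroup.map_sup, hπ, QuotientGroup.map_mk'_self, bot_sup_eq]
    have h3 : p ∣ Nat.card Hb := by
      rw [hHb, hπ, ← Thompson.relIndex_eq_card_map_mk']; exact hVidx
    have h4 : p * Nat.card P ∣ Nat.card N := by
      rw [← h1, h2]
      exact Nat.mul_dvd_mul h3 (card_dvd_of_le (le_inf hPN h))
    rw [← (S : Subgroup N).card_mul_index, hP, card_map_of_injective N.subtype_injective,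
      mul_comm p] at h4
    exact S.not_dvd_index ((Nat.mul_dvd_mul_iff_left Nat.card_pos).mp h4)
  have hPCW : ∀ x ∈ P, x ∈ centralizer (W : Set X) → x ∈ V := fun x hx hxC =>
    hpW (zpowers x) (hPp.to_le (zpowers_le.mpr hx))
      (zpowers_le.mpr (hcentW x (hPH hx) hxC)) (mem_zpowers x)
  -- `V₁ = [V, W]`
  set V₁ := ⁅V, W⁆ with hV₁
  have hV₁V : V₁ ≤ V := commutator_le_of_normalizes (hnorm V W)
  have hV₁e : Cfsg.IsElementaryAbelian p V₁ :=
    ⟨@isMulCommutative_mono X _ V₁ V hV₁V hV.1, fun x hx => hV.2 x (hV₁V hx)⟩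
  have hV₁C : V₁ ⊓ centralizer (W : Set X) = ⊥ :=
    Coprime.commutator_inf_centralizer_eq_bot W V (hnorm V W) hcopWV
  have hNV₁ : ∀ A : Subgroup X, A ≤ normalizer (W : Set X) → A ≤ normalizer (V₁ : Set X) :=
    fun A hA => normalizes_commutator (hnorm V A) hA
  have hV₁P : V₁ ⊓ P = ⊥ := le_bot_iff.mp fun x hx =>
    hV₁C.le ⟨hx.1, hNV ⟨hPN hx.2, hV₁V hx.1⟩⟩
  have hVfac : ∀ x ∈ centralizer (V₁ : Set X), x ∈ centralizer ((V ⊓ centralizer (W : Set X) : Subgroup X) : Set X) →
      x ∈ centralizer (V : Set X) := by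
    intro x h1 h2
    have h3 : V ≤ centralizer ({x} : Set X) := by
      rw [← Coprime.commutator_sup_centralizer W V (hnorm V W) hcopWV
        (Or.inr (Coprime.isSolvable_of_isNilpotent' hVp.isNilpotent))]
      exact sup_le (fun v hv => mem_centralizer_singleton_iff.mpr (mem_centralizer_iff.mp h1 v hv))
        fun v hv => mem_centralizer_singleton_iff.mpr (mem_centralizer_iff.mp h2 v hv)
    exact mem_centralizer_iff.mpr fun v hv => mem_centralizer_singleton_iff.mp (h3 hv)
  have hWfaith : ∀ Q : Subgroup X, Q ≤ W → Q ⊓ centralizer (V₁ : Set X) = ⊥ := fun Q hQ => by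
    refine le_bot_iff.mp fun x hx => hWV'.le ⟨hQ hx.1, hCHV ⟨hWH (hQ hx.1), hVfac x hx.2 ?_⟩⟩
    exact mem_centralizer_iff.mpr fun c hc => (mem_centralizer_iff.mp hc.2 x (hQ hx.1)).symm
  have hcyc : ∀ U : Subgroup X, U ≤ H → IsPGroup p U → IsCyclic ↥(U ⊓ centralizer (R₀ : Set X)) :=
    fun U hU hUp => isCyclic_of_le_zgroup (hUp.to_le inf_le_left) hZ (inf_le_inf_right _ hU)
  have hVP : ∀ P' : Subgroup X, P' ≤ P → P' ≤ normalizer (V₁ : Set X) →
      IsCyclic ↥((V₁ ⊔ P') ⊓ centralizer (R₀ : Set X)) := fun P' hP' hn =>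
    hcyc _ (sup_le (hV₁V.trans hVH) (hP'.trans hPH))
      ((hVp.to_le hV₁V).to_sup_of_normal_left' (hPp.to_le hP') hn)
  have hR₀W : R₀ ≤ normalizer (W : Set X) := hR₀R.trans hRW
  have hsyl : ∀ q : ℕ, ∀ [Fact q.Prime], ∀ Q : Sylow q W, ∀ A : Subgroup X,
      A ≤ normalizer (W : Set X) → A ≤ normalizer ((Q : Subgroup W).map W.subtype : Set X) := by
    intro q _ Q A hA
    haveI := hWn
    have hQn : (Q : Subgroup W).Normal :=
      Sylow.normal_of_normalizerCondition Group.normalizerCondition_of_isNilpotent Q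
    haveI : (Q : Subgroup W).Characteristic := Sylow.characteristic_of_normal Q hQn
    exact hA.trans (normalizes_map_characteristic (Q : Subgroup W))
  have hsylq : ∀ q : ℕ, ∀ [Fact q.Prime], ∀ Q : Sylow q W, (Q : Subgroup W).map W.subtype ≠ ⊥ →
      p ≠ q ∧ q ≠ 2 ∧ q ≠ r := by
    intro q hq Q hQ
    have hqW : q ∣ Nat.card W := by
      obtain ⟨j, hj⟩ := IsPGroup.iff_card.mp (Q.isPGroup'.map W.subtype)
      rcases j with _ | j
      · exact absurd (eq_bot_of_card_eq _ (hj.trans (pow_zero q))) hQ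
      · exact (hj ▸ dvd_pow_self q j.succ_ne_zero).trans (card_dvd_of_le (map_subtype_le _))
    refine ⟨fun h => hWp (h ▸ hqW), fun h => ?_, fun h => ?_⟩
    · subst h
      exact (hodd.of_dvd_nat (hqW.trans (card_subgroup_dvd_card W))).not_two_dvd_nat dvd_rfl
    · exact hq.out.ne_one (Nat.eq_one_of_dvd_coprimes hrH (hqW.trans (card_dvd_of_le hWH)) (h ▸ dvd_rfl))
  have hR₀P : R₀ ≤ normalizer (P : Set X) := hR₀R.trans hS
  set P₁ := ⁅P, R₀⁆ with hP₁
  have hP₁P : P₁ ≤ P := commutator_le_of_normalizes hR₀P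
  have hP₁V : P₁ ≤ V := by
    by_contra hcon
    have hP₁e : ⁅P₁, R₀⁆ = P₁ :=
      Coprime.commutator_commutator_eq R₀ P hR₀P (hRcop R₀ hR₀R P hPH)
        (Or.inr (Coprime.isSolvable_of_isNilpotent' hPp.isNilpotent))
    have hR₀P₁ : R₀ ≤ normalizer (P₁ : Set X) := Coprime.le_normalizer_commutator_right R₀ P
    refine hcon fun x hx => hPCW x (hP₁P hx)
      (le_centralizer_symm (le_of_forall_sylow_le fun q _ Q => ?_) hx)
    by_cases hQ : (Q : Subgroup W).map W.subtype = ⊥
    · rw [hQ]; exact bot_le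
    obtain ⟨hpq, hq2, hqr⟩ := hsylq q Q hQ
    exact no_plength_config_aux hr hp2 hq2 hr2 hpq hpr hqr hV₁e (hPp.to_le hP₁P) hR₀
      (hNV₁ P₁ (hP₁P.trans hPW)) (hNV₁ R₀ hR₀W) hR₀P₁
      (le_bot_iff.mp ((inf_le_inf_left _ hP₁P).trans hV₁P.le)) hP₁e
      (hVP P₁ hP₁P (hNV₁ P₁ (hP₁P.trans hPW))) _ (Q.isPGroup'.map _)
      ((hNV₁ W le_normalizer).trans' (map_subtype_le _))
      (hsyl q Q P₁ (hP₁P.trans hPW)) (hsyl q Q R₀ hR₀W) (hWfaith _ (map_subtype_le _))
      (isCyclic_of_le_zgroup ((Q.isPGroup'.map _).to_le inf_le_left) hZ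
        (inf_le_inf_right _ ((map_subtype_le _).trans hWH)))
  -- `R₀` fixes `P V / V`
  have hCP : ¬ P ⊓ centralizer (R₀ : Set X) ≤ V := by
    intro h
    refine hPV ?_
    rw [← Coprime.commutator_sup_centralizer R₀ P hR₀P (hRcop R₀ hR₀R P hPH)
      (Or.inr (Coprime.isSolvable_of_isNilpotent' hPp.isNilpotent))]
    exact sup_le hP₁V h
  have hCV₁ : V₁ ⊓ centralizer (R₀ : Set X) = ⊥ := by
    refine eq_bot_of_isCyclic_of_inf (p := p) (hVP P le_rfl (hNV₁ P hPW))
      (A := P ⊓ centralizer (R₀ : Set X)) (inf_le_inf_right _ le_sup_right)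
      (inf_le_inf_right _ le_sup_left) (fun h => hCP (h ▸ bot_le)) (hPp.to_le inf_le_left)
      ((hVp.to_le hV₁V).to_le inf_le_left) ?_
    exact le_bot_iff.mp ((inf_le_inf inf_le_left inf_le_left).trans (inf_comm P V₁ ▸ hV₁P).le)
  have hWR₀ : W ≤ centralizer (R₀ : Set X) := le_of_forall_sylow_le fun q _ Q => by
    by_cases hQ : (Q : Subgroup W).map W.subtype = ⊥
    · rw [hQ]; exact bot_le
    obtain ⟨hpq, hq2, hqr⟩ := hsylq q Q hQ
    exact le_centralizer_of_fixedPointFree_odd hr hpq hpr hqr hq2 hV₁e (Q.isPGroup'.map _) hR₀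
      ((hNV₁ W le_normalizer).trans' (map_subtype_le _)) (hNV₁ R₀ hR₀W) (hsyl q Q R₀ hR₀W)
      (hWfaith _ (map_subtype_le _)) hCV₁
  have hWcyc : IsCyclic W := by
    haveI := hWn
    haveI := hZ
    haveI : IsZGroup W :=
      IsZGroup.of_injective (f := inclusion (le_inf hWH hWR₀)) (inclusion_injective _)
    infer_instance
  have hPRV : ⁅P, R⁆ ≤ V := by
    intro x hx
    exact hPCW x (commutator_le_of_normalizes hS hx)
      (commutator_le_centralizer_of_isCyclic hWcyc hPW hRW hx)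
  have hFbcyc : IsCyclic Fb := by
    rw [← hWb]
    haveI := hWcyc
    exact isCyclic_of_surjective (π.subgroupMap W) (π.subgroupMap_surjective W)
  have hHH : ⁅H, H⁆ ≤ F₀ := by
    rw [hF₀, ← map_le_iff_le_comap, map_commutator]
    exact le_trans (le_inf (commutator_le_self Hb)
      (commutator_le_centralizer_of_isCyclic hFbcyc (le_normalizer_of_normal Fb _) (le_normalizer_of_normal Fb _))) hFbc
  -- modulo `F₀` the group `H` is abelian and `R` has no fixed points
  set ρ := QuotientGroup.mk' F₀ with hρ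
  set Hc := H.map ρ with hHc
  haveI : IsMulCommutative Hc := ⟨⟨by
    rintro ⟨_, a, ha, rfl⟩ ⟨_, b, hb, rfl⟩
    refine Subtype.ext ?_
    show ρ a * ρ b = ρ b * ρ a
    rw [← commutatorElement_eq_one_iff_mul_comm, ← map_commutatorElement]
    exact (QuotientGroup.eq_one_iff _).mpr (hHH (commutator_mem_commutator ha hb))⟩⟩
  have hRc : R.map ρ ≤ normalizer (Hc : Set (X ⧸ F₀)) := by
    haveI : Hc.Normal := (inferInstance : H.Normal).map ρ (QuotientGroup.mk'_surjective _)
    rw [normalizer_eq_top_iff.mpr ‹Hc.Normal›]; exact le_top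
  have hfix := Coprime.commutator_inf_centralizer_eq_bot (R.map ρ) Hc hRc
    ((hcop.symm.coprime_dvd_left (card_map_dvd _ _)).coprime_dvd_right (card_map_dvd _ _))
  rw [hHc, ← map_commutator, hHR] at hfix
  refine hPV (hpW P hPp fun x hx => ?_)
  have h1 : ρ x ∈ H.map ρ ⊓ centralizer (R.map ρ : Set (X ⧸ F₀)) := by
    refine ⟨mem_map_of_mem _ (hPH hx), mem_centralizer_iff.mpr ?_⟩
    rintro _ ⟨a, ha, rfl⟩
    rw [eq_comm, ← commutatorElement_eq_one_iff_mul_comm, ← map_commutatorElement]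
    exact (QuotientGroup.eq_one_iff _).mpr (hVF₀ (hPRV (commutator_mem_commutator hx ha)))
  rw [hfix, mem_bot] at h1
  exact (QuotientGroup.eq_one_iff x).mp h1


theorem card_comap_of_surjective {A B : Type*} [Group A] [Group B] [Finite A] (f : A →* B)
    (hf : Function.Surjective f) (S : Subgroup B) :
    Nat.card (S.comap f) = Nat.card f.ker * Nat.card S := by
  haveI := Finite.of_surjective f hf
  refine Nat.eq_of_mul_eq_mul_right (Nat.pos_of_ne_zero S.index_ne_zero_of_finite) ?_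
  conv_lhs => rw [← index_comap_of_surjective S hf, card_mul_index]
  rw [mul_assoc, card_mul_index, ← Nat.card_congr (QuotientGroup.quotientKerEquivOfSurjective f hf).toEquiv,
    mul_comm, ← card_eq_card_quotient_mul_card_subgroup]

/-- `p`-length one passes back through a quotient by a normal `p'`-subgroup. -/
theorem not_dvd_index_of_surjective {A B : Type*} [Group A] [Group B] [Finite A] [Finite B] {p : ℕ}
    [hp : Fact p.Prime] (f : A →* B) (hf : Function.Surjective f) (hk : ¬ p ∣ Nat.card f.ker)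
    (h : ¬ p ∣ (Cfsg.pPrimePCore p B).index) : ¬ p ∣ (Cfsg.pPrimePCore p A).index := by
  obtain ⟨j, hj⟩ := BGSigma.pPrimeCore_relIndex (X := B) (p := p)
  refine BGSigma.not_dvd_index_of_series (A := (Cfsg.pPrimeCore p B).comap f)
    (B := (Cfsg.pPrimePCore p B).comap f) inferInstance inferInstance
    (comap_mono Thompson.pPrimeCore_le_pPrimePCore) ?_ ⟨j, ?_⟩ ?_
  · rw [card_comap_of_surjective f hf]
    exact fun hd => (hp.out.dvd_mul.mp hd).elim hk BGSigma.not_dvd_card_core
  · rw [relIndex_comap, map_comap_eq_self_of_surjective hf]; exact hj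
  · rw [index_comap_of_surjective _ hf]; exact h

/-- `p`-length one passes back through the Frattini quotient of a group without `p'`-core. -/
theorem not_dvd_index_of_frattini {A B : Type*} [Group A] [Group B] [Finite A] [Finite B] {p : ℕ}
    [hp : Fact p.Prime] (f : A →* B) (hf : Function.Surjective f) (hk : f.ker = frattini A)
    (hO : Cfsg.pPrimeCore p A = ⊥)
    (h : ¬ p ∣ (Cfsg.pPrimePCore p B).index) : ¬ p ∣ (Cfsg.pPrimePCore p A).index := by
  obtain ⟨j, hj⟩ := BGSigma.pPrimeCore_relIndex (X := B) (p := p)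
  obtain ⟨i, hi⟩ := IsPGroup.iff_card.mp (FGS82.isPGroup_frattini hO)
  have hOB : Cfsg.pPrimeCore p B = ⊥ := by
    rw [← Thompson.map_pPrimeCore_equiv (p := p)
      (((QuotientGroup.quotientMulEquivOfEq hk).symm).trans (QuotientGroup.quotientKerEquivOfSurjective f hf)),
      FGS82.pPrimeCore_quotient_frattini hO, Subgroup.map_bot]
  refine BGSigma.not_dvd_index_of_series (A := ⊥)
    (B := (Cfsg.pPrimePCore p B).comap f) inferInstance inferInstance bot_le ?_ ⟨i + j, ?_⟩ ?_
  · rw [card_bot]; exact hp.out.not_dvd_one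
  · rw [relIndex_bot_left, card_comap_of_surjective f hf, hk, hi, pow_add]
    rw [hOB, relIndex_bot_left] at hj
    exact Nat.mul_dvd_mul_left _ hj
  · rw [index_comap_of_surjective _ hf]; exact h

/-- BG 3.6, by induction on the order of `H`. -/
theorem not_dvd_index_pPrimePCore_aux {p r : ℕ} [hp : Fact p.Prime] (hr : r.Prime) (n : ℕ) :
    ∀ {X : Type u} [Group X] [Finite X], Odd (Nat.card X) → ∀ (H R R₀ : Subgroup X) [H.Normal],
      Nat.card H ≤ n → Group.IsSolvable H → (Nat.card H).Coprime (Nat.card R) → ⁅H, R⁆ = H →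
      R₀ ≤ R → Nat.card R₀ = r → IsZGroup ↥(H ⊓ centralizer (R₀ : Set X)) →
      ¬ p ∣ (Cfsg.pPrimePCore p H).index := by
  induction n using Nat.strong_induction_on with
  | _ n ih =>
  intro X _ _ hodd H R R₀ _ hn hsolv hcop hHR hR₀R hR₀ hZ
  haveI := hsolv
  -- the reduction modulo a nontrivial normal subgroup inside `H`
  have hred : ∀ M : Subgroup H, M.Characteristic → M ≠ ⊥ → ∀ N : Subgroup X, N = M.map H.subtype →
      ∀ [N.Normal], ¬ p ∣ (Cfsg.pPrimePCore p (H.map (QuotientGroup.mk' N))).index := by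
    intro M _ hM N hNdef hNn
    have hNH : N ≤ H := hNdef ▸ map_subtype_le _
    set π := QuotientGroup.mk' N
    haveI : (H.map π).Normal := (inferInstance : H.Normal).map π (QuotientGroup.mk'_surjective N)
    have hlt : Nat.card (H.map π) < Nat.card H := by
      have h := card_map_mul_card N H
      rw [inf_eq_right.mpr hNH] at h
      have h2 : Nat.card N = Nat.card M := by rw [hNdef, card_map_of_injective H.subtype_injective]
      have h1 : 1 < Nat.card M := (M.one_lt_card_iff_ne_bot).mpr hM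
      rw [← h, h2]
      exact lt_mul_of_one_lt_right Nat.card_pos h1
    have hR₀N : R₀ ⊓ N = ⊥ := le_bot_iff.mp fun x hx => mem_bot.mpr (orderOf_eq_one_iff.mp
      (Nat.eq_one_of_dvd_coprimes hcop (orderOf_dvd_natCard H (hNH hx.2))
        (orderOf_dvd_natCard R (hR₀R hx.1))))
    refine ih _ (hlt.trans_le hn) ?_ (H.map π) (R.map π) (R₀.map π) le_rfl ?_ ?_ ?_ ?_ ?_ ?_
    · exact hodd.of_dvd_nat (card_quotient_dvd_card N)
    · exact Group.isSolvable_of_surjective (f := π.subgroupMap H) (π.subgroupMap_surjective H)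
    · exact (hcop.coprime_dvd_left (card_map_dvd _ _)).coprime_dvd_right (card_map_dvd _ _)
    · rw [← map_commutator, hHR]
    · exact map_mono hR₀R
    · rw [card_map_eq_of_inf_eq_bot N hR₀N, hR₀]
    · rw [map_inf_centralizer N R₀ H
        ((hcop.symm.coprime_dvd_left (card_dvd_of_le hR₀R)).coprime_dvd_right (card_dvd_of_le hNH))
        (Coprime.solvable_of_le hNH hsolv) hNH]
      haveI := hZ
      exact IsZGroup.of_surjective (f := π.subgroupMap (H ⊓ centralizer (R₀ : Set X)))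
        (π.subgroupMap_surjective _)
  have hker : ∀ M : Subgroup H, ∀ N : Subgroup X, N = M.map H.subtype → ∀ [N.Normal],
      ((QuotientGroup.mk' N).subgroupMap H).ker = M := by
    intro M N hN _
    ext x
    rw [MonoidHom.mem_ker, Subtype.ext_iff]
    show QuotientGroup.mk' N (x : X) = 1 ↔ _
    rw [QuotientGroup.mk'_apply, QuotientGroup.eq_one_iff, hN]
    exact ⟨fun ⟨y, hy, hyx⟩ => H.subtype_injective hyx ▸ hy, fun hx => ⟨x, hx, rfl⟩⟩
  by_cases hO : Cfsg.pPrimeCore p H = ⊥
  · by_cases hΦ : frattini H = ⊥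
    · refine fun h => not_dvd_relIndex_pCore_of_core hr hodd H R R₀ hsolv hcop hHR hR₀R hR₀ hZ hO hΦ
        (h.trans (index_dvd_of_le Thompson.pCore_le_pPrimePCore))
    · haveI : (frattini H).Characteristic := frattini_characteristic
      haveI := Thompson.map_subtype_normal_of_characteristic H (frattini H)
      exact not_dvd_index_of_frattini _ (MonoidHom.subgroupMap_surjective _ H)
        (hker (frattini H) _ rfl) hO (hred (frattini H) inferInstance hΦ _ rfl)
  · haveI := Thompson.map_subtype_normal_of_characteristic H (Cfsg.pPrimeCore p H)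
    refine not_dvd_index_of_surjective _ (MonoidHom.subgroupMap_surjective _ H) ?_
      (hred (Cfsg.pPrimeCore p H) inferInstance hO _ rfl)
    rw [hker (Cfsg.pPrimeCore p H) _ rfl]
    exact BGSigma.not_dvd_card_core

/-- BG 3.6: a solvable `[H, R] = H` in a group of odd order, with `C_H(R₀)` a Z-group, has `p`-length
one. -/
theorem plengthLE_one_of_zgroup_centralizer {X : Type u} [Group X] [Finite X] {p r : ℕ}
    [Fact p.Prime] (hr : r.Prime) (hodd : Odd (Nat.card X)) (H R R₀ : Subgroup X) [H.Normal]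
    (hsolv : Group.IsSolvable H) (hcop : (Nat.card H).Coprime (Nat.card R)) (hHR : ⁅H, R⁆ = H)
    (hR₀R : R₀ ≤ R) (hR₀ : Nat.card R₀ = r) (hZ : IsZGroup ↥(H ⊓ centralizer (R₀ : Set X))) :
    Cfsg.PLengthLE p 1 H :=
  BGSigma.plengthLE_one_iff.mpr
    (not_dvd_index_pPrimePCore_aux hr _ hodd H R R₀ le_rfl hsolv hcop hHR hR₀R hR₀ hZ)

end Cfsg.Agent.OddLocal43
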