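import Cfsg.Agent.OddLocal43.RankTwoStructure

/-!
# The non-abelian case of Blackburn's theorem
-/

set_option autoImplicit false

namespace Cfsg.Agent.OddLocal43

open Subgroup
open scoped commutatorElement

variable {p : ℕ} [hp : Fact p.Prime] {A : Type*} [Group A] [Finite A]

theorem mul_pow_congr_mod {R : Type*} [Group R] {N : Subgroup R} [N.Normal] {u v : R} {k : ℕ}
    (h : u * (v ^ k)⁻¹ ∈ N) : (QuotientGroup.mk u : R ⧸ N) = QuotientGroup.mk v ^ k := by
  rw [← mul_inv_eq_one, ← QuotientGroup.mk_pow, ← QuotientGroup.mk_inv, ← QuotientGroup.mk_mul,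
    QuotientGroup.eq_one_iff]
  exact h

/-- Blackburn: the non-abelian case. -/
theorem blackburn_central_product {R : Type*} [Group R] [Finite R] (hp3 : 3 < p) (hR : IsPGroup p R)
    (hr : Cfsg.PRankLE p 2 R) (φ : A →* MulAut R) (hodd : Odd (Nat.card A))
    (hgen : closure {z | ∃ a v, z = φ a v * v⁻¹} = ⊤) (hns : ¬ HasSmallOmega p R) :
    ∃ S C : Subgroup R, S ⊔ C = ⊤ ∧ (∀ a ∈ S, ∀ b ∈ C, a * b = b * a) ∧ ¬ IsMulCommutative S ∧
      Nat.card S = p ^ 3 ∧ (∀ x ∈ S, x ^ p = 1) ∧ IsCyclic C ∧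
      closure {x : R | x ∈ C ∧ x ^ p = 1} = ⁅S, S⁆ := by
  classical
  have hp1 := hp.out.one_lt
  set S := omegaRankTwo hp3 hR hr with hS
  have hSchar : S.Characteristic := omegaRankTwo_characteristic hp3 hR hr
  have hmemS : ∀ {x : R}, x ∈ S ↔ x ^ p = 1 := fun {x} => Iff.rfl
  have hSinv : ∀ (f : MulAut R), ∀ x ∈ S, f x ∈ S := fun f x hx =>
    (characteristic_iff_le_comap.mp hSchar f) hx
  have hScard : Nat.card S = p ^ 3 := by
    obtain ⟨k, hk⟩ := IsPGroup.iff_card.mp (hR.to_subgroup S)
    have h1 := card_omegaRankTwo_le hp3 hR hr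
    rw [← hS, hk] at h1
    have h2 : p ^ 2 < p ^ k := hk ▸ Nat.lt_of_not_le hns
    rw [hk, le_antisymm ((Nat.pow_le_pow_iff_right hp1).mp h1) ((Nat.pow_lt_pow_iff_right hp1).mp h2)]
  have hnab : ∀ T : Subgroup R, T ≤ S → p ^ 2 < Nat.card T → ∃ a ∈ T, ∃ b ∈ T, ⁅a, b⁆ ≠ 1 := by
    intro T hT hcard
    by_contra h
    push Not at h
    have := hr T ⟨⟨fun a b => Subtype.ext (commutatorElement_eq_one_iff_mul_comm.mp (h a a.2 b b.2))⟩⟩
      (fun a ha => hmemS.mp (hT ha))
    omega
  obtain ⟨x, hx, y, hy, hxy⟩ := hnab S le_rfl (hScard ▸ (Nat.pow_lt_pow_iff_right hp1).mpr (by norm_num))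
  have hSgen : closure ({x, y} : Set R) = S := by
    have hle : closure ({x, y} : Set R) ≤ S := (closure_le _).mpr (by rintro a (rfl | rfl) <;> assumption)
    refine eq_of_le_of_card_ge hle ?_
    obtain ⟨k, hk⟩ := IsPGroup.iff_card.mp (hR.to_subgroup (closure ({x, y} : Set R)))
    rw [hScard, hk]
    refine Nat.pow_le_pow_right hp.out.pos ?_
    by_contra hk3
    have hcomm : ∀ a b : ↥(closure ({x, y} : Set R)), a * b = b * a := by
      rcases k with _ | _ | _ | k
      · have := (Nat.card_eq_one_iff_unique.mp (hk.trans (pow_zero p))).1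
        exact fun a b => Subsingleton.elim _ _
      · exact PGroup.commute_of_card_prime (p := p) (by simpa using hk)
      · exact IsPGroup.commutative_of_card_eq_prime_sq (p := p) hk
      · omega
    exact hxy (commutatorElement_eq_one_iff_mul_comm.mpr (congrArg Subtype.val
      (hcomm ⟨x, subset_closure (by simp)⟩ ⟨y, subset_closure (by simp)⟩)))
  -- the centre of `S`
  set Z := S ⊓ centralizer (S : Set R) with hZ
  have hZn : Z.Normal := inferInstance
  have hSne : S ≠ ⊥ := fun h => hxy (by rw [h, mem_bot] at hx; rw [hx]; simp)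
  have hxZ : x ∉ Z := fun h => hxy (commutatorElement_eq_one_iff_mul_comm.mpr
    (mem_centralizer_iff.mp h.2 y hy).symm)
  have hzc : ∀ c ∈ S, (∀ v, v * c = c * v) → c ∈ Z := fun c hc h =>
    ⟨hc, mem_centralizer_iff.mpr fun v _ => h v⟩
  have hZcard : Nat.card Z = p := by
    refine le_antisymm ?_ ?_
    · set T := closure ((Z : Set R) ∪ {x}) with hT
      have hTS : T ≤ S := (closure_le _).mpr (by
        rintro a (ha | ha)
        · exact ha.1
        · exact (Set.mem_singleton_iff.mp ha).symm ▸ hx)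
      have hTc : IsMulCommutative T := isMulCommutative_closure_of_comm (by
        rintro a (ha | ha) b hb
        · rcases hb with hb | hb
          · exact (mem_centralizer_iff.mp ha.2 b hb.1).symm
          · rw [Set.mem_singleton_iff.mp hb]; exact (mem_centralizer_iff.mp ha.2 x hx).symm
        · rw [Set.mem_singleton_iff.mp ha]
          rcases hb with hb | hb
          · exact mem_centralizer_iff.mp hb.2 x hx
          · rw [Set.mem_singleton_iff.mp hb])
      have h1 := hr T hTc fun a ha => hmemS.mp (hTS ha)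
      have h2 := (mul_le_card_of_lt hp.out (hR.to_subgroup T) (lt_of_le_of_ne
        (fun z hz => subset_closure (Or.inl hz) : Z ≤ T) fun h => hxZ (h ▸ subset_closure (Or.inr rfl)))).trans h1
      rw [sq] at h2
      exact Nat.le_of_mul_le_mul_left h2 hp.out.pos
    · refine PGroup.le_card_of_ne_bot hR ?_
      have h := PGroup.inf_center_ne_bot hR (N := S) hSne
      intro h'
      exact h (le_bot_iff.mp (h' ▸ fun c hc => hzc c hc.1 fun v => mem_center_iff.mp hc.2 v))
  have hZc : Z ≤ center R := le_center_of_card_le_prime hR hZcard.le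
  have hSZ : ⁅S, (⊤ : Subgroup R)⁆ ≠ ⊥ := fun h => hxy (mem_bot.mp (h ▸ commutator_mem_commutator hx (mem_top y)))
  have hSS : ⁅S, S⁆ = Z := by
    refine eq_of_le_of_card_ge ?_ ?_
    · set T := ⁅S, S⁆ with hT
      have hTlt : T < S := by
        refine lt_of_le_of_lt ?_ (commutator_top_lt hR hSne)
        exact commutator_mono le_rfl le_top
      have hTcard : Nat.card T ≤ p ^ 2 := by
        have := (mul_le_card_of_lt hp.out (hR.to_subgroup S) hTlt).trans hScard.le
        rw [pow_succ' p 2] at this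
        exact Nat.le_of_mul_le_mul_left this hp.out.pos
      haveI : Subgroup.Normal T := inferInstance
      have hTS : T ≤ S := hTlt.le
      have hTc := commutator_le_center_of_card_le_sq hR hTcard
      have h2 : ⁅(S.subgroupOf S), (⊤ : Subgroup S)⁆ ≤ ⊤ := le_top
      have hclass : commutator S ≤ center S := by
        have hTS : T ≤ S := hTlt.le
        have h3 : Nat.card (commutator S) ≤ p := by
          have hFi : p ^ 2 ≤ (frattini S).index := by
            obtain ⟨n, hn⟩ := (hR.to_subgroup S).index (frattini S)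
            rw [hn]
            refine Nat.pow_le_pow_right hp.out.pos ?_
            by_contra hlt
            have hcyc : IsCyclic S := PGroup.isCyclic_of_index_frattini_le (hR.to_subgroup S)
              (hn ▸ (Nat.pow_le_pow_right hp.out.pos (show n ≤ 1 by omega)).trans (pow_one p).le)
            exact hxy (commutatorElement_eq_one_iff_mul_comm.mpr (congrArg Subtype.val
              (PGroup.mul_comm_of_cyclic (⟨x, hx⟩ : S) ⟨y, hy⟩)))
          refine (card_le_of_le (PGroup.commutator_le_frattini (hR.to_subgroup S))).trans ?_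
          refine Nat.le_of_mul_le_mul_right ?_ (pow_pos hp.out.pos 2)
          calc Nat.card (frattini S) * p ^ 2 ≤ Nat.card (frattini S) * (frattini S).index :=
                Nat.mul_le_mul_left _ hFi
            _ = p * p ^ 2 := by rw [card_mul_index, hScard]; ring
        exact le_center_of_card_le_prime (hR.to_subgroup S) h3
      refine le_inf hTS ?_
      rw [hT, commutator_le]
      intro a ha b hb
      refine mem_centralizer_iff.mpr fun c hc => ?_
      exact congrArg Subtype.val (mem_center_iff.mp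
        (hclass (PGroup.commutatorElement_mem_commutator (⟨a, ha⟩ : S) ⟨b, hb⟩)) ⟨c, hc⟩)
    · rw [hZcard]
      exact PGroup.le_card_of_ne_bot hR fun h => hxy (mem_bot.mp (h ▸ commutator_mem_commutator hx hy))
  have hxyZ : ⁅x, y⁆ ∈ Z := hSS.le (commutator_mem_commutator hx hy)
  have hzgen : zpowers ⁅x, y⁆ = Z := eq_of_le_of_card_ge (zpowers_le.mpr hxyZ) (by
    rw [hZcard, Nat.card_zpowers, orderOf_eq_prime (hmemS.mp hxyZ.1) hxy])
  -- the centralizer of `S` is cyclic and central
  set C := centralizer (S : Set R) with hC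
  have hCS : ∀ c ∈ C, c ^ p = 1 → c ∈ Z := fun c hc hcp => ⟨hcp, hc⟩
  have hCcyc : IsCyclic C := by
    by_contra hnc
    obtain ⟨B, -, -, hBexp, hBcard⟩ :=
      PGroup.exists_normal_elementary_sq (hR.to_subgroup C) (by omega) hnc
    have h1 : B.map C.subtype ≤ Z := by
      rintro _ ⟨b, hb, rfl⟩
      exact hCS _ b.2 (congrArg Subtype.val (hBexp b hb))
    have h2 := card_le_of_le h1
    rw [card_map_of_injective C.subtype_injective, hBcard, hZcard] at h2
    nlinarith [hp.out.two_le]
  have hCinv : ∀ a, ∀ c ∈ C, φ a c ∈ C := fun a c hc => mem_centralizer_iff.mpr fun s hs => by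
    apply (φ a).symm.injective
    simp only [map_mul, MulEquiv.symm_apply_apply]
    exact mem_centralizer_iff.mp hc _ (hSinv (φ a).symm s hs)
  have hCc : C ≤ center R := le_center_of_isCyclic φ hgen C hCinv
  -- the inducers of inner automorphisms of `S`
  let D : Subgroup R :=
    { carrier := {d | ∀ s ∈ S, ⁅d, s⁆ ∈ Z}
      one_mem' := fun s _ => by rw [commutatorElement_one_left]; exact one_mem _
      mul_mem' := fun {a b} ha hb s hs => by
        rw [show ⁅a * b, s⁆ = a * ⁅b, s⁆ * a⁻¹ * ⁅a, s⁆ by simp only [commutatorElement_def]; group]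
        exact mul_mem (hZn.conj_mem _ (hb s hs) a) (ha s hs)
      inv_mem' := fun {a} ha s hs => by
        rw [show ⁅a⁻¹, s⁆ = a⁻¹ * ⁅a, s⁆⁻¹ * a⁻¹⁻¹ by simp only [commutatorElement_def]; group]
        exact hZn.conj_mem _ (inv_mem (ha s hs)) _ }
  have hSD : S ≤ D := fun s hs t ht => hSS.le (commutator_mem_commutator hs ht)
  have hCD : C ≤ D := fun c hc s _ => by
    rw [commutatorElement_eq_one_iff_mul_comm.mpr (mem_center_iff.mp (hCc hc) s).symm]
    exact one_mem _
  have hDle : D ≤ S ⊔ C := by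
    intro d hd
    let F : R → R × R := fun g => (g * x * g⁻¹, g * y * g⁻¹)
    have hF : ∀ {a b : R}, F a = F b → a⁻¹ * b ∈ C := by
      intro a b hab
      rw [hC, ← hSgen, centralizer_closure, mem_centralizer_iff]
      intro v hv
      have e : a * v * a⁻¹ = b * v * b⁻¹ := by
        rcases hv with rfl | rfl
        · exact congrArg Prod.fst hab
        · exact congrArg Prod.snd hab
      calc v * (a⁻¹ * b) = a⁻¹ * (a * v * a⁻¹) * b := by group
        _ = a⁻¹ * b * v := by rw [e]; group
    -- both images lie in the `p ^ 2` pairs `(z x, z' y)`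
    have hmem : ∀ g ∈ D, ⁅g, x⁆ ∈ Z ∧ ⁅g, y⁆ ∈ Z := fun g hg => ⟨hg x hx, hg y hy⟩
    let K := Z.subgroupOf S
    let G₂ : S ⧸ K → Z × Z := fun q =>
      (⟨⁅((Quotient.out q : S) : R), x⁆, (hmem _ (hSD (Quotient.out q).2)).1⟩,
        ⟨⁅((Quotient.out q : S) : R), y⁆, (hmem _ (hSD (Quotient.out q).2)).2⟩)
    have hinj : Function.Injective G₂ := by
      intro q q' h
      rw [← QuotientGroup.out_eq' q, ← QuotientGroup.out_eq' q', QuotientGroup.eq, mem_subgroupOf]
      have h1 : ((Quotient.out q : S) : R)⁻¹ * (Quotient.out q' : S) ∈ C := by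
        refine hF (Prod.ext ?_ ?_)
        · have := congrArg (fun t => ((t.1 : Z) : R)) h
          simp only [G₂, commutatorElement_def] at this
          exact mul_right_cancel this
        · have := congrArg (fun t => ((t.2 : Z) : R)) h
          simp only [G₂, commutatorElement_def] at this
          exact mul_right_cancel this
      exact mem_inf.mpr ⟨mul_mem (inv_mem (Quotient.out q).2) (Quotient.out q').2, h1⟩
    have hcardQ : Nat.card (S ⧸ K) = p * p := by
      have h1 := K.card_mul_index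
      rw [Nat.card_congr (subgroupOfEquivOfLe (inf_le_left : Z ≤ S)).toEquiv, hZcard, hScard,
        index_eq_card] at h1
      refine Nat.eq_of_mul_eq_mul_left hp.out.pos ?_
      rw [h1]; ring
    have hbij : Function.Bijective G₂ := (Nat.bijective_iff_injective_and_card G₂).mpr
      ⟨hinj, by rw [hcardQ, Nat.card_prod, hZcard]⟩
    obtain ⟨q, hq⟩ := hbij.2 (⟨⁅d, x⁆, (hmem d hd).1⟩, ⟨⁅d, y⁆, (hmem d hd).2⟩)
    have h1 : ((Quotient.out q : S) : R)⁻¹ * d ∈ C := by
      refine hF (Prod.ext ?_ ?_)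
      · have := congrArg (fun t => ((t.1 : Z) : R)) hq
        simp only [G₂, commutatorElement_def] at this
        exact mul_right_cancel this
      · have := congrArg (fun t => ((t.2 : Z) : R)) hq
        simp only [G₂, commutatorElement_def] at this
        exact mul_right_cancel this
    rw [show d = ((Quotient.out q : S) : R) * (((Quotient.out q : S) : R)⁻¹ * d) by group]
    exact mul_mem_sup (Quotient.out q).2 h1
  by_cases hDtop : D = ⊤
  · refine ⟨S, C, top_le_iff.mp (hDtop ▸ hDle), fun a ha b hb => mem_centralizer_iff.mp hb a ha,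
      fun h => ?_, hScard, fun s hs => hs, hCcyc, ?_⟩
    · exact hxy (commutatorElement_eq_one_iff_mul_comm.mpr
        (congrArg Subtype.val (h.is_comm.comm (⟨x, hx⟩ : S) ⟨y, hy⟩)))
    · rw [hSS]
      refine le_antisymm ((closure_le _).mpr fun c hc => hCS c hc.1 hc.2) ?_
      exact fun z hz => subset_closure ⟨hz.2, hz.1⟩
  -- otherwise a contradiction
  exfalso
  set L := ⁅S, (⊤ : Subgroup R)⁆ with hLdef
  have hLn : L.Normal := inferInstance
  have hLS : L < S := commutator_top_lt hR hSne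
  have hZL : Z ≤ L := hSS ▸ commutator_mono le_rfl le_top
  have hLcard : Nat.card L = p ^ 2 := by
    refine le_antisymm ?_ ?_
    · have := (mul_le_card_of_lt hp.out (hR.to_subgroup S) hLS).trans hScard.le
      rw [pow_succ' p 2] at this
      exact Nat.le_of_mul_le_mul_left this hp.out.pos
    · have hZL' : Z < L := lt_of_le_of_ne hZL fun h => hDtop (eq_top_iff.mpr fun d _ => fun s hs => by
        rw [h, ← commutatorElement_inv]
        exact inv_mem (commutator_mem_commutator hs (mem_top d)))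
      have := mul_le_card_of_lt hp.out (hR.to_subgroup L) hZL'
      rwa [hZcard, ← sq] at this
  have hLexp : ∀ v ∈ L, v ^ p = 1 := fun v hv => hLS.le hv
  have hLc : ⁅L, (⊤ : Subgroup R)⁆ ≤ center R := commutator_le_center_of_card_le_sq hR hLcard.le
  have hLcomm : ∀ u ∈ L, ∀ v ∈ L, u * v = v * u := fun u hu v hv => congrArg Subtype.val
    (IsPGroup.commutative_of_card_eq_prime_sq (p := p) (G := L) hLcard ⟨u, hu⟩ ⟨v, hv⟩)
  have hLZ : ∀ g : R, ∀ l ∈ L, ⁅l, g⁆ ∈ Z := fun g l hl =>
    hzc _ (hLS.le (commutator_le_left L ⊤ (commutator_mem_commutator hl (mem_top g))))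
      fun v => mem_center_iff.mp (hLc (commutator_mem_commutator hl (mem_top g))) v
  obtain ⟨s, hsS, hsL⟩ := SetLike.exists_of_lt hLS
  have hLs : L ⊔ zpowers s = S := by
    refine eq_of_le_of_card_ge (sup_le hLS.le (zpowers_le.mpr hsS)) ?_
    have := mul_le_card_of_lt hp.out (hR.to_subgroup (L ⊔ zpowers s))
      (lt_of_le_of_ne le_sup_left fun h => hsL (h ▸ mem_sup_right (mem_zpowers s)))
    rw [hLcard, ← pow_succ'] at this
    rwa [hScard]
  -- membership in `D`
  have hDmem : ∀ g : R, ⁅g, s⁆ ∈ Z → g ∈ D := by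
    intro g hg v hv
    have hle : S ≤ (centralizer {(QuotientGroup.mk g : R ⧸ Z)}).comap (QuotientGroup.mk' Z) := by
      rw [← hLs]
      refine sup_le (fun l hl => ?_) (zpowers_le.mpr ?_) <;>
        (rw [mem_comap, mem_centralizer_singleton_iff, ← QuotientGroup.mk'_apply (N := Z) g,
          ← commutatorElement_eq_one_iff_mul_comm, ← map_commutatorElement,
          QuotientGroup.mk'_apply, QuotientGroup.eq_one_iff])
      · exact hLZ g l hl
      · rw [← commutatorElement_inv]; exact inv_mem hg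
    have h1 := hle hv
    rw [mem_comap, mem_centralizer_singleton_iff, QuotientGroup.mk'_apply,
      ← commutatorElement_eq_one_iff_mul_comm] at h1
    have h2 : (QuotientGroup.mk ⁅v, g⁆ : R ⧸ Z) = 1 := h1
    rw [QuotientGroup.eq_one_iff] at h2
    rw [← commutatorElement_inv]; exact inv_mem h2
  -- `R = D ⟨t⟩`
  obtain ⟨t, ht⟩ : ∃ t, t ∉ D := by
    by_contra h
    push Not at h
    exact hDtop (eq_top_iff.mpr fun g _ => h g)
  set l := ⁅t, s⁆ with hl
  have hlL : l ∈ L := by rw [hl, ← commutatorElement_inv]; exact inv_mem (commutator_mem_commutator hsS (mem_top t))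
  have hlZ : l ∉ Z := fun h => ht (hDmem t h)
  have hLl : Z ⊔ zpowers l = L := by
    refine eq_of_le_of_card_ge (sup_le hZL (zpowers_le.mpr hlL)) ?_
    have := mul_le_card_of_lt hp.out (hR.to_subgroup (Z ⊔ zpowers l))
      (lt_of_le_of_ne le_sup_left fun h => hlZ (h ▸ mem_sup_right (mem_zpowers l)))
    rw [hZcard, ← sq] at this
    rwa [hLcard]
  have htd : ∀ g : R, ∃ i : ℤ, t ^ i * g ∈ D := by
    intro g
    -- `g ↦ [g, s]` modulo `Z` is a homomorphism
    let θ : R →* R ⧸ Z := MonoidHom.mk' (fun g => (QuotientGroup.mk ⁅g, s⁆ : R ⧸ Z)) (by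
      intro a b
      rw [← QuotientGroup.mk_mul, QuotientGroup.eq]
      have hb : ⁅b, s⁆ ∈ L := by rw [← commutatorElement_inv]; exact inv_mem (commutator_mem_commutator hsS (mem_top b))
      have ha : ⁅a, s⁆ ∈ L := by rw [← commutatorElement_inv]; exact inv_mem (commutator_mem_commutator hsS (mem_top a))
      rw [show ⁅a * b, s⁆ = ⁅a, ⁅b, s⁆⁆ * (⁅b, s⁆ * ⁅a, s⁆) by simp only [commutatorElement_def]; group,
        hLcomm _ hb _ ha, mul_inv_rev, mul_assoc]
      have h1 : ⁅a, ⁅b, s⁆⁆⁻¹ ∈ Z := by rw [commutatorElement_inv]; exact hLZ a _ hb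
      rw [← mul_assoc]
      exact hZn.conj_mem' _ h1 _)
    have hθt : (zpowers t).map θ = L.map (QuotientGroup.mk' Z) := by
      rw [← hLl, Subgroup.map_sup, MonoidHom.map_zpowers, MonoidHom.map_zpowers]
      rw [show Z.map (QuotientGroup.mk' Z) = ⊥ by rw [Subgroup.map_eq_bot_iff, QuotientGroup.ker_mk'], bot_sup_eq]
      rfl
    have hg : θ g ∈ (zpowers t).map θ := by
      rw [hθt]
      exact mem_map_of_mem _ (by rw [← commutatorElement_inv]; exact inv_mem (commutator_mem_commutator hsS (mem_top g)))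
    obtain ⟨u, hu, hue⟩ := hg
    obtain ⟨i, rfl⟩ := mem_zpowers_iff.mp hu
    refine ⟨-i, hDmem _ ((QuotientGroup.eq_one_iff _).mp ?_)⟩
    show θ (t ^ (-i) * g) = 1
    rw [map_mul, zpow_neg, map_inv, hue, inv_mul_cancel]
  have hDR : commutator R ≤ L := by
    have hgenR : closure ((S : Set R) ∪ C ∪ {t}) = ⊤ := by
      rw [eq_top_iff]
      intro g _
      obtain ⟨i, hi⟩ := htd g
      have h1 : S ⊔ C ≤ closure ((S : Set R) ∪ C ∪ {t}) := sup_le
        (fun v hv => subset_closure (Or.inl (Or.inl hv))) (fun v hv => subset_closure (Or.inl (Or.inr hv)))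
      have := mul_mem (zpow_mem (subset_closure (Or.inr rfl) : t ∈ closure ((S : Set R) ∪ C ∪ {t})) (-i))
        (h1 (hDle hi))
      rwa [zpow_neg, inv_mul_cancel_left] at this
    refine commutator_le_of_gen hgenR ?_
    have hS' : ∀ u ∈ S, ∀ v : R, ⁅u, v⁆ ∈ L := fun u hu v => commutator_mem_commutator hu (mem_top v)
    have hC' : ∀ u ∈ C, ∀ v : R, ⁅u, v⁆ ∈ L := fun u hu v => by
      rw [commutatorElement_eq_one_iff_mul_comm.mpr (mem_center_iff.mp (hCc hu) v).symm]
      exact one_mem _
    intro u hu v hv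
    rcases hu with (hu | hu) | hu
    · exact hS' u hu v
    · exact hC' u hu v
    rcases hv with (hv | hv) | hv
    · rw [← commutatorElement_inv]; exact inv_mem (hS' v hv u)
    · rw [← commutatorElement_inv]; exact inv_mem (hC' v hv u)
    rw [Set.mem_singleton_iff.mp hu, Set.mem_singleton_iff.mp hv, commutatorElement_self]
    exact one_mem _
  have hpow := pow_mul_of_commutator hp3 hDR hLexp hLc
  have hpowc := pow_mem_center_of_commutator hp3 hDR hLexp hLc
  have htpC : t ^ p ∈ C := mem_centralizer_iff.mpr fun v _ => mem_center_iff.mp (hpowc t) v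
  -- `t ^ p` generates `C`
  obtain ⟨c₀, hc₀⟩ := hCcyc.exists_generator
  have htgen : zpowers (t ^ p) = C := by
    refine le_antisymm (zpowers_le.mpr htpC) ?_
    obtain ⟨j, hj⟩ := mem_zpowers_iff.mp (hc₀ ⟨t ^ p, htpC⟩)
    have hj' : (c₀ : R) ^ j = t ^ p := by
      have := congrArg Subtype.val hj
      simpa using this
    have hndvd : ¬ (p : ℤ) ∣ j := by
      rintro ⟨i, rfl⟩
      refine ht ?_
      have h1 : (t * ((c₀ : R) ^ i)⁻¹) ^ p = 1 := by
        rw [hpow, inv_pow, ← hj', mul_comm (p : ℤ), zpow_mul, zpow_natCast, mul_inv_cancel]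
      have h2 : t * ((c₀ : R) ^ i)⁻¹ ∈ S := h1
      have h3 := mul_mem (hSD h2) (hCD (zpow_mem c₀.2 i))
      rwa [inv_mul_cancel_right] at h3
    intro c hc
    obtain ⟨i, hi⟩ := mem_zpowers_iff.mp (hc₀ ⟨c, hc⟩)
    have hi' : (c₀ : R) ^ i = c := by
      have := congrArg Subtype.val hi
      simpa using this
    obtain ⟨k, hk⟩ := IsPGroup.iff_orderOf.mp hR (c₀ : R)
    have hgcd : IsCoprime j ((p : ℤ) ^ k) :=
      ((Prime.coprime_iff_not_dvd (Nat.prime_iff_prime_int.mp hp.out)).mpr hndvd).symm.pow_right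
    obtain ⟨u, v, huv⟩ := hgcd
    have h0 : (c₀ : R) ^ ((p : ℤ) ^ k) = 1 := by
      rw [← Nat.cast_pow, zpow_natCast, ← hk, pow_orderOf_eq_one]
    refine mem_zpowers_iff.mpr ⟨u * i, ?_⟩
    rw [← hj', ← zpow_mul, ← hi',
      show j * (u * i) = i - ((p : ℤ) ^ k) * (v * i) by linear_combination i * huv,
      zpow_sub, zpow_mul, h0, one_zpow, inv_one, mul_one]
  obtain ⟨e, he⟩ : ∃ e : ℕ, (t ^ p) ^ e = ⁅l, s⁆ := by
    have h1 : ⁅l, s⁆ ∈ zpowers (t ^ p) := htgen ▸ (hLZ s l hlL).2
    exact mem_powers_iff_mem_zpowers.mpr h1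
  have hls : ⁅l, s⁆ ≠ 1 := by
    intro h
    refine hlZ ⟨hLS.le hlL, mem_centralizer_iff.mpr fun v hv => ?_⟩
    have hle : S ≤ centralizer {l} := by
      rw [← hLs]
      refine sup_le (fun u hu => mem_centralizer_singleton_iff.mpr (hLcomm u hu l hlL)) ?_
      exact zpowers_le.mpr (mem_centralizer_singleton_iff.mpr (commutatorElement_eq_one_iff_mul_comm.mp h).symm)
    exact mem_centralizer_singleton_iff.mp (hle hv)
  have hlsp : ⁅l, s⁆ ^ p = 1 := hmemS.mp (hLZ s l hlL).1
  have hkillC : ∀ c ∈ C, c ^ (p * e) = 1 := by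
    intro c hc
    obtain ⟨i, rfl⟩ := mem_powers_iff_mem_zpowers.mpr (htgen.ge hc)
    show ((t ^ p) ^ i) ^ (p * e) = 1
    rw [← pow_mul, mul_comm p e, show i * (e * p) = e * p * i by ring, pow_mul, pow_mul, he, hlsp,
      one_pow]
  -- the action
  have hDinv : ∀ (f : MulAut R), ∀ d ∈ D, f d ∈ D := by
    intro f d hd v hv
    have h1 := hd _ (hSinv f.symm v hv)
    have h2 : f ⁅d, f.symm v⁆ ∈ Z := by
      refine ⟨hSinv f _ h1.1, mem_centralizer_iff.mpr fun u hu => ?_⟩
      have h3 := mem_centralizer_iff.mp h1.2 _ (hSinv f.symm u hu)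
      have h4 := congrArg f h3
      rwa [map_mul, map_mul, MulEquiv.apply_symm_apply] at h4
    rwa [map_commutatorElement, MulEquiv.apply_symm_apply] at h2
  have hLinv : ∀ (f : MulAut R), ∀ d ∈ L, f d ∈ L := by
    intro f d hd
    have : L ≤ L.comap f.toMonoidHom := by
      rw [hLdef, commutator_le]
      intro u hu v _
      rw [mem_comap, map_commutatorElement]
      exact commutator_mem_commutator (hSinv f u hu) (mem_top _)
    exact this hd
  have key : ∀ a : A, φ a s * s⁻¹ ∈ L := by
    intro a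
    obtain ⟨m, hm⟩ : ∃ m : ℕ, φ a s * (s ^ m)⁻¹ ∈ L := by
      have h1 : φ a s ∈ L ⊔ zpowers s := hLs ▸ hSinv (φ a) s hsS
      obtain ⟨u, hu, w, hw, hhw⟩ := mem_sup_of_normal_left.mp h1
      obtain ⟨m, rfl⟩ := mem_powers_iff_mem_zpowers.mpr hw
      exact ⟨m, by rw [← hhw, mul_inv_cancel_right]; exact hu⟩
    obtain ⟨k, hk⟩ : ∃ k : ℕ, φ a t * (t ^ k)⁻¹ ∈ D := by
      obtain ⟨i, hi⟩ := htd (φ a t)⁻¹
      have h1 : φ a t * t ^ (-i) ∈ D := by
        have := inv_mem hi
        rwa [mul_inv_rev, inv_inv, ← zpow_neg] at this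
      have hti : t ^ i ∈ zpowers t := zpow_mem (mem_zpowers t) i
      obtain ⟨k, hk⟩ := mem_powers_iff_mem_zpowers.mpr hti
      exact ⟨k, by rw [show t ^ k = t ^ i from hk, ← zpow_neg]; exact h1⟩
    have hm0 := hm
    obtain ⟨d, hdD, hφt⟩ : ∃ d, d ∈ D ∧ φ a t = d * t ^ k := ⟨_, hk, (inv_mul_cancel_right _ _).symm⟩
    obtain ⟨u, hm, hφs⟩ : ∃ u, u ∈ L ∧ φ a s = u * s ^ m := ⟨_, hm, (inv_mul_cancel_right _ _).symm⟩
    -- the `p`-th power
    have h1 : φ a ⁅l, s⁆ = ⁅l, s⁆ ^ k := by
      have hd' : (d ^ p) ^ e = 1 := by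
        obtain ⟨v, hv, w, hw, hvw⟩ := (mem_sup_of_normal_left (s := S) (t := C)).mp (hDle hdD)
        rw [← hvw, hpow, hmemS.mp hv, one_mul, ← pow_mul, hkillC w hw]
      rw [← he, map_pow, map_pow, hφt, hpow, (show Commute (d ^ p) ((t ^ k) ^ p) from
        (mem_center_iff.mp (hpowc d) _).symm).mul_pow, hd', one_mul, ← pow_mul, ← pow_mul, ← pow_mul,
        ← pow_mul]
      congr 1; ring
    -- the commutators
    have hmkd : ∀ v ∈ S, (QuotientGroup.mk ⁅d, v⁆ : R ⧸ Z) = 1 := fun v hv =>
      (QuotientGroup.eq_one_iff _).mpr (hdD v hv)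
    set π := QuotientGroup.mk' Z with hπ
    have hcent : ∀ v ∈ L, π v ∈ center (R ⧸ Z) := by
      intro v hv
      refine mem_center_iff.mpr fun q => ?_
      obtain ⟨g, rfl⟩ := QuotientGroup.mk'_surjective Z q
      rw [← commutatorElement_eq_one_iff_mul_comm, ← map_commutatorElement]
      refine (QuotientGroup.eq_one_iff _).mpr ?_
      rw [← commutatorElement_inv]
      exact inv_mem (hLZ g v hv)
    have hclass : commutator (R ⧸ Z) ≤ center (R ⧸ Z) := by
      rw [_root_.commutator_def, commutator_le]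
      intro u _ v _
      obtain ⟨u, rfl⟩ := QuotientGroup.mk'_surjective Z u
      obtain ⟨v, rfl⟩ := QuotientGroup.mk'_surjective Z v
      rw [← map_commutatorElement]
      exact hcent _ (hDR (PGroup.commutatorElement_mem_commutator u v))
    have h2 : φ a l * (l ^ (k * m))⁻¹ ∈ Z := by
      rw [← QuotientGroup.eq_one_iff]
      show π _ = 1
      have e1 : π (φ a l) = ⁅π t, π s⁆ ^ (k * m) := by
        rw [hl, map_commutatorElement (φ a), map_commutatorElement, hφt, hφs, map_mul, map_mul, map_pow,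
          map_pow, PGroup.comm_mul_left hclass, PGroup.comm_mul_right hclass,
          show ⁅π d, π u⁆ = 1 from commutatorElement_eq_one_iff_mul_comm.mpr
            (mem_center_iff.mp (hcent u hm) _),
          PGroup.comm_mul_right hclass, show ⁅π d, π s ^ m⁆ = 1 by
            rw [← map_pow, ← map_commutatorElement]; exact hmkd _ (pow_mem hsS m),
          show ⁅π t ^ k, π u⁆ = 1 from commutatorElement_eq_one_iff_mul_comm.mpr
            (mem_center_iff.mp (hcent u hm) _),
          one_mul, one_mul, one_mul, PGroup.comm_pow_left hclass, PGroup.comm_pow_right hclass,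
          ← pow_mul, mul_comm m]
      rw [map_mul, map_inv, map_pow, e1, hl, map_commutatorElement, mul_inv_cancel]
    obtain ⟨v, h2, hφl⟩ : ∃ v, v ∈ Z ∧ φ a l = v * l ^ (k * m) :=
      ⟨_, h2, (inv_mul_cancel_right _ _).symm⟩
    have hScomm : commutator S ≤ center S := by
      rw [_root_.commutator_def, commutator_le]
      intro g _ g' _
      refine mem_center_iff.mpr fun g'' => Subtype.ext ?_
      exact mem_centralizer_iff.mp (hSS.le (commutator_mem_commutator g.2 g'.2)).2 g'' g''.2
    let l' : S := ⟨l, hLS.le hlL⟩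
    let s' : S := ⟨s, hsS⟩
    let u' : S := ⟨u, hLS.le hm⟩
    let v' : S := ⟨v, h2.1⟩
    have h3 : φ a ⁅l, s⁆ = ⁅l, s⁆ ^ (k * m * m) := by
      have hv1 : ∀ g : S, ⁅v', g⁆ = 1 := fun g => commutatorElement_eq_one_iff_mul_comm.mpr
        (Subtype.ext (mem_centralizer_iff.mp h2.2 g g.2).symm)
      have hu1 : ⁅l', u'⁆ = 1 := commutatorElement_eq_one_iff_mul_comm.mpr
        (Subtype.ext (hLcomm l hlL u hm))
      have e2 : ⁅v' * l' ^ (k * m), u' * s' ^ m⁆ = ⁅l', s'⁆ ^ (k * m * m) := by
        rw [PGroup.comm_mul_left hScomm, hv1, one_mul, PGroup.comm_mul_right hScomm,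
          PGroup.comm_pow_left hScomm, hu1, one_pow, one_mul, PGroup.comm_pow_left hScomm,
          PGroup.comm_pow_right hScomm, ← pow_mul, mul_comm m]
      rw [map_commutatorElement, hφl, hφs]
      exact congrArg Subtype.val e2
    have hord : orderOf ⁅l, s⁆ = p := orderOf_eq_prime hlsp hls
    have h4 : ((k * m * m : ℕ) : ZMod p) = (k : ℕ) := by
      rw [ZMod.natCast_eq_natCast_iff, ← hord, ← pow_eq_pow_iff_modEq]
      exact h3.symm.trans h1
    have hk0 : (k : ZMod p) ≠ 0 := by
      intro h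
      rw [ZMod.natCast_eq_zero_iff] at h
      obtain ⟨i, rfl⟩ := h
      have h5 : φ a t ∈ D := by
        rw [hφt, pow_mul]
        exact mul_mem hdD (hCD (pow_mem htpC i))
      exact ht (by simpa using hDinv (φ a).symm _ h5)
    have hm2 : (m : ZMod p) ^ 2 = 1 := by
      push_cast at h4
      exact mul_left_cancel₀ hk0 (by rw [mul_one]; linear_combination h4)
    -- odd order
    have hiter : ∀ i : ℕ, (QuotientGroup.mk ((φ a ^ i) s) : R ⧸ L) = QuotientGroup.mk s ^ (m ^ i) := by
      intro i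
      induction i with
      | zero => simp
      | succ i ih =>
        have h6 : (φ a ^ i) s * (s ^ (m ^ i))⁻¹ ∈ L := by
          rw [← QuotientGroup.eq_one_iff, QuotientGroup.mk_mul, QuotientGroup.mk_inv, ih,
            QuotientGroup.mk_pow, mul_inv_cancel]
        have h7 := hLinv (φ a) _ h6
        rw [map_mul, map_inv, map_pow] at h7
        rw [pow_succ', MulAut.mul_apply, mul_pow_congr_mod h7, mul_pow_congr_mod hm0, ← pow_mul]
        congr 1; ring
    have h8 : ((m ^ Nat.card A : ℕ) : ZMod p) = (1 : ℕ) := by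
      have h9 := hiter (Nat.card A)
      rw [← map_pow, pow_card_eq_one', map_one, MulAut.one_apply] at h9
      have h10 : (QuotientGroup.mk s : R ⧸ L) ≠ 1 := fun h => hsL ((QuotientGroup.eq_one_iff s).mp h)
      have hsord : orderOf (QuotientGroup.mk s : R ⧸ L) = p :=
        orderOf_eq_prime (by rw [← QuotientGroup.mk_pow, hmemS.mp hsS, QuotientGroup.mk_one]) h10
      rw [ZMod.natCast_eq_natCast_iff, ← hsord, ← pow_eq_pow_iff_modEq, pow_one]
      exact h9.symm
    have hm1 : (m : ZMod p) = 1 := by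
      obtain ⟨i, hi⟩ := hodd
      push_cast at h8
      rwa [hi, pow_succ, pow_mul, hm2, one_pow, one_mul] at h8
    have h11 : (QuotientGroup.mk s : R ⧸ L) ^ m = QuotientGroup.mk s := by
      have hsord : orderOf (QuotientGroup.mk s : R ⧸ L) = p :=
        orderOf_eq_prime (by rw [← QuotientGroup.mk_pow, hmemS.mp hsS, QuotientGroup.mk_one])
          fun h => hsL ((QuotientGroup.eq_one_iff s).mp h)
      conv_rhs => rw [← pow_one (QuotientGroup.mk s : R ⧸ L)]
      rw [pow_eq_pow_iff_modEq, hsord, ← ZMod.natCast_eq_natCast_iff]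
      push_cast
      exact hm1
    rw [← QuotientGroup.eq_one_iff, QuotientGroup.mk_mul, QuotientGroup.mk_inv,
      mul_pow_congr_mod hm0, h11, mul_inv_cancel]
  -- `s` lies in the centralizer of `L`
  set M := centralizer (L : Set R) with hM
  have hMn : M.Normal := inferInstance
  have hMinv : ∀ (f : MulAut R), ∀ g ∈ M, f g ∈ M := fun f g hg => mem_centralizer_iff.mpr fun v hv => by
    apply f.symm.injective
    simp only [map_mul, MulEquiv.symm_apply_apply]
    exact mem_centralizer_iff.mp hg _ (hLinv f.symm v hv)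
  have hLM : L ≤ M := fun v hv => mem_centralizer_iff.mpr fun u hu => hLcomm u hu v hv
  have hrep : ∀ g : R, ∃ i : ℕ, s ^ i * g ∈ M := by
    intro g
    let η : R →* R := MonoidHom.mk' (fun g => ⁅g, l⁆) (fun a b => by
      have h1 : ∀ g, ⁅g, l⁆ ∈ center R := fun g => by
        rw [← commutatorElement_inv]; exact inv_mem (hZc (hLZ g l hlL))
      show ⁅a * b, l⁆ = ⁅a, l⁆ * ⁅b, l⁆
      rw [show ⁅a * b, l⁆ = a * ⁅b, l⁆ * a⁻¹ * ⁅a, l⁆ by simp only [commutatorElement_def]; group,
        mem_center_iff.mp (h1 b) a, mul_inv_cancel_right, mem_center_iff.mp (h1 a) ⁅b, l⁆])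
    have hgZ : η g ∈ zpowers (η s) := by
      have heq : zpowers (η s) = Z := by
        refine eq_of_le_of_card_ge (zpowers_le.mpr ?_) ?_
        · show ⁅s, l⁆ ∈ Z
          rw [← commutatorElement_inv]; exact inv_mem (hLZ s l hlL)
        · show Nat.card Z ≤ _
          have : η s = ⁅l, s⁆⁻¹ := (commutatorElement_inv l s).symm
          rw [hZcard, Nat.card_zpowers, this, orderOf_inv, orderOf_eq_prime hlsp hls]
      rw [heq]
      show ⁅g, l⁆ ∈ Z
      rw [← commutatorElement_inv]; exact inv_mem (hLZ g l hlL)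
    obtain ⟨i, hi⟩ := mem_powers_iff_mem_zpowers.mpr (inv_mem hgZ)
    refine ⟨i, ?_⟩
    rw [hM, ← hLl, mem_centralizer_iff]
    intro v hv
    have hle : Z ⊔ zpowers l ≤ centralizer {s ^ i * g} := by
      refine sup_le (fun u hu => mem_centralizer_singleton_iff.mpr (mem_center_iff.mp (hZc hu) _).symm)
        (zpowers_le.mpr (mem_centralizer_singleton_iff.mpr ?_))
      refine (commutatorElement_eq_one_iff_mul_comm.mp ?_).symm
      show η (s ^ i * g) = 1
      rw [map_mul, map_pow, show η s ^ i = (η g)⁻¹ from hi, inv_mul_cancel]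
    exact mem_centralizer_singleton_iff.mp (hle hv)
  have htop : closure {z | ∃ a v, z = φ a v * v⁻¹} ≤ M := by
    rw [closure_le]
    rintro _ ⟨a, v, rfl⟩
    obtain ⟨i, hi⟩ := hrep v
    rw [SetLike.mem_coe, ← QuotientGroup.eq_one_iff]
    have e1 : (QuotientGroup.mk v : R ⧸ M) = (QuotientGroup.mk s ^ i)⁻¹ := by
      rw [eq_inv_iff_mul_eq_one, ← QuotientGroup.mk_pow, ← QuotientGroup.mk_mul, QuotientGroup.eq_one_iff]
      have := hMn.conj_mem _ hi (s ^ i)⁻¹
      rwa [inv_inv, inv_mul_cancel_left] at this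
    have e2 : (QuotientGroup.mk (φ a s) : R ⧸ M) = QuotientGroup.mk s := by
      rw [← mul_inv_eq_one, ← QuotientGroup.mk_inv, ← QuotientGroup.mk_mul, QuotientGroup.eq_one_iff]
      exact hLM (key a)
    have e3 : (QuotientGroup.mk (φ a v) : R ⧸ M) = (QuotientGroup.mk s ^ i)⁻¹ := by
      have h := hMinv (φ a) _ hi
      rw [map_mul, map_pow] at h
      rw [eq_inv_iff_mul_eq_one, ← e2, ← QuotientGroup.mk_pow, ← QuotientGroup.mk_mul, QuotientGroup.eq_one_iff]
      have := hMn.conj_mem _ h ((φ a s) ^ i)⁻¹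
      rwa [inv_inv, inv_mul_cancel_left] at this
    rw [QuotientGroup.mk_mul, QuotientGroup.mk_inv, e1, e3, mul_inv_cancel]
  rw [hgen] at htop
  exact hls (commutatorElement_eq_one_iff_mul_comm.mpr
    (mem_centralizer_iff.mp (htop (mem_top s)) l hlL))

end Cfsg.Agent.OddLocal43
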