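import Cfsg.Agent.OddLocal43.LiftTrace
import Cfsg.Agent.Lib.Coprime.Abelian
import Cfsg.Agent.Lib.PGroup.Basic
import Cfsg.Agent.Lib.Fitting.Minimal
import Cfsg.Prelude.Def_Transfer

/-!
# Frobenius groups acting on elementary abelian subgroups

`card V = card (C_V R) ^ card R` when `C_V K = 1`, and the derived kernel acts trivially when
`C_V R` has prime order.
-/

set_option autoImplicit false

namespace Cfsg.Agent.OddLocal43

open Subgroup
open scoped Pointwise commutatorElement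

variable {X : Type*} [Group X] [Finite X]

omit [Finite X] in
theorem conjHom_apply {V G : Subgroup X} (hG : G ≤ normalizer (V : Set X)) (g : G) (v : V) :
    ((((normalizerMonoidHom V).comp (inclusion hG)) g v : V) : X) = g * v * (g : X)⁻¹ := by
  simp

omit [Finite X] in
theorem card_fixedBy_conj {V G H : Subgroup X} (hG : G ≤ normalizer (V : Set X)) (hH : H ≤ G) :
    Nat.card (fixedBy ((normalizerMonoidHom V).comp (inclusion hG)) (H.subgroupOf G)) =
      Nat.card ↥(V ⊓ centralizer (H : Set X)) := by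
  refine Nat.card_congr
    { toFun := fun v => ⟨((v : V) : X), v.1.2, mem_centralizer_iff.mpr fun h hh => ?_⟩
      invFun := fun x => ⟨⟨x.1, x.2.1⟩, fun h hh => Subtype.ext ?_⟩
      left_inv := fun v => rfl
      right_inv := fun x => rfl }
  · have := congrArg Subtype.val (v.2 ⟨h, hH hh⟩ hh)
    rw [conjHom_apply] at this
    exact mul_inv_eq_iff_eq_mul.mp this
  · rw [conjHom_apply]
    exact mul_inv_eq_iff_eq_mul.mpr (mem_centralizer_iff.mp x.2.2 h hh)

omit [Finite X] in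
theorem isComplement'_subgroupOf_sup {K R : Subgroup X} (hRK : R ≤ normalizer (K : Set X))
    (hKR : K ⊓ R = ⊥) : (K.subgroupOf (K ⊔ R)).IsComplement' (R.subgroupOf (K ⊔ R)) := by
  refine isComplement'_of_disjoint_and_mul_eq_univ ?_ ?_
  · rw [disjoint_iff, eq_bot_iff]
    intro x hx
    exact mem_bot.mpr (Subtype.ext (mem_bot.mp (hKR.le (mem_inf.mpr ⟨hx.1, hx.2⟩))))
  · rw [Set.eq_univ_iff_forall]
    rintro ⟨x, hx⟩
    have hnK : K ⊔ R ≤ normalizer (K : Set X) := sup_le le_normalizer hRK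
    have hx' : x ∈ ((K ⊔ R : Subgroup X) : Set X) := hx
    rw [sup_comm, coe_mul_of_left_le_normalizer_right R K hRK] at hx'
    obtain ⟨r, hr, k, hk, rfl⟩ := hx'
    refine ⟨⟨r * k * r⁻¹, mem_sup_left ?_⟩, ?_, ⟨r, mem_sup_right hr⟩, hr, Subtype.ext (by simp)⟩
    · exact (mem_normalizer_iff.mp (hRK hr) k).mp hk
    · exact (mem_normalizer_iff.mp (hRK hr) k).mp hk

omit [Finite X] in
theorem isMulCommutative_mono {H K : Subgroup X} (h : H ≤ K) [hK : IsMulCommutative K] :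
    IsMulCommutative H :=
  ⟨⟨fun a b => Subtype.ext (congrArg (fun z : K => (z : X)) (hK.is_comm.comm ⟨a, h a.2⟩ ⟨b, h b.2⟩))⟩⟩

theorem card_eq_pow_of_frobenius {ℓ : ℕ} [Fact ℓ.Prime] (K R V : Subgroup X)
    (hV : Cfsg.IsElementaryAbelian ℓ V) (hcop : (Nat.card ↥(K ⊔ R)).Coprime ℓ)
    (hRK : R ≤ normalizer (K : Set X)) (hKR : K ⊓ R = ⊥)
    (hfpf : ∀ r ∈ R, r ≠ 1 → K ⊓ centralizer ({r} : Set X) = ⊥)
    (hKV : K ≤ normalizer (V : Set X)) (hRV : R ≤ normalizer (V : Set X))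
    (hC : V ⊓ centralizer (K : Set X) = ⊥) :
    Nat.card V = Nat.card ↥(V ⊓ centralizer (R : Set X)) ^ Nat.card R := by
  have hG : K ⊔ R ≤ normalizer (V : Set X) := sup_le hKV hRV
  have : (K.subgroupOf (K ⊔ R)).Normal :=
    normal_subgroupOf_of_le_normalizer (sup_le le_normalizer hRK)
  have hc : ∀ a b : V, a * b = b * a := fun a b => hV.1.is_comm.comm a b
  have he : ∀ v : V, v ^ ℓ = 1 := fun v => Subtype.ext (hV.2 v v.2)
  have hcompl := isComplement'_subgroupOf_sup hRK hKR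
  have h := frobenius_fixed_card hc he ((normalizerMonoidHom V).comp (inclusion hG)) hcop
    (K.subgroupOf (K ⊔ R)) (R.subgroupOf (K ⊔ R)) hcompl (by
      intro r hr hr1 k hk hcomm
      have h1 : (k : X) ∈ K ⊓ centralizer ({(r : X)} : Set X) :=
        ⟨hk, mem_centralizer_singleton_iff.mpr (congrArg Subtype.val hcomm).symm⟩
      rw [hfpf r hr fun h => hr1 (Subtype.ext h)] at h1
      exact Subtype.ext (mem_bot.mp h1))
  have htop : (⊤ : Subgroup ↥(K ⊔ R)) = (K ⊔ R).subgroupOf (K ⊔ R) := (subgroupOf_self _).symm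
  rw [card_fixedBy_conj hG le_sup_left, card_fixedBy_conj hG le_sup_right, htop,
    card_fixedBy_conj hG le_rfl, hC, card_bot, one_pow, one_mul] at h
  have h2 : V ⊓ centralizer ((K ⊔ R : Subgroup X) : Set X) = ⊥ :=
    le_bot_iff.mp ((inf_le_inf_left _ (centralizer_le (le_sup_left : K ≤ K ⊔ R))).trans hC.le)
  rw [h2, card_bot, one_pow, mul_one] at h
  have hcard : Nat.card ↥(K ⊔ R) = Nat.card R * Nat.card K := by
    rw [← hcompl.card_mul, Nat.card_congr (subgroupOfEquivOfLe le_sup_left).toEquiv,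
      Nat.card_congr (subgroupOfEquivOfLe le_sup_right).toEquiv, mul_comm]
  rw [hcard, pow_mul] at h
  rw [Nat.card_congr (subgroupOfEquivOfLe (le_sup_left : K ≤ K ⊔ R)).toEquiv] at h
  exact Nat.pow_left_injective Nat.card_pos.ne' h

theorem centralizer_ne_bot_of_frobenius {ℓ : ℕ} [Fact ℓ.Prime] (K R V : Subgroup X)
    (hV : Cfsg.IsElementaryAbelian ℓ V) (hcop : (Nat.card ↥(K ⊔ R)).Coprime ℓ)
    (hRK : R ≤ normalizer (K : Set X)) (hKR : K ⊓ R = ⊥)
    (hfpf : ∀ r ∈ R, r ≠ 1 → K ⊓ centralizer ({r} : Set X) = ⊥)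
    (hKV : K ≤ normalizer (V : Set X)) (hRV : R ≤ normalizer (V : Set X))
    (hC : V ⊓ centralizer (K : Set X) = ⊥) (hV1 : V ≠ ⊥) :
    V ⊓ centralizer (R : Set X) ≠ ⊥ := by
  intro h
  have := card_eq_pow_of_frobenius K R V hV hcop hRK hKR hfpf hKV hRV hC
  rw [h, card_bot, one_pow] at this
  exact hV1 (V.eq_bot_of_card_eq this)

/-- A Frobenius group whose complement fixes a subgroup of prime order has abelian kernel action. -/
theorem commutator_le_centralizer_of_card_prime {ℓ : ℕ} [hℓ : Fact ℓ.Prime] (K R V : Subgroup X)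
    (hV : Cfsg.IsElementaryAbelian ℓ V) (hcop : (Nat.card ↥(K ⊔ R)).Coprime ℓ)
    (hRK : R ≤ normalizer (K : Set X)) (hKR : K ⊓ R = ⊥)
    (hfpf : ∀ r ∈ R, r ≠ 1 → K ⊓ centralizer ({r} : Set X) = ⊥)
    (hKn : Group.IsNilpotent K)
    (hKV : K ≤ normalizer (V : Set X)) (hRV : R ≤ normalizer (V : Set X))
    (hCR : Nat.card ↥(V ⊓ centralizer (R : Set X)) = ℓ) :
    ⁅K, K⁆ ≤ centralizer (V : Set X) := by
  have hVc := hV.1
  have hVp : IsPGroup ℓ V := fun v => ⟨1, Subtype.ext (by simpa using hV.2 v v.2)⟩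
  obtain ⟨e, he⟩ := IsPGroup.iff_card.mp hVp
  have hcopK : (Nat.card K).Coprime (Nat.card V) :=
    he ▸ (hcop.coprime_dvd_left (card_dvd_of_le le_sup_left)).pow_right e
  set W := ⁅V, K⁆ with hW
  have hWV : W ≤ V := commutator_le_of_normalizes hKV
  have hRW : R ≤ normalizer (W : Set X) := normalizes_commutator hRV hRK
  have hKW : K ≤ normalizer (W : Set X) := normalizes_commutator hKV le_normalizer
  have hWe : Cfsg.IsElementaryAbelian ℓ W :=
    ⟨isMulCommutative_mono hWV, fun w hw => hV.2 w (hWV hw)⟩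
  have hWC : W ⊓ centralizer (K : Set X) = ⊥ := Coprime.commutator_inf_centralizer_eq_bot K V hKV hcopK
  -- the statement for `W` suffices
  suffices hmain : ⁅K, K⁆ ≤ centralizer (W : Set X) by
    intro g hg
    refine mem_centralizer_iff.mpr fun v hv => ?_
    obtain ⟨x, hx, c, hc, rfl⟩ := Coprime.exists_commutator_mul_centralizer K V hKV hcopK
      (Or.inr (Coprime.isSolvable_of_isNilpotent' hVp.isNilpotent)) v hv
    have h1 : x * g = g * x := mem_centralizer_iff.mp (hmain hg) x hx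
    have h2 : g * c = c * g := mem_centralizer_iff.mp hc.2 g (commutator_le_self K hg)
    rw [mul_assoc, ← h2, ← mul_assoc, h1, mul_assoc]
  by_cases hW1 : W = ⊥
  · rw [hW1]
    intro g _
    exact mem_centralizer_iff.mpr (by simp)
  have hCle : Nat.card ↥(W ⊓ centralizer (R : Set X)) = ℓ := by
    refine le_antisymm (hCR ▸ card_le_of_le (inf_le_inf_right _ hWV)) ?_
    have hne := centralizer_ne_bot_of_frobenius K R W hWe hcop hRK hKR hfpf hKW hRW hWC hW1
    exact Nat.le_of_dvd Nat.card_pos (by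
      have h := (hVp.to_le (inf_le_left.trans hWV : W ⊓ centralizer (R : Set X) ≤ V)).card_eq_or_dvd
      exact h.resolve_left fun h1 => hne ((W ⊓ centralizer (R : Set X)).eq_bot_of_card_eq h1))
  have hWcard : Nat.card W = ℓ ^ Nat.card R := by
    rw [card_eq_pow_of_frobenius K R W hWe hcop hRK hKR hfpf hKW hRW hWC, hCle]
  -- an invariant subgroup of `W` on which some invariant subgroup of `K` is fixed-point free is `W`
  have hbig : ∀ Z U : Subgroup X, Z ≤ K → R ≤ normalizer (Z : Set X) → U ≤ W →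
      Z ≤ normalizer (U : Set X) → R ≤ normalizer (U : Set X) → U ⊓ centralizer (Z : Set X) = ⊥ →
      U ≠ ⊥ → U = W := by
    intro Z U hZK hRZ hUW hZU hRU hCZ hU1
    have hcop' : (Nat.card ↥(Z ⊔ R)).Coprime ℓ :=
      hcop.coprime_dvd_left (card_dvd_of_le (sup_le_sup_right hZK R))
    have hKR' : Z ⊓ R = ⊥ := le_bot_iff.mp ((inf_le_inf_right R hZK).trans hKR.le)
    have hfpf' : ∀ r ∈ R, r ≠ 1 → Z ⊓ centralizer ({r} : Set X) = ⊥ := fun r hr hr1 =>
      le_bot_iff.mp ((inf_le_inf_right _ hZK).trans (hfpf r hr hr1).le)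
    have hUe : Cfsg.IsElementaryAbelian ℓ U :=
      ⟨isMulCommutative_mono (hUW.trans hWV), fun u hu => hV.2 u (hWV (hUW hu))⟩
    have hne := centralizer_ne_bot_of_frobenius Z R U hUe hcop' hRZ hKR' hfpf' hZU hRU hCZ hU1
    have hle : U ⊓ centralizer (R : Set X) ≤ W ⊓ centralizer (R : Set X) := inf_le_inf_right _ hUW
    have heq : U ⊓ centralizer (R : Set X) = W ⊓ centralizer (R : Set X) := by
      refine eq_of_le_of_card_ge hle ?_
      rw [hCle]
      exact Nat.le_of_dvd Nat.card_pos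
        (((hVp.to_le ((inf_le_left.trans hUW).trans hWV : U ⊓ centralizer (R : Set X) ≤ V))).card_eq_or_dvd.resolve_left
          fun h1 => hne ((U ⊓ centralizer (R : Set X)).eq_bot_of_card_eq h1))
    refine eq_of_le_of_card_ge hUW ?_
    rw [hWcard, card_eq_pow_of_frobenius Z R U hUe hcop' hRZ hKR' hfpf' hZU hRU hCZ, heq, hCle]
  -- the centre of `K` modulo the kernel of the action on `W`
  set K₀ := K ⊓ centralizer (W : Set X) with hK₀
  have hK₀K : K₀ ≤ K := inf_le_left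
  have hnK₀ : ∀ Y : Subgroup X, Y ≤ normalizer (K : Set X) → Y ≤ normalizer (W : Set X) →
      Y ≤ normalizer (K₀ : Set X) := fun Y h1 h2 =>
    (le_inf h1 (Coprime.le_normalizer_centralizer h2)).trans inf_normalizer_le_normalizer_inf
  have : (K₀.subgroupOf K).Normal := normal_subgroupOf_of_le_normalizer (hnK₀ K le_normalizer hKW)
  set N := K₀.subgroupOf K with hN
  set Zc := (center (K ⧸ N)).comap (QuotientGroup.mk' N) with hZc
  have hZmem : ∀ z : K, z ∈ Zc ↔ ∀ k : K, ⁅(k : X), (z : X)⁆ ∈ K₀ := by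
    intro z
    rw [hZc, mem_comap, mem_center_iff]
    constructor
    · intro h k
      have h1 := h (QuotientGroup.mk' N k)
      rw [← commutatorElement_eq_one_iff_mul_comm, ← map_commutatorElement] at h1
      exact (QuotientGroup.eq_one_iff (⁅k, z⁆ : K)).mp h1
    · intro h q
      obtain ⟨k, rfl⟩ := QuotientGroup.mk'_surjective N q
      rw [← commutatorElement_eq_one_iff_mul_comm, ← map_commutatorElement]
      exact (QuotientGroup.eq_one_iff _).mpr (h k)
  set Z := Zc.map K.subtype with hZdef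
  have hZK : Z ≤ K := map_subtype_le _
  have hZn : ∀ Y : Subgroup X, Y ≤ normalizer (K : Set X) → Y ≤ normalizer (W : Set X) →
      Y ≤ normalizer (Z : Set X) := by
    intro Y h1 h2
    refine le_normalizer_iff.mpr ?_
    rintro y hy _ ⟨z, hz, rfl⟩
    have hy1 := mem_normalizer_iff.mp (h1 hy)
    refine ⟨⟨y * z * y⁻¹, (hy1 z).mp z.2⟩, ?_, rfl⟩
    rw [SetLike.mem_coe, hZmem]
    intro k
    have hk' : y⁻¹ * k * y ∈ K := (hy1 _).mpr (by simp [mul_assoc])
    have h3 := (mem_normalizer_iff.mp (hnK₀ Y h1 h2 hy) _).mp ((hZmem z).mp hz ⟨_, hk'⟩)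
    have e : y * ⁅y⁻¹ * (k : X) * y, (z : X)⁆ * y⁻¹ = ⁅(k : X), y * z * y⁻¹⁆ := by
      rw [commutatorElement_def, commutatorElement_def]; group
    rw [← e]
    exact h3
  -- some element of `Z` acts nontrivially on `W`
  obtain ⟨z₁, hz₁, hz₁W⟩ : ∃ z, z ∈ Z ∧ z ∉ centralizer (W : Set X) := by
    have hKnil := hKn
    have : Nontrivial (K ⧸ N) := by
      rw [QuotientGroup.nontrivial_iff]
      intro htop
      refine hW1 ?_
      rw [hN, subgroupOf_eq_top] at htop
      have hKc : K ≤ centralizer (W : Set X) := fun k hk => (htop hk).2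
      rw [← hWC]
      exact (inf_eq_left.mpr (le_centralizer_symm hKc)).symm
    obtain ⟨c, hc, hc1⟩ : ∃ c ∈ center (K ⧸ N), c ≠ 1 := by
      have h := Fitting.inf_center_ne_bot (N := (⊤ : Subgroup (K ⧸ N))) top_ne_bot
      rw [top_inf_eq, Ne, eq_bot_iff_forall] at h
      push Not at h
      exact h
    obtain ⟨z, rfl⟩ := QuotientGroup.mk'_surjective N c
    refine ⟨z, ⟨z, hc, rfl⟩, fun h => hc1 ?_⟩
    exact (QuotientGroup.eq_one_iff z).mpr ⟨z.2, h⟩
  -- `C_W(Z) = 1`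
  have hCWZ : W ⊓ centralizer (Z : Set X) = ⊥ := by
    by_contra hne
    have hYn : ∀ Y : Subgroup X, Y ≤ normalizer (K : Set X) → Y ≤ normalizer (W : Set X) →
        Y ≤ normalizer ((W ⊓ centralizer (Z : Set X) : Subgroup X) : Set X) := fun Y h1 h2 =>
      (le_inf h2 (Coprime.le_normalizer_centralizer (hZn Y h1 h2))).trans inf_normalizer_le_normalizer_inf
    have h := hbig K _ le_rfl hRK inf_le_left (hYn K le_normalizer hKW) (hYn R hRK hRW)
      (le_bot_iff.mp ((inf_le_inf_right _ inf_le_left).trans hWC.le)) hne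
    exact hz₁W (le_centralizer_symm (inf_eq_left.mp h) hz₁)
  -- a generator
  obtain ⟨w₀, hw₀, hw₀1⟩ : ∃ w ∈ W ⊓ centralizer (R : Set X), w ≠ 1 := by
    have : W ⊓ centralizer (R : Set X) ≠ ⊥ := fun h => by
      rw [h, card_bot] at hCle; exact hℓ.out.ne_one hCle.symm
    exact ((eq_bot_iff_forall _).not.mp this) |> fun h => by push Not at h; exact h
  set W₀ := closure {y : X | ∃ z ∈ Z, y = z * w₀ * z⁻¹} with hW₀
  have hW₀W : W₀ ≤ W := (closure_le _).mpr (by
    rintro _ ⟨z, hz, rfl⟩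
    exact (mem_normalizer_iff.mp (hKW (hZK hz)) w₀).mp hw₀.1)
  have hZW₀ : Z ≤ normalizer (W₀ : Set X) := le_normalizer_closure_iff.mpr (by
    rintro z hz _ ⟨z', hz', rfl⟩
    exact subset_closure ⟨z * z', mul_mem hz hz', by group⟩)
  have hRW₀ : R ≤ normalizer (W₀ : Set X) := le_normalizer_closure_iff.mpr (by
    rintro r hr _ ⟨z', hz', rfl⟩
    refine subset_closure ⟨r * z' * r⁻¹, (mem_normalizer_iff.mp (hZn R hRK hRW hr) z').mp hz', ?_⟩
    have h1 : r * w₀ = w₀ * r := mem_centralizer_iff.mp hw₀.2 r hr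
    calc r * (z' * w₀ * z'⁻¹) * r⁻¹ = r * z' * w₀ * (r⁻¹ * r) * z'⁻¹ * r⁻¹ := by group
      _ = r * z' * r⁻¹ * (r * w₀ * r⁻¹) * (r * z' * r⁻¹)⁻¹ := by group
      _ = _ := by rw [h1, mul_inv_cancel_right])
  have hW₀eq : W₀ = W := by
    refine hbig Z W₀ hZK (hZn R hRK hRW) hW₀W hZW₀ hRW₀
      (le_bot_iff.mp ((inf_le_inf_right _ hW₀W).trans hCWZ.le)) fun h => hw₀1 ?_
    exact mem_bot.mp (h ▸ subset_closure ⟨1, one_mem _, by group⟩)
  let σ : K →* MulAut W := (normalizerMonoidHom W).comp (inclusion hKW)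
  have hσ : ∀ (k : K) (w : W), ((σ k w : W) : X) = k * w * (k : X)⁻¹ := fun k w => by simp [σ]
  have hZc : ∀ k z : K, (z : X) ∈ Z → ∀ w : W, σ k (σ z w) = σ z (σ k w) := by
    intro k z hz w
    obtain ⟨z', hz', hzz⟩ := hz
    have : z' = z := Subtype.ext hzz
    subst this
    have h1 := (hZmem z').mp hz' k
    have h2 : ∀ u ∈ W, u * ⁅(k : X), (z' : X)⁆ = ⁅(k : X), (z' : X)⁆ * u := mem_centralizer_iff.mp h1.2
    apply Subtype.ext
    rw [hσ, hσ, hσ, hσ]
    have hu : (z' : X) * (k * w * (k : X)⁻¹) * (z' : X)⁻¹ ∈ W :=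
      (mem_normalizer_iff.mp (hKW z'.2) _).mp ((mem_normalizer_iff.mp (hKW k.2) _).mp w.2)
    calc (k : X) * ((z' : X) * w * (z' : X)⁻¹) * (k : X)⁻¹
        = ⁅(k : X), (z' : X)⁆ * ((z' : X) * (k * w * (k : X)⁻¹) * (z' : X)⁻¹) * ⁅(k : X), (z' : X)⁆⁻¹ := by
          rw [commutatorElement_def]; group
      _ = _ := by rw [← h2 _ hu, mul_inv_cancel_right]
  let w₁ : W := ⟨w₀, hw₀.1⟩
  -- maps commuting with all of `K` realize every element
  have hE : ∀ u : W, ∃ e : W →* W, e w₁ = u ∧ ∀ k : K, ∀ w, e (σ k w) = σ k (e w) := by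
    intro u
    have hWc : ∀ a b : W, a * b = b * a := fun a b => hWe.1.is_comm.comm a b
    letI : CommGroup W := { (inferInstance : Group W) with mul_comm := hWc }
    let E : Subgroup X :=
      { carrier := {x | ∃ e : W →* W, ((e w₁ : W) : X) = x ∧ ∀ k : K, ∀ w, e (σ k w) = σ k (e w)}
        one_mem' := ⟨1, rfl, fun k w => (map_one (σ k)).symm⟩
        mul_mem' := by
          rintro _ _ ⟨e, rfl, he⟩ ⟨f, rfl, hf⟩
          exact ⟨e * f, rfl, fun k w => by
            rw [MonoidHom.mul_apply, he, hf, ← map_mul, MonoidHom.mul_apply]⟩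
        inv_mem' := by
          rintro _ ⟨e, rfl, he⟩
          exact ⟨e⁻¹, rfl, fun k w => by rw [MonoidHom.inv_apply, he, ← map_inv, MonoidHom.inv_apply]⟩ }
    have hle : W₀ ≤ E := (closure_le _).mpr (by
      rintro _ ⟨z, hz, rfl⟩
      exact ⟨(σ ⟨z, hZK hz⟩).toMonoidHom, hσ _ _, fun k w => (hZc k ⟨z, hZK hz⟩ hz w).symm⟩)
    obtain ⟨e, he1, he2⟩ := hle (hW₀eq.ge u.2)
    exact ⟨e, Subtype.ext he1, he2⟩
  -- maps commuting with `Z` are determined on `w₁`
  have hdet : ∀ f g : W →* W, (∀ z : K, (z : X) ∈ Z → ∀ w, f (σ z w) = σ z (f w)) →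
      (∀ z : K, (z : X) ∈ Z → ∀ w, g (σ z w) = σ z (g w)) → f w₁ = g w₁ → f = g := by
    intro f g hf hg h
    have hle : W₀ ≤ (f.eqLocus g).map W.subtype := (closure_le _).mpr (by
      rintro _ ⟨z, hz, rfl⟩
      refine ⟨σ ⟨z, hZK hz⟩ w₁, ?_, hσ _ _⟩
      show f _ = g _
      rw [hf _ hz, hg _ hz, h])
    ext1 w
    obtain ⟨w', hw', he⟩ := hle (hW₀eq.ge w.2)
    rw [← W.subtype_injective he]
    exact hw'
  have hσc : ∀ k k' : K, σ k * σ k' = σ k' * σ k := by
    intro k k'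
    obtain ⟨e, he1, he2⟩ := hE (σ k w₁)
    have hke : (σ k).toMonoidHom = e :=
      hdet _ _ (fun z hz w => hZc k z hz w) (fun z _ w => he2 z w) he1.symm
    apply MulEquiv.ext
    intro w
    have h1 : ∀ u, σ k u = e u := fun u => DFunLike.congr_fun hke u
    rw [MulAut.mul_apply, MulAut.mul_apply, h1, h1, he2]
  rw [commutator_le]
  intro k hk k' hk'
  rw [mem_centralizer_iff]
  intro w hw
  have h1 : σ ⁅(⟨k, hk⟩ : K), ⟨k', hk'⟩⁆ = 1 := by
    rw [map_commutatorElement, commutatorElement_eq_one_iff_mul_comm]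
    exact hσc _ _
  have h2 := congrArg Subtype.val (DFunLike.congr_fun h1 (⟨w, hw⟩ : W))
  rw [hσ] at h2
  exact (mul_inv_eq_iff_eq_mul.mp h2).symm

end Cfsg.Agent.OddLocal43
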