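import Cfsg.Agent.OddLocal43.ExtraspecialModule
import Cfsg.Agent.Lib.PGroup.Basic
import Cfsg.Agent.Lib.PGroup.Commutator

/-!
# BG 3.4 for q-groups

An automorphism of prime order with no fixed points on an elementary abelian group commutes with
every odd `q`-group it normalizes in a coprime fashion.
-/

set_option autoImplicit false

namespace Cfsg.Agent.OddLocal43

open Subgroup
open scoped commutatorElement

universe u v

theorem autFixed_of_pow {K : Type*} [Group K] (σ : MulAut K) {r i : ℕ} (hr : r.Prime) (hσ : σ ^ r = 1)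
    (hi : i ≠ 0) (hir : i < r) {w : K} (hw : (σ ^ i) w = w) : σ w = w := by
  have hcop : Nat.Coprime i r := Nat.Coprime.symm (hr.coprime_iff_not_dvd.mpr fun h =>
    hi (Nat.eq_zero_of_dvd_of_lt h hir))
  have hgcd := Nat.gcd_eq_gcd_ab i r
  rw [hcop.gcd_eq_one] at hgcd
  have h1 : σ ∈ MulAction.stabilizer (MulAut K) w := by
    have e : σ = (σ ^ i) ^ (Nat.gcdA i r) * (σ ^ r) ^ (Nat.gcdB i r) := by
      rw [← zpow_natCast σ i, ← zpow_natCast σ r, ← zpow_mul, ← zpow_mul, ← zpow_add, ← hgcd,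
        Nat.cast_one, zpow_one]
    rw [e, hσ, one_zpow, mul_one]
    exact zpow_mem (show σ ^ i ∈ MulAction.stabilizer (MulAut K) w from hw) _
  exact h1

/-- A fixed-point-free compatible automorphism forces a coprime faithful group to be trivial. -/
theorem eq_one_of_fixedPointFree {ℓ r : ℕ} [hℓ : Fact ℓ.Prime] (hr : r.Prime)
    {V : Type*} [Group V] [Finite V] (hc : ∀ a b : V, a * b = b * a) (he : ∀ v : V, v ^ ℓ = 1)
    {K : Type*} [Group K] [Finite K] (hKℓ : (Nat.card K).Coprime ℓ) (φ : K →* MulAut V)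
    (σ : MulAut K) (τ : MulAut V) (hσr : σ ^ r = 1) (hτr : τ ^ r = 1)
    (hτfix : ∀ v, τ v = v → v = 1) (hτσ : ∀ u, τ * φ u = φ (σ u) * τ)
    (hσfix : ∀ u, σ u = u → u = 1) (u : K) : φ u = 1 := by
  classical
  rcases subsingleton_or_nontrivial V with hV | hV
  · exact MulEquiv.ext fun v => Subsingleton.elim _ _
  cases nonempty_fintype K
  obtain ⟨d, e, -, heinj, hesum⟩ := exists_linearization (ℓ := ℓ) V hc he
  apply heinj
  rw [map_one]
  set L := AlgebraicClosure (ZMod ℓ)
  haveI : CharP L ℓ := charP_of_injective_algebraMap (algebraMap (ZMod ℓ) L).injective ℓ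
  set R : K →* Module.End L (Fin d → L) := e.comp φ with hR
  set T := e τ with hT
  have hTR : ∀ (i : ℕ) (w : K), T ^ i * R w = R ((σ ^ i) w) * T ^ i := by
    intro i
    induction i with
    | zero => simp
    | succ i ih =>
      intro w
      rw [pow_succ, mul_assoc, show T * R w = R (σ w) * T by
        simp only [hR, hT, MonoidHom.comp_apply, ← map_mul]; rw [hτσ], ← mul_assoc, ih, mul_assoc]
      rfl
  set S := ∑ w : K, R w with hS
  have hsum : ∑ i ∈ Finset.range r, T ^ i = 0 := hesum τ r hτr hτfix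
  have hterm : ∀ i ∈ (Finset.range r).erase 0, ∑ w : K, R w * T ^ i * R w⁻¹ = S * T ^ i := by
    intro i hi
    rw [Finset.mem_erase, Finset.mem_range] at hi
    have h1 : ∀ w : K, R w * T ^ i * R w⁻¹ = R (w * ((σ ^ i) w)⁻¹) * T ^ i := fun w => by
      rw [mul_assoc, hTR, ← mul_assoc, ← map_mul, map_inv]
    rw [Finset.sum_congr rfl fun w _ => h1 w, ← Finset.sum_mul, hS]
    congr 1
    refine Fintype.sum_bijective (fun w => w * ((σ ^ i) w)⁻¹) (Finite.injective_iff_bijective.mp ?_) _ _
      fun w => rfl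
    intro a b hab
    have h2 : b⁻¹ * a = (σ ^ i) (b⁻¹ * a) := by
      rw [map_mul, map_inv]
      have := congrArg (fun t => b⁻¹ * t * (σ ^ i) a) hab
      simpa [mul_assoc] using this
    exact (inv_mul_eq_one.mp (hσfix _ (autFixed_of_pow σ hr hσr hi.1 hi.2 h2.symm))).symm
  have h0 : ∑ i ∈ Finset.range r, ∑ w : K, R w * T ^ i * R w⁻¹ = 0 := by
    rw [Finset.sum_comm]
    exact Finset.sum_eq_zero fun w _ => by rw [← Finset.sum_mul, ← Finset.mul_sum, hsum, mul_zero, zero_mul]
  have hzero : (0 : ℕ) ∈ Finset.range r := Finset.mem_range.mpr hr.pos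
  rw [← Finset.add_sum_erase _ _ hzero, Finset.sum_congr rfl hterm, ← Finset.mul_sum] at h0
  rw [← Finset.add_sum_erase _ _ hzero, pow_zero] at hsum
  rw [eq_neg_of_add_eq_zero_right hsum] at h0
  have hh : S * -1 = -S := mul_neg_one S
  erw [hh, ← sub_eq_add_neg, sub_eq_zero] at h0
  have h3 : (Nat.card K : L) • (1 : Module.End L (Fin d → L)) = S := by
    rw [← h0, Finset.sum_congr rfl fun w _ => by rw [pow_zero, mul_one, map_mul_inv_self],
      Finset.sum_const, Finset.card_univ, Nat.card_eq_fintype_card, Nat.cast_smul_eq_nsmul]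
  have h4 : R u * S = S := by
    rw [hS, Finset.mul_sum]
    exact Fintype.sum_equiv (Equiv.mulLeft u) _ _ fun w => by simp
  rw [← h3, mul_smul_comm, mul_one] at h4
  have hne : (Nat.card K : L) ≠ 0 := fun h =>
    hℓ.out.ne_one (Nat.eq_one_of_dvd_coprimes hKℓ ((CharP.cast_eq_zero_iff L ℓ _).mp h) dvd_rfl)
  exact smul_right_injective _ hne h4

/-- An automorphism of a finite group restricted to an invariant subgroup. -/
noncomputable def restrictAut {V : Type*} [Group V] [Finite V] (W : Subgroup V) (a : MulAut V)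
    (h : ∀ x ∈ W, a x ∈ W) : MulAut W :=
  MulEquiv.ofBijective ((a.toMonoidHom.comp W.subtype).codRestrict W fun x => h x x.2)
    (Finite.injective_iff_bijective.mp fun x y hxy => Subtype.ext (a.injective (congrArg Subtype.val hxy)))

@[simp] theorem restrictAut_coe {V : Type*} [Group V] [Finite V] (W : Subgroup V) (a : MulAut V)
    (h : ∀ x ∈ W, a x ∈ W) (x : W) : ((restrictAut W a h x : W) : V) = a x := rfl

/-- Two central fixed-point-free automorphisms of order `q` generate a cyclic group. -/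
theorem mem_zpowers_of_fixedPointFree {ℓ q : ℕ} [hℓ : Fact ℓ.Prime] [hq : Fact q.Prime] (hℓq : ℓ ≠ q)
    {V : Type*} [Group V] [Finite V] [Nontrivial V] (hc : ∀ a b : V, a * b = b * a)
    (he : ∀ v : V, v ^ ℓ = 1) {K : Type*} [Group K] (φ : K →* MulAut V) {a b : K} (hab : Commute a b)
    (haq : a ^ q = 1) (hbq : b ^ q = 1)
    (hfix : ∀ c : K, c ∈ Subgroup.closure {a, b} → c ≠ 1 → ∀ v, φ c v = v → v = 1) :
    a = 1 ∨ b ∈ Subgroup.zpowers a := by
  classical
  by_contra hne
  push Not at hne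
  obtain ⟨ha1, hb⟩ := hne
  obtain ⟨d, e, hd, -, hesum⟩ := exists_linearization (ℓ := ℓ) V hc he
  set L := AlgebraicClosure (ZMod ℓ)
  haveI : CharP L ℓ := charP_of_injective_algebraMap (algebraMap (ZMod ℓ) L).injective ℓ
  haveI : Nonempty (Fin d) := ⟨⟨0, hd⟩⟩
  set R : K →* Module.End L (Fin d → L) := e.comp φ with hR
  have hsum : ∀ c : K, c ∈ Subgroup.closure {a, b} → c ^ q = 1 → c ≠ 1 →
      ∑ i ∈ Finset.range q, R c ^ i = 0 := fun c hc' hcq hc1 =>
    hesum (φ c) q (by rw [← map_pow, hcq, map_one]) (hfix c hc' hc1)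
  have hamem : a ∈ Subgroup.closure {a, b} := Subgroup.subset_closure (Set.mem_insert _ _)
  have hbmem : b ∈ Subgroup.closure {a, b} := Subgroup.subset_closure (Set.mem_insert_of_mem _ rfl)
  have hb1 : b ≠ 1 := fun h => hb (h ▸ one_mem _)
  have h1 : ∀ j ∈ Finset.range q, ∑ i ∈ Finset.range q, R (a * b ^ j) ^ i = 0 := by
    intro j hj
    refine hsum _ (mul_mem hamem (pow_mem hbmem j)) ?_ fun h => ?_
    · rw [(hab.pow_right j).mul_pow, haq, one_mul, ← pow_mul, mul_comm, pow_mul, hbq, one_pow]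
    · rcases Nat.eq_zero_or_pos j with rfl | hj0
      · exact ha1 (by simpa using h)
      · refine hb ?_
        have hcop : Nat.Coprime j (orderOf b) := by
          rw [orderOf_eq_prime hbq hb1]
          exact Nat.Coprime.symm (hq.out.coprime_iff_not_dvd.mpr fun hd =>
            hj0.ne' (Nat.eq_zero_of_dvd_of_lt hd (Finset.mem_range.mp hj)))
        obtain ⟨m, hm⟩ := exists_pow_eq_self_of_coprime hcop
        rw [← hm, show b ^ j = a⁻¹ from (eq_inv_of_mul_eq_one_right h)]
        exact pow_mem (inv_mem (Subgroup.mem_zpowers a)) m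
  have h2 : ∀ i ∈ Finset.range q, ∑ j ∈ Finset.range q, R (a * b ^ j) ^ i =
      if i = 0 then (q : L) • 1 else 0 := by
    intro i hi
    split_ifs with hi0
    · subst hi0; simp [Nat.cast_smul_eq_nsmul]
    · have h3 : ∀ j : ℕ, R (a * b ^ j) ^ i = R (a ^ i) * R (b ^ i) ^ j := fun j => by
        rw [← map_pow, ← map_pow, ← map_mul, (hab.pow_right j).mul_pow, ← pow_mul, ← pow_mul, mul_comm i]
      rw [Finset.sum_congr rfl fun j _ => h3 j, ← Finset.mul_sum,
        hsum _ (pow_mem hbmem i) (by rw [← pow_mul, mul_comm, pow_mul, hbq, one_pow]) ?_, mul_zero]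
      intro hbi
      have := orderOf_dvd_of_pow_eq_one hbi
      rw [orderOf_eq_prime hbq hb1] at this
      exact hi0 (Nat.eq_zero_of_dvd_of_lt this (Finset.mem_range.mp hi))
  have h4 := Finset.sum_eq_zero h1
  rw [Finset.sum_comm, Finset.sum_congr rfl h2, Finset.sum_ite_eq',
    if_pos (Finset.mem_range.mpr hq.out.pos)] at h4
  rcases smul_eq_zero.mp h4 with h5 | h5
  · exact hℓq ((Nat.prime_dvd_prime_iff_eq hℓ.out hq.out).mp ((CharP.cast_eq_zero_iff L ℓ q).mp h5))
  · exact one_ne_zero h5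

/-- BG 3.4 for `q`-groups, by induction on the order. -/
theorem autFixed_of_fixedPointFree_odd_aux {ℓ q r : ℕ} [hℓ : Fact ℓ.Prime] [hq : Fact q.Prime]
    (hr : r.Prime) (hℓq : ℓ ≠ q) (hℓr : ℓ ≠ r) (hqr : q ≠ r) (hq2 : q ≠ 2) (n : ℕ) :
    ∀ {V : Type u} [Group V] [Finite V], (∀ a b : V, a * b = b * a) → (∀ v : V, v ^ ℓ = 1) →
    ∀ {K : Type v} [Group K] [Finite K], IsPGroup q K → Nat.card K ≤ n →
    ∀ (φ : K →* MulAut V), Function.Injective φ → ∀ (σ : MulAut K) (τ : MulAut V),
      σ ^ r = 1 → τ ^ r = 1 → (∀ v, τ v = v → v = 1) → (∀ u, τ * φ u = φ (σ u) * τ) →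
      ∀ u, σ u = u := by
  induction n using Nat.strong_induction_on with
  | _ n ih =>
  intro V _ _ hc he K _ _ hK hn φ hφ σ τ hσr hτr hτfix hτσ
  classical
  by_contra hne
  push Not at hne
  obtain ⟨u₀, hu₀⟩ := hne
  have hKnil := hK.isNilpotent
  have hKℓ : (Nat.card K).Coprime ℓ := by
    obtain ⟨k, hk⟩ := IsPGroup.iff_card.mp hK
    rw [hk]
    exact Nat.Coprime.pow_left _ ((Nat.coprime_primes hq.out hℓ.out).mpr hℓq.symm)
  -- the fixed subgroup
  let F : Subgroup K :=
    { carrier := {u | σ u = u}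
      one_mem' := map_one σ
      mul_mem' := fun {a b} (ha : σ a = a) (hb : σ b = b) => by
        show σ (a * b) = a * b
        rw [map_mul, ha, hb]
      inv_mem' := fun {a} (ha : σ a = a) => by
        show σ a⁻¹ = a⁻¹
        rw [map_inv, ha] }
  -- proper invariant subgroups are fixed
  have hsub : ∀ M : Subgroup K, M ≠ ⊤ → (∀ x ∈ M, σ x ∈ M) → M ≤ F := by
    intro M hM hσM x hx
    have hlt : Nat.card M < n := (Subgroup.card_le_card_group M).lt_of_ne (fun h =>
      hM (Subgroup.eq_top_of_card_eq M h)) |>.trans_le hn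
    have h := ih _ hlt hc he (hK.to_subgroup M) le_rfl (φ.comp M.subtype) (hφ.comp M.subtype_injective)
      (restrictAut M σ hσM) τ ?_ hτr hτfix (fun m => hτσ m) ⟨x, hx⟩
    · exact congrArg Subtype.val h
    · have hp : ∀ (i : ℕ) (m : M), (((restrictAut M σ hσM ^ i) m : M) : K) = (σ ^ i) (m : K) := by
        intro i
        induction i with
        | zero => simp
        | succ i ih' =>
          intro m
          rw [pow_succ', pow_succ', MulAut.mul_apply, MulAut.mul_apply, restrictAut_coe, ih']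
      exact MulEquiv.ext fun m => Subtype.ext (by rw [hp, hσr]; rfl)
  have hFne : F ≠ ⊤ := fun h => hu₀ (h.ge (Subgroup.mem_top u₀))
  -- the twists generate
  have hgen : ∀ M : Subgroup K, (∀ u, σ u * u⁻¹ ∈ M) → M = ⊤ := by
    intro M hM
    by_contra hMtop
    set M₀ := Subgroup.closure (Set.range fun u => σ u * u⁻¹) with hM₀
    have hle : M₀ ≤ M := (Subgroup.closure_le _).mpr (by rintro _ ⟨u, rfl⟩; exact hM u)
    have hinv : ∀ x ∈ M₀, σ x ∈ M₀ := fun x hx => by
      have h1 : M₀.map σ.toMonoidHom ≤ M₀ := by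
        rw [hM₀, MonoidHom.map_closure, Subgroup.closure_le]
        rintro _ ⟨_, ⟨u, rfl⟩, rfl⟩
        exact Subgroup.subset_closure ⟨σ u, by simp⟩
      exact h1 ⟨x, hx, rfl⟩
    have hfix : M₀ ≤ F := hsub M₀ (fun h => hMtop (top_le_iff.mp (h ▸ hle))) hinv
    set c := σ u₀ * u₀⁻¹ with hc'
    have hσc : σ c = c := hfix (Subgroup.subset_closure ⟨u₀, rfl⟩)
    have hpow : ∀ i : ℕ, (σ ^ i) u₀ = c ^ i * u₀ := by
      intro i
      induction i with
      | zero => simp
      | succ i ih' =>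
        rw [pow_succ', MulAut.mul_apply, ih', map_mul, map_pow, hσc,
          show σ u₀ = c * u₀ by rw [hc', inv_mul_cancel_right], ← mul_assoc, ← pow_succ]
    have h1 := hpow r
    rw [hσr, MulAut.one_apply, right_eq_mul] at h1
    obtain ⟨k, hk⟩ := IsPGroup.iff_orderOf.mp hK c
    have hc1 : orderOf c = 1 := Nat.eq_one_of_dvd_coprimes
      (((Nat.coprime_primes hq.out hr).mpr hqr).pow_left k) (hk ▸ dvd_rfl) (orderOf_dvd_of_pow_eq_one h1)
    exact hu₀ (mul_inv_eq_one.mp (orderOf_eq_one_iff.mp hc1))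
  -- fixed points are central
  have hchar : ∀ M : Subgroup K, M.Characteristic → ∀ x ∈ M, σ x ∈ M := fun M hM x hx =>
    (characteristic_iff_le_comap.mp hM σ) hx
  haveI : Nontrivial K := ⟨⟨σ u₀, u₀, hu₀⟩⟩
  have hDne : commutator K ≠ ⊤ := (IsSolvable.commutator_lt_top_of_nontrivial K).ne
  have hDF : commutator K ≤ F := hsub _ hDne (hchar _ inferInstance)
  have hFnorm : ∀ x ∈ F, ∀ g : K, g * x * g⁻¹ ∈ F := fun x hx g => by
    have h1 : ⁅g, x⁆ ∈ F := hDF (Subgroup.commutator_mem_commutator (Subgroup.mem_top g) (Subgroup.mem_top x))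
    have := mul_mem h1 hx
    rwa [commutatorElement_def, inv_mul_cancel_right] at this
  have hFc : F ≤ center K := by
    intro x hx
    rw [Subgroup.mem_center_iff]
    have htop := hgen (Subgroup.centralizer {x}) fun w => by
      rw [Subgroup.mem_centralizer_singleton_iff]
      have hd := hFnorm x hx w⁻¹
      rw [inv_inv] at hd
      have h1 : (σ w)⁻¹ * x * σ w = w⁻¹ * x * w := by
        conv_rhs => rw [← show σ (w⁻¹ * x * w) = w⁻¹ * x * w from hd, map_mul, map_mul, map_inv,
          show σ x = x from hx]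
      have h2 := congrArg (fun t => σ w * t * w⁻¹) h1
      simp only [← mul_assoc, mul_inv_cancel, one_mul] at h2
      calc σ w * w⁻¹ * x = σ w * w⁻¹ * x * w * w⁻¹ := by rw [mul_inv_cancel_right]
        _ = x * σ w * w⁻¹ := h2.symm
        _ = x * (σ w * w⁻¹) := mul_assoc _ _ _
    intro g
    exact Subgroup.mem_centralizer_singleton_iff.mp (htop.ge (Subgroup.mem_top g))
  have hFne' : ∃ x, x ∈ F ∧ x ≠ 1 := by
    by_contra h
    push Not at h
    have := hφ ((eq_one_of_fixedPointFree hr hc he hKℓ φ σ τ hσr hτr hτfix hτσ h u₀).trans (map_one φ).symm)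
    exact hu₀ (by rw [this, map_one])
  have hcne : center K ≠ ⊤ := by
    intro htop
    obtain ⟨x, hx, hx1⟩ := hFne'
    have hcomm : ∀ a b : K, a * b = b * a := fun a b => (Subgroup.mem_center_iff.mp (htop.ge (Subgroup.mem_top b)) a)
    let ψ : K →* K :=
      { toFun := fun u => σ u * u⁻¹
        map_one' := by simp
        map_mul' := fun a b => by
          rw [map_mul, mul_inv_rev, hcomm b⁻¹ a⁻¹, mul_assoc, ← mul_assoc (σ b), hcomm (σ b) a⁻¹]
          simp only [mul_assoc] }
    have hsurj : Function.Surjective ψ :=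
      MonoidHom.range_eq_top.mp (hgen ψ.range fun u => ⟨u, rfl⟩)
    refine hx1 ((Finite.injective_iff_surjective.mpr hsurj) ?_)
    show σ x * x⁻¹ = ψ 1
    rw [map_one, show σ x = x from hx, mul_inv_cancel]
  have hcF : center K = F := le_antisymm (hsub _ hcne (hchar _ inferInstance)) hFc
  have hcomm : ∀ a b : K, ⁅a, b⁆ ∈ center K := fun a b =>
    hFc (hDF (Subgroup.commutator_mem_commutator (Subgroup.mem_top a) (Subgroup.mem_top b)))
  have hclass : commutator K ≤ center K := hDF.trans hFc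
  -- fixed points lie in the derived subgroup
  have hFD : F ≤ commutator K := by
    let ψ : K →* K ⧸ commutator K :=
      { toFun := fun u => (QuotientGroup.mk (σ u * u⁻¹) : K ⧸ commutator K)
        map_one' := by simp
        map_mul' := fun a b => by
          rw [← QuotientGroup.mk_mul, QuotientGroup.eq, map_mul]
          have : (σ a * σ b * (a * b)⁻¹)⁻¹ * (σ a * a⁻¹ * (σ b * b⁻¹)) =
              a * b * ((σ b)⁻¹ * ((σ a)⁻¹ * σ a) * a⁻¹ * σ b) * b⁻¹ := by group
          rw [this, inv_mul_cancel, mul_one]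
          have e : a * b * ((σ b)⁻¹ * a⁻¹ * σ b) * b⁻¹ =
              ⁅a, b * (σ b)⁻¹⁆ := by rw [commutatorElement_def]; group
          rw [e]
          exact Subgroup.commutator_mem_commutator (Subgroup.mem_top _) (Subgroup.mem_top _) }
    have hker : commutator K ≤ ψ.ker := fun x hx => by
      show (QuotientGroup.mk (σ x * x⁻¹) : K ⧸ commutator K) = 1
      rw [QuotientGroup.eq_one_iff]
      exact mul_mem (hchar _ inferInstance x hx) (inv_mem hx)
    let ψ' := QuotientGroup.lift (commutator K) ψ hker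
    have hsurj : Function.Surjective ψ' := by
      refine MonoidHom.range_eq_top.mp ?_
      refine Subgroup.comap_injective (QuotientGroup.mk'_surjective (commutator K)) ?_
      rw [Subgroup.comap_top]
      exact hgen _ fun w => ⟨QuotientGroup.mk w, rfl⟩
    intro x hx
    refine (QuotientGroup.eq_one_iff x).mp ((Finite.injective_iff_surjective.mpr hsurj) ?_)
    rw [map_one]
    show (QuotientGroup.mk (σ x * x⁻¹) : K ⧸ commutator K) = 1
    rw [show σ x = x from hx, mul_inv_cancel]; rfl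
  -- the centre has exponent `q`
  have hfrat : frattini K ≤ center K :=
    (hsub _ (fun h => by
      obtain ⟨M, hM, -⟩ := (eq_top_or_exists_le_coatom (⊥ : Subgroup K)).resolve_left bot_ne_top
      exact hM.1 (top_le_iff.mp (h ▸ frattini_le_coatom hM))) (hchar _ frattini_characteristic)).trans hFc
  have hexp : ∀ c ∈ center K, c ^ q = 1 := by
    intro c hcc
    have hcD : c ∈ commutator K := hFD (hcF.le hcc)
    rw [_root_.commutator_def] at hcD
    let E : Subgroup K :=
      { carrier := {c | c ∈ center K ∧ c ^ q = 1}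
        one_mem' := ⟨one_mem _, one_pow q⟩
        mul_mem' := fun {a b} ha hb => ⟨mul_mem ha.1 hb.1, by
          rw [(Commute.symm (Subgroup.mem_center_iff.mp ha.1 b)).mul_pow, ha.2, hb.2, one_mul]⟩
        inv_mem' := fun {a} ha => ⟨inv_mem ha.1, by rw [inv_pow, ha.2, inv_one]⟩ }
    refine ((Subgroup.commutator_le.mpr fun a _ b _ => (show ⁅a, b⁆ ∈ E from ⟨hcomm a b, ?_⟩)) hcD).2
    rw [← PGroup.comm_pow_left hclass, commutatorElement_eq_one_iff_mul_comm]
    exact (Subgroup.mem_center_iff.mp (hfrat (pow_mem_frattini hK a)) b).symm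
  -- a central element and a module on which it is fixed-point free
  obtain ⟨z, hzF, hz1⟩ := hFne'
  have hzq : z ^ q = 1 := hexp z (hFc hzF)
  letI : CommGroup V := { ‹Group V› with mul_comm := hc }
  let δ : V →* V := (φ z).toMonoidHom * (MonoidHom.id V)⁻¹
  have hφcomm : ∀ c ∈ center K, ∀ u, φ c * φ u = φ u * φ c := fun c hcc u => by
    rw [← map_mul, ← map_mul, Subgroup.mem_center_iff.mp hcc u]
  have hτc : ∀ c ∈ F, φ c * τ = τ * φ c := fun c hcf => by rw [hτσ, show σ c = c from hcf]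
  let Inv : Subgroup V → Prop := fun U => (∀ u, ∀ x ∈ U, φ u x ∈ U) ∧ ∀ x ∈ U, τ x ∈ U
  have hUinv : Inv δ.range := by
    constructor
    · rintro u _ ⟨v, rfl⟩
      refine ⟨φ u v, ?_⟩
      show φ z (φ u v) * (φ u v)⁻¹ = φ u (φ z v * v⁻¹)
      rw [map_mul, map_inv, ← MulAut.mul_apply, hφcomm z (hFc hzF), MulAut.mul_apply]
    · rintro _ ⟨v, rfl⟩
      refine ⟨τ v, ?_⟩
      show φ z (τ v) * (τ v)⁻¹ = τ (φ z v * v⁻¹)
      rw [map_mul, map_inv, ← MulAut.mul_apply, hτc z hzF, MulAut.mul_apply]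
  have hUne : δ.range ≠ ⊥ := by
    intro h
    refine hz1 (hφ ?_)
    rw [map_one]
    refine MulEquiv.ext fun v => mul_inv_eq_one.mp ?_
    exact Subgroup.mem_bot.mp (h ▸ (show δ v ∈ δ.range from ⟨v, rfl⟩))
  have hUfix : ∀ x ∈ δ.range, φ z x = x → x = 1 := by
    rintro _ ⟨v, rfl⟩ hx
    set w := δ v with hw
    have hp : ∀ i : ℕ, (φ z ^ i) v = w ^ i * v := by
      intro i
      induction i with
      | zero => simp
      | succ i ih' =>
        rw [pow_succ', MulAut.mul_apply, ih', map_mul, map_pow, hx,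
          show φ z v = w * v from (inv_mul_cancel_right (φ z v) v).symm, pow_succ, mul_assoc]
    have h1 := hp q
    rw [← map_pow, hzq, map_one, MulAut.one_apply, right_eq_mul] at h1
    exact orderOf_eq_one_iff.mp (Nat.eq_one_of_dvd_coprimes ((Nat.coprime_primes hq.out hℓ.out).mpr hℓq.symm)
      (orderOf_dvd_of_pow_eq_one h1) (orderOf_dvd_of_pow_eq_one (he w)))
  obtain ⟨W, hWU, ⟨hW1, hWinv⟩, hWmin⟩ : ∃ W, W ≤ δ.range ∧ (W ≠ ⊥ ∧ Inv W) ∧
      ∀ U : Subgroup V, U ≠ ⊥ → Inv U → U ≤ W → W ≤ U := by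
    obtain ⟨W, hle, hW⟩ := exists_minimal_le_of_wellFoundedLT (fun U : Subgroup V => U ≠ ⊥ ∧ Inv U)
      δ.range ⟨hUne, hUinv⟩
    exact ⟨W, hle, hW.1, fun U h1 h2 h3 => hW.2 ⟨h1, h2⟩ h3⟩
  let φ' : K →* MulAut W :=
    { toFun := fun u => restrictAut W (φ u) (hWinv.1 u)
      map_one' := MulEquiv.ext fun x => Subtype.ext (by simp)
      map_mul' := fun a b => MulEquiv.ext fun x => Subtype.ext (by simp) }
  let τ' : MulAut W := restrictAut W τ hWinv.2
  have hcW : ∀ a b : W, a * b = b * a := fun a b => Subtype.ext (hc a b)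
  have heW : ∀ x : W, x ^ ℓ = 1 := fun x => Subtype.ext (he x)
  have hτ'r : τ' ^ r = 1 := by
    have hp : ∀ (i : ℕ) (m : W), (((τ' ^ i) m : W) : V) = (τ ^ i) (m : V) := by
      intro i
      induction i with
      | zero => simp
      | succ i ih' =>
        intro m
        rw [pow_succ', pow_succ', MulAut.mul_apply, MulAut.mul_apply, restrictAut_coe, ih']
    exact MulEquiv.ext fun m => Subtype.ext (by rw [hp, hτr]; rfl)
  have hτ'fix : ∀ x : W, τ' x = x → x = 1 := fun x hx => Subtype.ext (hτfix x (congrArg Subtype.val hx))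
  have hτ'σ : ∀ u, τ' * φ' u = φ' (σ u) * τ' := fun u =>
    MulEquiv.ext fun x => Subtype.ext (DFunLike.congr_fun (hτσ u) (x : V))
  have hφ'z : φ' z ≠ 1 := by
    intro h
    apply hW1
    rw [Subgroup.eq_bot_iff_forall]
    intro x hx
    exact hUfix x (hWU hx) (congrArg Subtype.val (DFunLike.congr_fun h (⟨x, hx⟩ : W)) :)
  -- faithfulness on `W`
  have hinj : Function.Injective φ' := by
    rw [← MonoidHom.ker_eq_bot_iff]
    by_contra hker
    set N := φ'.ker with hN
    have hNinv : ∀ x, σ x ∈ N ↔ x ∈ N := by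
      intro x
      rw [hN, MonoidHom.mem_ker, MonoidHom.mem_ker]
      constructor
      · intro h
        have h2 := hτ'σ x
        rw [h, one_mul] at h2
        exact mul_left_cancel (h2.trans (mul_one τ').symm)
      · intro h
        have h2 := hτ'σ x
        rw [h, mul_one] at h2
        exact right_eq_mul.mp h2
    let σb : MulAut (K ⧸ N) := QuotientGroup.congr N N σ (by
      ext x
      constructor
      · rintro ⟨y, hy, rfl⟩; exact (hNinv y).mpr hy
      · intro hx
        exact ⟨σ.symm x, (hNinv _).mp (by rwa [MulEquiv.apply_symm_apply]), σ.apply_symm_apply x⟩)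
    have hlt : Nat.card (K ⧸ N) < n := by
      refine lt_of_lt_of_le ?_ hn
      rw [← Subgroup.index_eq_card, ← N.card_mul_index]
      exact lt_mul_of_one_lt_left (Nat.pos_of_ne_zero Subgroup.index_ne_zero_of_finite)
        (N.one_lt_card_iff_ne_bot.mpr hker)
    have hσb : ∀ (i : ℕ) (x : K), (σb ^ i) (QuotientGroup.mk x) = QuotientGroup.mk ((σ ^ i) x) := by
      intro i
      induction i with
      | zero => simp
      | succ i ih' =>
        intro x
        rw [pow_succ', pow_succ', MulAut.mul_apply, MulAut.mul_apply, ih']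
        rfl
    have hσbr : σb ^ r = 1 := MulEquiv.ext fun a => by
      induction a using QuotientGroup.induction_on with
      | H x => rw [hσb, hσr]; rfl
    have h := ih _ hlt hcW heW (hK.to_quotient N) le_rfl (QuotientGroup.kerLift φ')
      (QuotientGroup.kerLift_injective φ') σb τ' hσbr hτ'r hτ'fix (fun a => by
        induction a using QuotientGroup.induction_on with
        | H x => exact hτ'σ x)
    refine hφ'z (MonoidHom.mem_ker.mp ((hgen N fun x => ?_).ge (Subgroup.mem_top z)))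
    have h1 : (QuotientGroup.mk (σ x) : K ⧸ N) = QuotientGroup.mk x := h (QuotientGroup.mk x)
    rw [← QuotientGroup.eq_one_iff, QuotientGroup.mk_mul, QuotientGroup.mk_inv, h1, mul_inv_cancel]
  haveI : Nontrivial W := (Subgroup.nontrivial_iff_ne_bot W).mpr hW1
  -- non-trivial central elements are fixed-point free on `W`
  have hfpf : ∀ c ∈ center K, c ≠ 1 → ∀ x : W, φ' c x = x → x = 1 := by
    intro c hcc hc1 x hx
    let U : Subgroup V :=
      { carrier := {y | y ∈ W ∧ φ c y = y}
        one_mem' := ⟨one_mem _, map_one (φ c)⟩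
        mul_mem' := fun {a b} ha hb => ⟨mul_mem ha.1 hb.1, by rw [map_mul, ha.2, hb.2]⟩
        inv_mem' := fun {a} ha => ⟨inv_mem ha.1, by rw [map_inv, ha.2]⟩ }
    by_contra hx1
    have hU1 : U ≠ ⊥ := fun h => hx1 (Subtype.ext (Subgroup.mem_bot.mp
      (h ▸ (show (x : V) ∈ U from ⟨x.2, congrArg Subtype.val hx⟩))))
    have hUinv' : Inv U := by
      constructor
      · intro u y hy
        refine ⟨hWinv.1 u y hy.1, ?_⟩
        rw [← MulAut.mul_apply, hφcomm c hcc, MulAut.mul_apply, hy.2]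
      · intro y hy
        refine ⟨hWinv.2 y hy.1, ?_⟩
        rw [← MulAut.mul_apply, hτc c (hcF.le hcc), MulAut.mul_apply, hy.2]
    have hWle := hWmin U hU1 hUinv' fun y hy => hy.1
    refine hc1 (hinj ?_)
    rw [map_one]
    exact MulEquiv.ext fun y => Subtype.ext (hWle y.2).2
  have hcard : Nat.card (center K) = q := by
    have hle : center K = Subgroup.zpowers z := by
      refine le_antisymm (fun b hb => ?_) (Subgroup.zpowers_le.mpr (hFc hzF))
      refine (mem_zpowers_of_fixedPointFree hℓq hcW heW φ'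
        (Subgroup.mem_center_iff.mp hb z) hzq (hexp b hb) fun c hc' hc1 => ?_).resolve_left hz1
      refine hfpf c ((Subgroup.closure_le _).mpr ?_ hc') hc1
      rintro y (rfl | rfl)
      · exact hFc hzF
      · exact hb
    rw [hle, Nat.card_zpowers, orderOf_eq_prime hzq hz1]
  obtain ⟨h2, -⟩ := fermat_prime_of_action hr hℓq hℓr hqr hcW heW hK hcomm hcard hcne φ'
    (fun u _ hu => hinj (hu.trans (map_one φ').symm)) σ τ' hσr (fun u => by rw [hcF]; rfl) hτ'r hτ'fix hτ'σ
  exact hq2 h2

/-- BG 3.4 for `q`-groups: `τ` commutes with the image of `K`. -/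
theorem autCommute_of_fixedPointFree_odd {ℓ q r : ℕ} [hℓ : Fact ℓ.Prime] [hq : Fact q.Prime]
    (hr : r.Prime) (hℓq : ℓ ≠ q) (hℓr : ℓ ≠ r) (hqr : q ≠ r) (hq2 : q ≠ 2)
    {V : Type u} [Group V] [Finite V] (hc : ∀ a b : V, a * b = b * a) (he : ∀ v : V, v ^ ℓ = 1)
    {K : Type v} [Group K] [Finite K] (hK : IsPGroup q K) (φ : K →* MulAut V) (τ : MulAut V)
    (hτr : τ ^ r = 1) (hτfix : ∀ v, τ v = v → v = 1) (hinv : ∀ u, τ * φ u * τ⁻¹ ∈ φ.range) (u : K) :
    τ * φ u = φ u * τ := by
  set H := φ.range with hH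
  have hinvH : ∀ x ∈ H, MulAut.conj τ x ∈ H := by
    rintro _ ⟨w, rfl⟩
    rw [MulAut.conj_apply]
    exact hinv w
  set σ : MulAut H := restrictAut H (MulAut.conj τ) hinvH with hσ
  have hp : ∀ (i : ℕ) (m : H), (((σ ^ i) m : H) : MulAut V) = (MulAut.conj τ ^ i) (m : MulAut V) := by
    intro i
    induction i with
    | zero => simp
    | succ i ih' =>
      intro m
      rw [pow_succ', pow_succ', MulAut.mul_apply, MulAut.mul_apply, hσ, restrictAut_coe, ← hσ, ih']
  have hσr : σ ^ r = 1 := MulEquiv.ext fun m => Subtype.ext (by rw [hp, ← map_pow, hτr, map_one]; rfl)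
  have h := autFixed_of_fixedPointFree_odd_aux hr hℓq hℓr hqr hq2 _ hc he
    (hK.of_surjective φ.rangeRestrict φ.rangeRestrict_surjective) le_rfl H.subtype H.subtype_injective
    σ τ hσr hτr hτfix (fun w => by
      show τ * (w : MulAut V) = τ * (w : MulAut V) * τ⁻¹ * τ
      rw [inv_mul_cancel_right]) ⟨φ u, u, rfl⟩
  have h' : τ * φ u * τ⁻¹ = φ u := congrArg Subtype.val h
  exact mul_inv_eq_iff_eq_mul.mp h'

end Cfsg.Agent.OddLocal43
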