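import Cfsg.Agent.OddLocal43.Metacyclic
import Cfsg.Agent.Lib.Coprime.Abelian
import Cfsg.Agent.Lib.Coprime.Action
import Cfsg.Agent.Lib.PGroup.NormalRankTwo

/-!
# Coprime action on metacyclic subgroups, `p` odd
-/

set_option autoImplicit false

namespace Cfsg.Agent.OddLocal43

open Subgroup
open scoped commutatorElement

variable {G : Type*} [Group G] [Finite G] {p : ℕ} [hp : Fact p.Prime]

omit [Finite G] in
theorem isMetacyclic_of_le {H R : Subgroup G} (hHR : H ≤ R) (h : Cfsg.IsMetacyclic R) :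
    Cfsg.IsMetacyclic H := by
  obtain ⟨N, hN, hNc, hQc⟩ := h
  have := hNc
  have := hQc
  let f : H →* R := inclusion hHR
  refine ⟨N.comap f, hN.comap f, ?_, ?_⟩
  · refine isCyclic_of_injective ((f.comp (N.comap f).subtype).codRestrict N fun x => x.2) ?_
    intro a b hab
    exact Subtype.ext (inclusion_injective hHR (congrArg (fun z : N => (z : R)) hab))
  · refine isCyclic_of_injective (QuotientGroup.map (N.comap f) N f le_rfl) ?_
    rw [← MonoidHom.ker_eq_bot_iff, eq_bot_iff]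
    intro q hq
    obtain ⟨h', rfl⟩ := QuotientGroup.mk'_surjective _ q
    rw [MonoidHom.mem_ker, QuotientGroup.mk'_apply, QuotientGroup.map_mk, QuotientGroup.eq_one_iff] at hq
    exact mem_bot.mpr ((QuotientGroup.eq_one_iff h').mpr hq)

/-- In a metacyclic group, two generators, the first of which generates a subgroup above the derived group. -/
theorem exists_generators_of_isMetacyclic {R : Type*} [Group R] (h : Cfsg.IsMetacyclic R) :
    ∃ x y : R, closure {x, y} = ⊤ ∧ commutator R ≤ zpowers x := by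
  obtain ⟨N, hN, hNc, hQc⟩ := h
  obtain ⟨⟨x, hxN⟩, hx⟩ := hNc.exists_generator
  obtain ⟨q, hq⟩ := hQc.exists_generator
  obtain ⟨y, rfl⟩ := QuotientGroup.mk'_surjective N q
  have hNx : N ≤ zpowers x := fun c hc => by
    obtain ⟨i, hi⟩ := mem_zpowers_iff.mp (hx ⟨c, hc⟩)
    exact mem_zpowers_iff.mpr ⟨i, (by simpa using congrArg Subtype.val hi)⟩
  refine ⟨x, y, eq_top_iff.mpr fun g _ => ?_, le_trans ?_ hNx⟩
  · obtain ⟨k, hk⟩ := mem_zpowers_iff.mp (hq (QuotientGroup.mk' N g))
    have h1 : g * (y ^ k)⁻¹ ∈ N := by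
      rw [← QuotientGroup.eq_one_iff]
      show QuotientGroup.mk' N (g * (y ^ k)⁻¹) = 1
      rw [map_mul, map_inv, map_zpow, hk, mul_inv_cancel]
    have h2 : g = g * (y ^ k)⁻¹ * y ^ k := (inv_mul_cancel_right g (y ^ k)).symm
    rw [h2]
    exact mul_mem (zpowers_le.mpr (subset_closure (by simp)) (hNx h1))
      (zpow_mem (subset_closure (by simp)) k)
  · exact Subgroup.Normal.quotient_commutative_iff_commutator_le.mp ⟨⟨fun a b => by
      obtain ⟨i, rfl⟩ := mem_zpowers_iff.mp (hq a)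
      obtain ⟨j, rfl⟩ := mem_zpowers_iff.mp (hq b)
      rw [← zpow_add, ← zpow_add, add_comm]⟩⟩

/-- The commutator of a metacyclic odd `p`-group with a coprime operator group is abelian. -/
theorem isMulCommutative_commutator_of_metacyclic (hp2 : p ≠ 2) {A : Subgroup G}
    (hcop : (Nat.card A).Coprime p) :
    ∀ {R : Subgroup G}, IsPGroup p R → Cfsg.IsMetacyclic R → A ≤ normalizer (R : Set G) →
      IsMulCommutative ↥⁅R, A⁆ := by
  intro R
  induction R using WellFoundedLT.induction with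
  | ind R ih =>
  intro hR hm hA
  obtain ⟨k, hk⟩ := IsPGroup.iff_card.mp hR
  have hle : ⁅R, A⁆ ≤ R := commutator_le_of_normalizes hA
  rcases hle.lt_or_eq with hlt | heq
  · have := ih _ hlt (hR.to_le hle) (isMetacyclic_of_le hle hm) (normalizes_commutator hA le_normalizer)
    rwa [Coprime.commutator_commutator_eq A R hA (hk ▸ hcop.pow_right k)
      (Or.inr (Coprime.isSolvable_of_isNilpotent' hR.isNilpotent))] at this
  let φ : A →* MulAut R := (normalizerMonoidHom R).comp (inclusion hA)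
  obtain ⟨x, y, hxy, hder⟩ := exists_generators_of_isMetacyclic hm
  have hgen : closure {z : R | ∃ a v, z = φ a v * v⁻¹} = ⊤ := by
    rw [eq_top_iff]
    intro z _
    have h1 : ⁅R, A⁆ ≤ (closure {z : R | ∃ a v, z = φ a v * v⁻¹}).map R.subtype := by
      refine commutator_le.mpr fun v hv a ha => ?_
      refine ⟨(φ ⟨a, ha⟩ ⟨v, hv⟩ * (⟨v, hv⟩ : R)⁻¹)⁻¹,
        inv_mem (subset_closure ⟨⟨a, ha⟩, ⟨v, hv⟩, rfl⟩), ?_⟩
      simp [φ, commutatorElement_def, mul_assoc]
    obtain ⟨z', hz', he⟩ := h1 (heq.ge z.2)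
    rwa [← R.subtype_injective he]
  have := commute_of_metacyclic_gen hp2 hR φ hcop hgen hxy hder
  rw [heq]
  exact ⟨⟨this⟩⟩

/-- In a metacyclic odd `p`-group the solutions of `x ^ p = 1` lie in a subgroup of order at most `p ^ 2`. -/
theorem exists_omega_of_metacyclic {R : Type*} [Group R] [Finite R] (hp2 : p ≠ 2) (hR : IsPGroup p R)
    (hm : Cfsg.IsMetacyclic R) :
    ∃ W : Subgroup R, Nat.card W ≤ p ^ 2 ∧ ∀ g : R, g ^ p = 1 → g ∈ W := by
  obtain ⟨N, hN, hNc, hQc⟩ := hm
  have hcomm : ∀ a b : R ⧸ N, Commute a b := fun a b => by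
    obtain ⟨q, hq⟩ := hQc.exists_generator
    obtain ⟨i, rfl⟩ := mem_zpowers_iff.mp (hq a)
    obtain ⟨j, rfl⟩ := mem_zpowers_iff.mp (hq b)
    exact Commute.zpow_zpow_self q i j
  let φ : R →* R ⧸ N := MonoidHom.mk' (fun g => (QuotientGroup.mk' N g) ^ p) fun a b => by
    rw [map_mul, (hcomm _ _).mul_pow]
  set H := φ.ker with hH
  have hNH : N ≤ H := fun n hn => by
    show (QuotientGroup.mk' N n) ^ p = 1
    rw [QuotientGroup.mk'_apply, (QuotientGroup.eq_one_iff n).mpr hn, one_pow]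
  have hS : ∀ g : R, g ^ p = 1 → g ∈ H := fun g hg => by
    show (QuotientGroup.mk' N g) ^ p = 1
    rw [← map_pow, hg, map_one]
  have hidx : N.relIndex H ≤ p := by
    have h1 := relIndex_comap (⊥ : Subgroup (R ⧸ N)) (QuotientGroup.mk' N) H
    rw [MonoidHom.comap_bot, QuotientGroup.ker_mk', relIndex_bot_left] at h1
    rw [h1]
    classical
    cases nonempty_fintype (R ⧸ N)
    have := IsCyclic.card_pow_eq_one_le (α := R ⧸ N) hp.out.pos
    refine le_trans (Nat.card_le_card_of_injective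
      (fun z : H.map (QuotientGroup.mk' N) => (⟨z.1, by
        obtain ⟨g, hg, he⟩ := z.2
        rw [← he]
        exact hg⟩ : {q : R ⧸ N // q ^ p = 1})) ?_) ?_
    · intro a b hab
      exact Subtype.ext (congrArg (fun q : {q : R ⧸ N // q ^ p = 1} => q.1) hab)
    · rwa [Nat.card_eq_fintype_card, Fintype.card_subtype]
  by_cases hHc : IsCyclic H
  · let W : Subgroup R :=
      { carrier := {g | g ∈ H ∧ g ^ p = 1}
        one_mem' := ⟨one_mem _, one_pow _⟩
        mul_mem' := fun {a b} ha hb => ⟨mul_mem ha.1 hb.1, by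
          have hc : Commute a b := congrArg Subtype.val
            (mul_comm' (⟨a, ha.1⟩ : H) ⟨b, hb.1⟩)
          rw [hc.mul_pow, ha.2, hb.2, one_mul]⟩
        inv_mem' := fun {a} ha => ⟨inv_mem ha.1, by rw [inv_pow, ha.2, inv_one]⟩ }
    refine ⟨W, ?_, fun g hg => ⟨hS g hg, hg⟩⟩
    refine le_trans ?_ (Nat.le_self_pow two_ne_zero p)
    classical
    cases nonempty_fintype H
    have := IsCyclic.card_pow_eq_one_le (α := H) hp.out.pos
    refine le_trans (Nat.card_le_card_of_injective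
      (fun z : W => (⟨⟨z.1, z.2.1⟩, Subtype.ext z.2.2⟩ : {q : H // q ^ p = 1})) ?_) ?_
    · intro a b hab
      exact Subtype.ext (congrArg (fun q : {q : H // q ^ p = 1} => ((q.1 : H) : R)) hab)
    · rwa [Nat.card_eq_fintype_card, Fintype.card_subtype]
  have hHp : IsPGroup p H := hR.to_subgroup H
  have hi : (N.subgroupOf H).index = p := by
    obtain ⟨k, hk⟩ := IsPGroup.iff_card.mp (hHp.to_quotient (N.subgroupOf H))
    rw [index_eq_card, hk]
    rcases k with _ | _ | k
    · exfalso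
      apply hHc
      rw [← index_eq_card, ← relIndex, pow_zero, relIndex_eq_one] at hk
      exact isCyclic_of_le hk
    · rw [zero_add, pow_one]
    · exfalso
      rw [← index_eq_card, ← relIndex] at hk
      rw [hk] at hidx
      have := Nat.le_self_pow (n := k + 1) (by omega) p
      nlinarith [hp.out.two_le, pow_succ p (k + 1)]
  have hNc' : IsCyclic (N.subgroupOf H) :=
    isCyclic_of_surjective _ (subgroupOfEquivOfLe hNH).symm.surjective
  obtain ⟨-, -, hcard⟩ := PGroup.omega_of_cyclic_maximal hHp hp2 hHc hNc' hi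
  refine ⟨(closure {x : H | x ^ p = 1}).map H.subtype, ?_, fun g hg => ?_⟩
  · rw [← Nat.card_congr (equivMapOfInjective _ H.subtype H.subtype_injective).toEquiv, hcard]
  · exact ⟨⟨g, hS g hg⟩, subset_closure (show (⟨g, hS g hg⟩ : H) ^ p = 1 from Subtype.ext hg), rfl⟩

omit [Finite G] in
/-- A bound from two subgroups of exponent `p` meeting trivially inside a small subgroup. -/
theorem card_mul_le_of_inf_bot {W E F : Subgroup G} [Finite W] (hE : E ≤ W) (hF : F ≤ W) (h : E ⊓ F = ⊥) :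
    Nat.card E * Nat.card F ≤ Nat.card W := by
  rw [← Nat.card_prod]
  refine Nat.card_le_card_of_injective
    (fun ef : E × F => (⟨ef.1.1 * ef.2.1, mul_mem (hE ef.1.2) (hF ef.2.2)⟩ : W)) ?_
  rintro ⟨e, f⟩ ⟨e', f'⟩ hef
  have h1 : (e : G) * f = e' * f' := congrArg Subtype.val hef
  obtain ⟨he, hf⟩ := Prod.mk.injEq .. ▸ (mul_injective_of_disjoint (disjoint_iff.mpr h)
    (a₁ := (e, f)) (a₂ := (e', f')) h1)
  rw [he, hf]

theorem exists_elementary_of_not_isCyclic {R : Subgroup G} (hp2 : p ≠ 2) (hR : IsPGroup p R)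
    (hc : ¬ IsCyclic R) :
    ∃ E : Subgroup G, E ≤ R ∧ (∀ e ∈ E, e ^ p = 1) ∧ Nat.card E = p ^ 2 := by
  obtain ⟨E, -, hEc, hEp, hEcard⟩ := PGroup.exists_normal_elementary_sq hR hp2 hc
  refine ⟨E.map R.subtype, map_subtype_le _, ?_, ?_⟩
  · rintro _ ⟨e, he, rfl⟩
    rw [← map_pow, hEp e he, map_one]
  · rw [← Nat.card_congr (equivMapOfInjective _ R.subtype R.subtype_injective).toEquiv, hEcard]

/-- With `R = T ⊔ C`, `T ⊓ C = ⊥` and at most `p ^ 2` solutions of `x ^ p = 1`, both factors are cyclic. -/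
theorem isCyclic_of_omega_le {T C W : Subgroup G} (hp2 : p ≠ 2) (hT : IsPGroup p T) (hC : IsPGroup p C)
    (hC1 : C ≠ ⊥) (hTC : T ⊓ C = ⊥) (hW : Nat.card W ≤ p ^ 2)
    (hWT : ∀ g ∈ T, g ^ p = 1 → g ∈ W) (hWC : ∀ g ∈ C, g ^ p = 1 → g ∈ W) : IsCyclic T := by
  by_contra hc
  obtain ⟨E, hET, hEp, hE⟩ := exists_elementary_of_not_isCyclic hp2 hT hc
  obtain ⟨k, hk⟩ := IsPGroup.iff_card.mp hC
  have hdvd : p ∣ Nat.card C := by
    rcases k with _ | k
    · exact absurd (C.eq_bot_of_card_eq (by simpa using hk)) hC1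
    · exact hk ▸ dvd_pow_self p k.succ_ne_zero
  obtain ⟨c, hc'⟩ := exists_prime_orderOf_dvd_card' p hdvd
  have hco : orderOf (c : G) = p := by rw [Subgroup.orderOf_coe, hc']
  have hcp : (c : G) ^ p = 1 := hco ▸ pow_orderOf_eq_one _
  have h := card_mul_le_of_inf_bot (W := W) (E := E) (F := zpowers (c : G))
    (fun e he => hWT e (hET he) (hEp e he)) (zpowers_le.mpr (hWC _ c.2 hcp))
    (le_bot_iff.mp ((inf_le_inf hET (zpowers_le.mpr c.2)).trans hTC.le))
  rw [hE, Nat.card_zpowers, hco] at h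
  have := hp.out.two_le
  nlinarith [h.trans hW, pow_pos hp.out.pos 2]

end Cfsg.Agent.OddLocal43
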