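import Cfsg.Prelude.Def_OddOrderLocal
import Cfsg.Agent.OddLocal43.Coprime
import Cfsg.Agent.Lib.PGroup.Commutator
import Cfsg.Agent.Lib.PGroup.Basic
import Cfsg.Agent.Lib.PGroup.CyclicMax
import Cfsg.Agent.Lib.PGroup.NormalAbelian

/-!
# Coprime operators on metacyclic `p`-groups, `p` odd

The key fact is that a metacyclic `p`-group generated by the commutators with a coprime operator
group is abelian.
-/

set_option autoImplicit false

namespace Cfsg.Agent.OddLocal43

open Subgroup
open scoped commutatorElement

variable {p : ℕ} [hp : Fact p.Prime]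

/-- An averaging argument: a fixed point of a coprime action on an abelian quotient is trivial when
the group is generated by displacements. -/
theorem mem_of_fixed_of_gen {R A : Type*} [Group R] [Finite R] [Group A] [Finite A]
    (φ : A →* MulAut R) (hgen : closure {z | ∃ a v, z = φ a v * v⁻¹} = ⊤)
    (Z : Subgroup R) [Z.Normal] (hcomm : ∀ a b : R, ⁅a, b⁆ ∈ Z) (hcop : (Nat.card A).Coprime (Nat.card R))
    (hinv : ∀ a, ∀ z ∈ Z, φ a z ∈ Z) {v : R} (hv : ∀ a, φ a v * v⁻¹ ∈ Z) : v ∈ Z := by
  cases nonempty_fintype A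
  letI : CommGroup (R ⧸ Z) :=
    { (QuotientGroup.Quotient.group Z) with
      mul_comm := fun a b => by
        obtain ⟨a, rfl⟩ := QuotientGroup.mk'_surjective Z a
        obtain ⟨b, rfl⟩ := QuotientGroup.mk'_surjective Z b
        rw [← commutatorElement_eq_one_iff_mul_comm, ← map_commutatorElement]
        exact (QuotientGroup.eq_one_iff _).mpr (hcomm a b) }
  let σ : A → R →* R ⧸ Z := fun a => (QuotientGroup.mk' Z).comp (φ a).toMonoidHom
  let ν : R →* R ⧸ Z := ∏ a, σ a
  have hν : ∀ u, ν u = ∏ a, σ a u := fun u => MonoidHom.finsetProd_apply _ _ _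
  have hone : ν = 1 := by
    refine MonoidHom.eq_of_eqOn_dense hgen ?_
    rintro _ ⟨a, u, rfl⟩
    rw [map_mul, map_inv, MonoidHom.one_apply, mul_inv_eq_one, hν, hν]
    exact Fintype.prod_equiv (Equiv.mulRight a) _ _ fun b => by simp [σ]
  have hfix : ∀ a, σ a v = (v : R ⧸ Z) := fun a => by
    show ((φ a v : R) : R ⧸ Z) = v
    rw [← mul_inv_eq_one, ← QuotientGroup.mk_inv, ← QuotientGroup.mk_mul, QuotientGroup.eq_one_iff]
    exact hv a
  have hpow : (v : R ⧸ Z) ^ Nat.card A = 1 := by
    have := congrArg (fun f : R →* R ⧸ Z => f v) hone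
    simp only [hν, hfix, Finset.prod_const, Finset.card_univ, MonoidHom.one_apply] at this
    rwa [Nat.card_eq_fintype_card]
  rw [← QuotientGroup.eq_one_iff]
  have hc : (Nat.card (R ⧸ Z)).Coprime (Nat.card A) :=
    (hcop.coprime_dvd_right Z.card_quotient_dvd_card).symm
  exact (powCoprime hc).injective (by simpa using hpow)

/-- The configuration with derived group of order `p` does not occur. -/
theorem metacyclic_gen_false {R A : Type*} [Group R] [Finite R] [Group A] [Finite A] (hp2 : p ≠ 2)
    (hR : IsPGroup p R) (φ : A →* MulAut R) (hcop : (Nat.card A).Coprime p)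
    (hgen : closure {z | ∃ a v, z = φ a v * v⁻¹} = ⊤) {x y : R} (hxy : closure {x, y} = ⊤)
    (hder : commutator R ≤ zpowers x) (hd : Nat.card (commutator R) = p) : False := by
  have hG : commutator R ≤ center R := PGroup.le_center_of_card_eq_prime hR hd
  have hcp : ∀ a b : R, ⁅a, b⁆ ^ p = 1 := fun a b => by
    have h := pow_card_eq_one' (G := commutator R)
      (x := ⟨⁅a, b⁆, PGroup.commutatorElement_mem_commutator a b⟩)
    rw [hd] at h
    exact congrArg Subtype.val h
  have hpow : ∀ a b : R, (a * b) ^ p = a ^ p * b ^ p := fun a b =>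
    PGroup.mul_pow_prime_classTwo hG hp.out hp2 (hcp b a)
  have hpowj : ∀ (j : ℕ) (a b : R), (a * b) ^ p ^ j = a ^ p ^ j * b ^ p ^ j := by
    intro j
    induction j with
    | zero => simp
    | succ j ih =>
      intro a b
      rw [pow_succ', pow_mul, hpow, ih, ← pow_mul, ← pow_mul]
  let ψ : ℕ → R →* R := fun j => MonoidHom.mk' (fun u => u ^ p ^ j) (hpowj j)
  have hψ : ∀ j u, ψ j u = u ^ p ^ j := fun _ _ => rfl
  have hψc : ∀ j a u, φ a (ψ j u) = ψ j (φ a u) := fun j a u => map_pow (φ a) u _
  have hpc : ∀ u, ψ 1 u ∈ center R := fun u => mem_center_iff.mpr fun g => by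
    rw [hψ, pow_one, ← commutatorElement_eq_one_iff_mul_comm, PGroup.comm_pow_right hG, hcp]
  -- a generator of the derived group is a power of a generator
  have hne : ∃ a b : R, ⁅a, b⁆ ≠ 1 := by
    by_contra hall
    push Not at hall
    have : commutator R = ⊥ := by
      rw [_root_.commutator_def, eq_bot_iff, commutator_le]
      exact fun a _ b _ => mem_bot.mpr (hall a b)
    rw [this, card_bot] at hd
    exact hp.out.ne_one hd.symm
  obtain ⟨a₀, b₀, hw1⟩ := hne
  set w := ⁅a₀, b₀⁆ with hw
  have hwR : w ∈ commutator R := PGroup.commutatorElement_mem_commutator a₀ b₀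
  have hwz : ∀ c ∈ commutator R, ∃ i : ℤ, w ^ i = c := by
    intro c hc
    have htop : zpowers (⟨w, hwR⟩ : commutator R) = ⊤ :=
      zpowers_eq_top_of_prime_card hd fun h => hw1 (congrArg Subtype.val h)
    obtain ⟨i, hi⟩ := mem_zpowers_iff.mp (htop ▸ mem_top (⟨c, hc⟩ : commutator R))
    exact ⟨i, (by simpa using congrArg Subtype.val hi)⟩
  have hw_pow : w ∈ (ψ 1).range := by
    obtain ⟨k, hk⟩ := mem_zpowers_iff.mp (hder hwR)
    have hpk : (p : ℤ) ∣ k := by
      by_contra hndvd
      have hx : x ^ p = 1 := by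
        have h1 : (orderOf x : ℤ) ∣ k * p := by
          rw [orderOf_dvd_iff_zpow_eq_one, zpow_mul, hk, zpow_natCast, hcp]
        obtain ⟨m, hm⟩ := IsPGroup.iff_orderOf.mp hR x
        rw [hm, Nat.cast_pow] at h1
        rcases m with _ | _ | m
        · rw [pow_zero, orderOf_eq_one_iff] at hm
          rw [hm, one_pow]
        · rw [← pow_one p, show (1 : ℕ) = 0 + 1 from rfl, ← hm, pow_orderOf_eq_one]
        · exfalso
          apply hndvd
          have hp0 : (p : ℤ) ≠ 0 := by exact_mod_cast hp.out.ne_zero
          have : (p : ℤ) ^ (m + 1) ∣ k := by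
            rwa [pow_succ, mul_dvd_mul_iff_right hp0] at h1
          exact (dvd_pow_self _ m.succ_ne_zero).trans this
      have hxo : orderOf x = p := by
        refine orderOf_eq_prime hx fun h => hw1 ?_
        rw [← hk, h, one_zpow]
      -- then `x` is a power of `w`, hence central
      have hxc : x ∈ center R := by
        have hle : zpowers w ≤ zpowers x := zpowers_le.mpr (hder hwR)
        have heq : zpowers w = zpowers x := eq_of_le_of_card_ge hle (by
          rw [Nat.card_zpowers, Nat.card_zpowers, hxo, orderOf_eq_prime (hcp a₀ b₀) hw1])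
        have : x ∈ zpowers w := heq ▸ mem_zpowers x
        exact zpowers_le.mpr (hG hwR) this
      have hab : ∀ u v : R, u * v = v * u := by
        have hc := isMulCommutative_closure (k := ({x, y} : Set R)) (by
          rintro u (rfl | rfl) v (rfl | rfl)
          · rfl
          · exact (mem_center_iff.mp hxc _).symm
          · exact mem_center_iff.mp hxc _
          · rfl)
        intro u v
        exact congrArg Subtype.val (hc.is_comm.comm
          (⟨u, hxy ▸ mem_top u⟩ : closure ({x, y} : Set R)) ⟨v, hxy ▸ mem_top v⟩)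
      exact hw1 (commutatorElement_eq_one_iff_mul_comm.mpr (hab a₀ b₀))
    obtain ⟨i, rfl⟩ := hpk
    refine ⟨x ^ i, ?_⟩
    rw [hψ, pow_one, ← hk, ← zpow_natCast, ← zpow_mul, mul_comm]
  have hRle : commutator R ≤ (ψ 1).range := fun c hc => by
    obtain ⟨i, rfl⟩ := hwz c hc
    exact zpow_mem hw_pow i
  -- the centre is the subgroup of `p`-th powers, of index `p ^ 2`
  have hrn : ((ψ 1).range).Normal := Subgroup.Normal.of_commutator_le R hRle
  have hidx : ((ψ 1).range).index ≤ p ^ 2 := by
    rw [index_eq_card]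
    set π := QuotientGroup.mk' (ψ 1).range with hπ
    have hπp : ∀ u, π u ^ p = 1 := fun u => by
      rw [← map_pow, hπ, QuotientGroup.mk'_apply, QuotientGroup.eq_one_iff]
      exact ⟨u, by rw [hψ, pow_one]⟩
    have hcomm : ∀ a b : R ⧸ (ψ 1).range, a * b = b * a := by
      intro a b
      obtain ⟨a, rfl⟩ := QuotientGroup.mk'_surjective _ a
      obtain ⟨b, rfl⟩ := QuotientGroup.mk'_surjective _ b
      rw [← commutatorElement_eq_one_iff_mul_comm, ← map_commutatorElement]
      exact (QuotientGroup.eq_one_iff _).mpr (hRle (PGroup.commutatorElement_mem_commutator a b))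
    have hnX : (zpowers (π y)).Normal := ⟨fun n hn g => by
      rw [hcomm g, mul_inv_cancel_right]; exact hn⟩
    have htop : zpowers (π x) ⊔ zpowers (π y) = ⊤ := by
      rw [eq_top_iff, ← map_top_of_surjective π (QuotientGroup.mk'_surjective _), ← hxy,
        MonoidHom.map_closure, closure_le]
      rintro _ ⟨u, (rfl | rfl), rfl⟩
      · exact mem_sup_left (mem_zpowers _)
      · exact mem_sup_right (mem_zpowers _)
    have hsurj : Function.Surjective
        (fun uv : zpowers (π x) × zpowers (π y) => (uv.1 : R ⧸ (ψ 1).range) * uv.2) := by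
      intro g
      obtain ⟨u, hu, v, hv, rfl⟩ := mem_sup_of_normal_right.mp (htop ▸ mem_top g)
      exact ⟨(⟨u, hu⟩, ⟨v, hv⟩), rfl⟩
    refine (Nat.card_le_card_of_surjective _ hsurj).trans ?_
    rw [Nat.card_prod, Nat.card_zpowers, Nat.card_zpowers, pow_two]
    exact Nat.mul_le_mul (Nat.le_of_dvd hp.out.pos (orderOf_dvd_of_pow_eq_one (hπp x)))
      (Nat.le_of_dvd hp.out.pos (orderOf_dvd_of_pow_eq_one (hπp y)))
  have hZidx : p ^ 2 ≤ (center R).index := by
    obtain ⟨k, hk⟩ := IsPGroup.iff_card.mp (hR.to_quotient (center R))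
    rw [index_eq_card, hk]
    refine Nat.pow_le_pow_right hp.out.pos ?_
    by_contra hlt
    have hcyc : IsCyclic (R ⧸ center R) := by
      rcases k with _ | _ | k
      · have : Subsingleton (R ⧸ center R) := (Nat.card_eq_one_iff_unique.mp (by simpa using hk)).1
        infer_instance
      · exact isCyclic_of_prime_card (p := p) (by simpa using hk)
      · omega
    exact hw1 (commutatorElement_eq_one_iff_mul_comm.mpr
      (((QuotientGroup.mk' (center R)).isMulCommutative_of_isCyclic_of_ker_le_center
        (QuotientGroup.ker_mk' _).le).is_comm.comm a₀ b₀))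
  have hZeq : center R = (ψ 1).range := by
    have hle : (ψ 1).range ≤ center R := by rintro _ ⟨u, rfl⟩; exact hpc u
    refine (eq_of_le_of_card_ge hle ?_).symm
    have h1 := (center R).card_mul_index
    have h2 := (ψ 1).range.card_mul_index
    have h3 : (center R).index * Nat.card (center R) ≤
        (center R).index * Nat.card (ψ 1).range := by
      rw [mul_comm _ (Nat.card (center R)), h1, ← h2, mul_comm]
      exact Nat.mul_le_mul_right _ (hidx.trans hZidx)
    exact Nat.le_of_mul_le_mul_left h3 (Nat.pos_of_ne_zero FiniteIndex.index_ne_zero)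
  have hZsq : (center R).index = p ^ 2 := le_antisymm (hZeq ▸ hidx) hZidx
  -- proper subgroups over the centre
  have hrel : ∀ H : Subgroup R, center R ≤ H → H ≠ ⊤ →
      (center R).relIndex H ≤ p ∧ ∀ u ∈ H, ∀ v ∈ H, u * v = v * u := by
    intro H hH hne
    have h1 := relIndex_mul_index hH
    rw [hZsq] at h1
    obtain ⟨i, -, hi⟩ := (Nat.dvd_prime_pow hp.out).mp (Dvd.intro _ h1)
    have hi2 : i ≤ 1 := by
      by_contra hlt
      push Not at hlt
      have hle : p ^ 2 ≤ p ^ i := Nat.pow_le_pow_right hp.out.pos hlt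
      refine hne (index_eq_one.mp (le_antisymm ?_ (Nat.pos_of_ne_zero FiniteIndex.index_ne_zero)))
      have h2 : p ^ i * H.index ≤ p ^ i * 1 := by rw [← hi, h1, hi, mul_one]; exact hle
      exact Nat.le_of_mul_le_mul_left h2 (pow_pos hp.out.pos i)
    refine ⟨hi ▸ (Nat.pow_le_pow_right hp.out.pos hi2).trans (pow_one p).le, fun u hu v hv => ?_⟩
    have hker : ((QuotientGroup.mk' (center R)).comp H.subtype).rangeRestrict.ker ≤ center H := by
      intro g hg
      rw [MonoidHom.ker_rangeRestrict, MonoidHom.mem_ker, MonoidHom.comp_apply,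
        QuotientGroup.mk'_apply, QuotientGroup.eq_one_iff] at hg
      exact mem_center_iff.mpr fun k => Subtype.ext (mem_center_iff.mp hg (k : R))
    have hcard : Nat.card ((QuotientGroup.mk' (center R)).comp H.subtype).range = p ^ i := by
      rw [MonoidHom.range_eq_map, ← map_map, ← MonoidHom.range_eq_map, range_subtype,
        ← relIndex_bot_left, ← relIndex_comap, MonoidHom.comap_bot, QuotientGroup.ker_mk', hi]
    have hcyc : IsCyclic ((QuotientGroup.mk' (center R)).comp H.subtype).range := by
      rcases i with _ | _ | i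
      · have : Subsingleton ↥((QuotientGroup.mk' (center R)).comp H.subtype).range :=
          (Nat.card_eq_one_iff_unique.mp (by simpa using hcard)).1
        exact isCyclic_of_subsingleton
      · exact isCyclic_of_prime_card (p := p) (by simpa using hcard)
      · omega
    exact congrArg Subtype.val
      (((((QuotientGroup.mk' (center R)).comp H.subtype).rangeRestrict.isMulCommutative_of_isCyclic_of_ker_le_center
        hker)).is_comm.comm (⟨u, hu⟩ : H) ⟨v, hv⟩)
  -- the deepest layer containing `w`
  have hex : ∃ j, w ∉ (ψ j).range := by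
    obtain ⟨k, hk⟩ := IsPGroup.iff_card.mp hR
    refine ⟨k, ?_⟩
    rintro ⟨u, hu⟩
    rw [hψ, ← hk, pow_card_eq_one'] at hu
    exact hw1 hu.symm
  classical
  have hj1 : 1 < Nat.find hex := by
    by_contra hlt
    push Not at hlt
    have hspec := Nat.find_spec hex
    rcases Nat.le_one_iff_eq_zero_or_eq_one.mp hlt with h | h <;> rw [h] at hspec
    · exact hspec ⟨w, by rw [hψ, pow_zero, pow_one]⟩
    · exact hspec hw_pow
  obtain ⟨j, hj⟩ : ∃ j, Nat.find hex = j + 1 := ⟨Nat.find hex - 1, by omega⟩
  have hjn : w ∉ (ψ (j + 1)).range := hj ▸ Nat.find_spec hex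
  obtain ⟨r, hr⟩ : w ∈ (ψ j).range := not_not.mp (Nat.find_min hex (by omega))
  set K := ((ψ (j + 1)).range).comap (ψ j) with hK
  have hrK : r ∉ K := fun h => hjn (by rw [hK, mem_comap, hr] at h; exact h)
  have hZK : center R ≤ K := by
    rw [hZeq]
    rintro _ ⟨u, rfl⟩
    exact ⟨u, by rw [hψ, hψ, hψ, pow_one, ← pow_mul, pow_succ']⟩
  have hKinv : ∀ a, ∀ v ∈ K, φ a v ∈ K := by
    intro a v hv
    obtain ⟨u, hu⟩ := hv
    exact ⟨φ a u, by rw [← hψc, hu, hψc]⟩
  obtain ⟨-, hKc⟩ := hrel K hZK fun h => hrK (h ▸ mem_top r)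
  have hrd : ∀ a, ∃ d : ℤ, φ a w = w ^ d ∧ φ a r * (r ^ d)⁻¹ ∈ K := by
    intro a
    have hmem : φ a w ∈ commutator R := by
      rw [hw, map_commutatorElement]
      exact PGroup.commutatorElement_mem_commutator _ _
    obtain ⟨d, hd'⟩ := hwz _ hmem
    refine ⟨d, hd'.symm, ?_⟩
    rw [hK, mem_comap, map_mul, map_inv, map_zpow, ← hψc, hr, ← hd', mul_inv_cancel]
    exact one_mem _
  -- displacements that stay in the centre or in `K` centralize `r`
  have key : ∀ a v, (∀ k ∈ K, Commute k (φ a v)) → Commute r (φ a v * v⁻¹) := by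
    intro a v hcomm
    obtain ⟨d, hd', hkK⟩ := hrd a
    set k := φ a r * (r ^ d)⁻¹ with hk
    have hzl : ∀ (g h : R) (n : ℤ), ⁅g ^ n, h⁆ = ⁅g, h⁆ ^ n := by
      intro g h n
      obtain ⟨m, rfl | rfl⟩ := n.eq_nat_or_neg
      · rw [zpow_natCast, zpow_natCast, PGroup.comm_pow_left hG]
      · rw [zpow_neg, zpow_neg, zpow_natCast, zpow_natCast, PGroup.comm_inv_left hG,
          PGroup.comm_pow_left hG]
    have h1 : ⁅r, v⁆ ^ d = φ a ⁅r, v⁆ := by
      obtain ⟨i, hi⟩ := hwz _ (PGroup.commutatorElement_mem_commutator r v)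
      rw [← hi, map_zpow, hd', ← zpow_mul, ← zpow_mul, mul_comm]
    have h2 : φ a ⁅r, v⁆ = ⁅r, φ a v⁆ ^ d := by
      rw [map_commutatorElement, show φ a r = k * r ^ d by rw [hk, inv_mul_cancel_right],
        PGroup.comm_mul_left hG, (hcomm k hkK).commutator_eq, one_mul, hzl]
    have h3 : ⁅r, φ a v * v⁻¹⁆ ^ d = 1 := by
      have hc : Commute ⁅r, φ a v⁆ ⁅r, v⁻¹⁆ := (mem_center_iff.mp
        (hG (PGroup.commutatorElement_mem_commutator r v⁻¹)) _)
      rw [PGroup.comm_mul_right hG, hc.mul_zpow, ← h2, ← h1, PGroup.comm_inv_right hG, inv_zpow,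
        mul_inv_cancel]
    rw [← commutatorElement_eq_one_iff_commute]
    obtain ⟨i, hi⟩ := hwz _ (PGroup.commutatorElement_mem_commutator r (φ a v * v⁻¹))
    rw [← hi, ← zpow_mul, mul_comm, zpow_mul, ← hd', ← map_zpow, map_eq_one_iff _ (φ a).injective] at h3
    rw [← hi, h3]
  -- the action on `K` modulo the centre is trivial, so `K` is the centre
  have hKZ : K ≤ center R := by
    intro v hv
    refine mem_of_fixed_of_gen φ hgen (center R) (fun a b => hG (PGroup.commutatorElement_mem_commutator a b))
      (by obtain ⟨k, hk⟩ := IsPGroup.iff_card.mp hR; rw [hk]; exact hcop.pow_right k)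
      (fun a z hz => by
        refine mem_center_iff.mpr fun g => (φ a).symm.injective ?_
        simp [mem_center_iff.mp hz _]) fun a => ?_
    set u := φ a v * v⁻¹ with hu
    have huK : u ∈ K := mul_mem (hKinv a v hv) (inv_mem hv)
    have hur : Commute r u := key a v fun k hk => hKc k hk _ (hKinv a v hv)
    -- otherwise `r ∈ K`
    by_contra hnot
    set C := centralizer ({u} : Set R) with hC
    have hCne : C ≠ ⊤ := fun h => hnot (mem_center_iff.mpr fun g => by
      have : g ∈ C := h ▸ mem_top g
      exact mem_centralizer_singleton_iff.mp this)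
    have hKC : K ≤ C := fun k hk => mem_centralizer_singleton_iff.mpr (hKc k hk u huK)
    have hZC : center R ≤ C := hZK.trans hKC
    obtain ⟨hCi, -⟩ := hrel C hZC hCne
    have hlt : center R < K := lt_of_le_of_ne hZK fun h => hnot (h ▸ huK)
    have h1 : Nat.card C ≤ p * Nat.card (center R) := by
      rw [← relIndex_bot_left C, ← relIndex_mul_relIndex ⊥ _ _ bot_le hZC, relIndex_bot_left,
        mul_comm]
      exact Nat.mul_le_mul_right _ hCi
    have h2 : p * Nat.card (center R) ≤ Nat.card K := mul_le_card_of_lt' hp.out (hR.to_subgroup K) hlt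
    have hKeq : K = C := eq_of_le_of_card_ge hKC (h1.trans h2)
    exact hrK (hKeq ▸ mem_centralizer_singleton_iff.mpr hur.eq)
  have hrc : r ∈ center R := by
    have : closure {z | ∃ a v, z = φ a v * v⁻¹} ≤ centralizer ({r} : Set R) := by
      rw [closure_le]
      rintro _ ⟨a, v, rfl⟩
      refine mem_centralizer_singleton_iff.mpr (key a v fun k hk => ?_).eq.symm
      exact (mem_center_iff.mp (hKZ hk) _).symm
    rw [hgen] at this
    exact mem_center_iff.mpr fun g => mem_centralizer_singleton_iff.mp (this (mem_top g))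
  exact hrK (hZK hrc)
where
  mul_le_card_of_lt' {R : Type _} [Group R] [Finite R] (hp : p.Prime) {H K : Subgroup R}
      (hK : IsPGroup p K) (h : H < K) : p * Nat.card H ≤ Nat.card K := by
    have : Fact p.Prime := ⟨hp⟩
    obtain ⟨a, ha⟩ := IsPGroup.iff_card.mp (hK.to_le h.le)
    obtain ⟨b, hb⟩ := IsPGroup.iff_card.mp hK
    have hne : Nat.card H < Nat.card K := by
      refine lt_of_le_of_ne (card_le_of_le h.le) fun e => h.ne ?_
      exact eq_of_le_of_card_ge h.le e.ge
    rw [ha, hb] at hne ⊢
    rw [← pow_succ']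
    exact Nat.pow_le_pow_right hp.pos ((Nat.pow_lt_pow_iff_right hp.one_lt).mp hne)

/-- A metacyclic odd `p`-group generated by displacements of a coprime operator group is abelian. -/
theorem commute_of_metacyclic_gen {R A : Type*} [Group R] [Finite R] [Group A] [Finite A]
    (hp2 : p ≠ 2) (hR : IsPGroup p R) (φ : A →* MulAut R) (hcop : (Nat.card A).Coprime p)
    (hgen : closure {z | ∃ a v, z = φ a v * v⁻¹} = ⊤) {x y : R} (hxy : closure {x, y} = ⊤)
    (hder : commutator R ≤ zpowers x) : ∀ u v : R, u * v = v * u := by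
  by_contra hnc
  have hDc : IsCyclic (commutator R) := isCyclic_of_le hder
  -- the derived group is central
  have hG : commutator R ≤ center R := by
    have hact : ∀ (f g : MulAut R), ∀ c ∈ commutator R, f (g c) = g (f c) := by
      intro f g c hc
      let res : MulAut R → (commutator R →* commutator R) := fun h =>
        { toFun := fun d => ⟨h d, (characteristic_iff_le_comap.mp
            (inferInstance : (commutator R).Characteristic) h) d.2⟩
          map_one' := Subtype.ext (map_one h)
          map_mul' := fun a b => Subtype.ext (map_mul h _ _) }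
      obtain ⟨m, hm⟩ := MonoidHom.map_cyclic (res f)
      obtain ⟨n, hn⟩ := MonoidHom.map_cyclic (res g)
      have hm' : ∀ d ∈ commutator R, f d = d ^ m := fun d hd => by
        simpa [res] using congrArg Subtype.val (hm ⟨d, hd⟩)
      have hn' : ∀ d ∈ commutator R, g d = d ^ n := fun d hd => by
        simpa [res] using congrArg Subtype.val (hn ⟨d, hd⟩)
      rw [hn' c hc, map_zpow, hm' c hc, hn' _ (zpow_mem hc m)]
    have hle : closure {z | ∃ a v, z = φ a v * v⁻¹} ≤ centralizer (commutator R : Set R) := by
      rw [closure_le]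
      rintro _ ⟨a, v, rfl⟩
      refine mem_centralizer_iff.mpr fun c hc => ?_
      have hc' : (φ a).symm c ∈ commutator R :=
        (characteristic_iff_le_comap.mp (inferInstance : (commutator R).Characteristic) (φ a).symm) hc
      have e : φ a v * c * (φ a v)⁻¹ = v * c * v⁻¹ := by
        have := hact (φ a) (MulAut.conj v) _ hc'
        simpa using this
      calc c * (φ a v * v⁻¹) = φ a v * ((φ a v)⁻¹ * c * φ a v) * v⁻¹ := by group
        _ = φ a v * (v⁻¹ * c * v) * v⁻¹ := by
            congr 2
            have h4 := hact (φ a) (MulAut.conj v⁻¹) _ hc'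
            simpa using h4
        _ = φ a v * v⁻¹ * c := by group
    rw [hgen] at hle
    intro c hc
    exact mem_center_iff.mpr fun g => (mem_centralizer_iff.mp (hle (mem_top g)) c hc).symm
  -- divide by the `p`-th powers of the derived group
  have hDne : commutator R ≠ ⊥ := fun h => hnc fun u v => commutatorElement_eq_one_iff_mul_comm.mp
    (mem_bot.mp (h ▸ PGroup.commutatorElement_mem_commutator u v))
  let π : commutator R →* R := MonoidHom.mk' (fun c => (c : R) ^ p) fun a b => by
    rw [coe_mul, (show Commute (a : R) b from mem_center_iff.mp (hG b.2) a).mul_pow]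
  set M := π.range with hM
  have hMD : M ≤ commutator R := by rintro _ ⟨c, rfl⟩; exact pow_mem c.2 p
  have hMn : M.Normal := ⟨fun m hm g => by
    rw [mem_center_iff.mp ((hMD.trans hG) hm) g, mul_inv_cancel_right]; exact hm⟩
  have hMinv : ∀ f : MulAut R, M.map (f : R →* R) = M := by
    have hle : ∀ f : MulAut R, M.map (f : R →* R) ≤ M := by
      rintro f _ ⟨_, ⟨c, rfl⟩, rfl⟩
      exact ⟨⟨f c, (characteristic_iff_le_comap.mp
        (inferInstance : (commutator R).Characteristic) f) c.2⟩, (map_pow f (c : R) p).symm⟩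
    exact fun f => le_antisymm (hle f) fun m hm => ⟨f.symm m, hle f.symm ⟨m, hm, rfl⟩, by simp⟩
  let ρ : MulAut R →* MulAut (R ⧸ M) :=
    { toFun := fun τ => QuotientGroup.congr M M τ (hMinv τ)
      map_one' := MulEquiv.ext fun q => by
        obtain ⟨u, rfl⟩ := QuotientGroup.mk'_surjective _ q
        rfl
      map_mul' := fun τ τ' => MulEquiv.ext fun q => by
        obtain ⟨u, rfl⟩ := QuotientGroup.mk'_surjective _ q
        rfl }
  set mk := QuotientGroup.mk' M with hmk
  have hder' : commutator (R ⧸ M) = (commutator R).map mk := by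
    rw [_root_.commutator_def, _root_.commutator_def, map_commutator,
      map_top_of_surjective _ (QuotientGroup.mk'_surjective M)]
  refine metacyclic_gen_false hp2 (hR.to_quotient M) (ρ.comp φ) hcop ?_ (x := mk x) (y := mk y) ?_ ?_ ?_
  · rw [eq_top_iff, ← map_top_of_surjective mk (QuotientGroup.mk'_surjective M), ← hgen,
      MonoidHom.map_closure]
    refine closure_mono ?_
    rintro _ ⟨_, ⟨a, v, rfl⟩, rfl⟩
    exact ⟨a, mk v, by rw [map_mul, map_inv]; rfl⟩
  · rw [← map_top_of_surjective mk (QuotientGroup.mk'_surjective M), ← hxy, MonoidHom.map_closure,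
      Set.image_pair]
  · rw [hder', ← MonoidHom.map_zpowers]
    exact map_mono hder
  · have h1 : Nat.card (commutator R) = Nat.card π.ker * Nat.card M := by
      rw [hM, ← index_ker, card_mul_index]
    have h2 : Nat.card (commutator R) = Nat.card ((commutator R).map mk) * Nat.card M := by
      rw [← relIndex_bot_left ((commutator R).map mk), ← relIndex_comap, MonoidHom.comap_bot,
        QuotientGroup.ker_mk', mul_comm, ← relIndex_bot_left M, relIndex_mul_relIndex _ _ _ bot_le hMD,
        relIndex_bot_left]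
    rw [hder', Nat.eq_of_mul_eq_mul_right Nat.card_pos (h2.symm.trans h1)]
    have hker : ∀ c : commutator R, c ∈ π.ker ↔ c ^ p = 1 := fun c => by
      rw [MonoidHom.mem_ker, ← Subtype.coe_inj]
      rfl
    refine le_antisymm ?_ ?_
    · classical
      cases nonempty_fintype (commutator R)
      have := IsCyclic.card_pow_eq_one_le (α := commutator R) hp.out.pos
      rwa [Nat.card_congr (Equiv.subtypeEquivRight hker), Nat.card_eq_fintype_card,
        Fintype.card_subtype]
    · have hpD : IsPGroup p (commutator R) := hR.to_subgroup _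
      obtain ⟨k, hk⟩ := IsPGroup.iff_card.mp hpD
      have hdvd : p ∣ Nat.card (commutator R) := by
        rcases k with _ | k
        · exact absurd ((commutator R).eq_bot_of_card_eq (by simpa using hk)) hDne
        · exact hk ▸ dvd_pow_self p k.succ_ne_zero
      obtain ⟨c, hc⟩ := exists_prime_orderOf_dvd_card' p hdvd
      rw [← hc, ← Nat.card_zpowers]
      exact card_le_of_le (zpowers_le.mpr ((hker c).mpr (hc ▸ pow_orderOf_eq_one c)))

end Cfsg.Agent.OddLocal43
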