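import Cfsg.Agent.OddLocal43.RankTwoOmega
import Cfsg.Agent.OddLocal43.Metacyclic

/-!
# Blackburn's structure theorem for rank two `p`-groups with operators of odd order

A `p`-group `R`, `3 < p`, of rank two generated by the displacements of a coprime odd-order operator
group is abelian or a central product of an extraspecial group of exponent `p` and a cyclic group.
-/

set_option autoImplicit false

namespace Cfsg.Agent.OddLocal43

open Subgroup
open scoped commutatorElement

variable {p : ℕ} [hp : Fact p.Prime]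

/-- At most `p ^ 2` solutions of `x ^ p = 1`. -/
def HasSmallOmega (p : ℕ) (R : Type*) [Group R] : Prop := Nat.card {x : R // x ^ p = 1} ≤ p ^ 2

theorem HasSmallOmega.prankLE {R : Type*} [Group R] [Finite R] (h : HasSmallOmega p R) :
    Cfsg.PRankLE p 2 R := fun A _ hA =>
  (Nat.card_le_card_of_injective (fun a : A => (⟨a.1, hA a a.2⟩ : {x : R // x ^ p = 1}))
    fun a b hab => Subtype.ext (congrArg (fun t => t.1) hab)).trans h

theorem HasSmallOmega.to_subgroup {R : Type*} [Group R] [Finite R] (h : HasSmallOmega p R)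
    (H : Subgroup R) : HasSmallOmega p H :=
  (Nat.card_le_card_of_injective
    (fun a : {x : H // x ^ p = 1} => (⟨a.1, congrArg Subtype.val a.2⟩ : {x : R // x ^ p = 1}))
    fun a b hab => Subtype.ext (Subtype.ext (congrArg (fun t => t.1) hab))).trans h

/-- A normal subgroup of order at most `p` of a `p`-group is central. -/
theorem le_center_of_card_le_prime {R : Type*} [Group R] [Finite R] (hR : IsPGroup p R) {N : Subgroup R}
    [N.Normal] (h : Nat.card N ≤ p) : N ≤ center R := by
  by_cases hN : N = ⊥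
  · rw [hN]; exact bot_le
  exact PGroup.le_center_of_card_eq_prime hR (le_antisymm h (PGroup.le_card_of_ne_bot hR hN))

/-- The commutator with a normal subgroup of order at most `p ^ 2` is central. -/
theorem commutator_le_center_of_card_le_sq {R : Type*} [Group R] [Finite R] (hR : IsPGroup p R)
    {N : Subgroup R} [N.Normal] (h : Nat.card N ≤ p ^ 2) : ⁅N, (⊤ : Subgroup R)⁆ ≤ center R := by
  by_cases hN : N = ⊥
  · rw [hN, commutator_bot_left]; exact bot_le
  refine le_center_of_card_le_prime hR ?_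
  have := (mul_le_card_of_lt hp.out (hR.to_subgroup N) (commutator_top_lt hR hN)).trans h
  rw [sq] at this
  exact Nat.le_of_mul_le_mul_left this hp.out.pos

/-- With at most `p ^ 2` solutions of `x ^ p = 1`, elements with the same `p`-th power of order
dividing `p` differ by a solution. -/
theorem pow_mul_inv_eq_one_aux (hp3 : 3 < p) (n : ℕ) :
    ∀ {R : Type*} [Group R] [Finite R], Nat.card R ≤ n → IsPGroup p R → HasSmallOmega p R →
      ∀ a b : R, a ^ p = b ^ p → (a ^ p) ^ p = 1 → (a * b⁻¹) ^ p = 1 := by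
  induction n using Nat.strong_induction_on with
  | _ n ih =>
  intro R _ _ hn hR hsm a b hab hap
  have hsub : ∀ H : Subgroup R, H ≠ ⊤ → ∀ x ∈ H, ∀ y ∈ H, x ^ p = y ^ p → (x ^ p) ^ p = 1 →
      (x * y⁻¹) ^ p = 1 := by
    intro H hH x hx y hy hxy hxp
    have hlt : Nat.card H < n := ((card_le_card_group H).lt_of_ne fun h =>
      hH (eq_top_of_card_eq H h)).trans_le hn
    exact congrArg Subtype.val (ih _ hlt le_rfl (hR.to_subgroup H) (hsm.to_subgroup H)
      (⟨x, hx⟩ : H) ⟨y, hy⟩ (Subtype.ext hxy) (Subtype.ext hxp))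
  by_cases htop : closure ({a, b} : Set R) = ⊤
  swap
  · exact hsub _ htop a (subset_closure (by simp)) b (subset_closure (by simp)) hab hap
  by_cases hatop : zpowers a = ⊤
  · have hc : Commute a b := by
      obtain ⟨k, hk⟩ := mem_zpowers_iff.mp (hatop.ge (mem_top b))
      rw [← hk]; exact Commute.self_zpow a k
    rw [hc.inv_right.mul_pow, inv_pow, ← hab, mul_inv_cancel]
  -- `a ^ p` is central
  have hc : a ^ p ∈ center R := by
    have : closure ({a, b} : Set R) ≤ centralizer {a ^ p} := (closure_le _).mpr (by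
      rintro g (rfl | rfl)
      · exact mem_centralizer_singleton_iff.mpr ((Commute.refl g).pow_right p).eq
      · refine mem_centralizer_singleton_iff.mpr ?_
        rw [hab]
        exact ((Commute.refl g).pow_right p).eq)
    rw [htop] at this
    exact mem_center_iff.mpr fun g => mem_centralizer_singleton_iff.mp (this (mem_top g))
  obtain ⟨M, haM, hMn, hMidx⟩ := PGroup.exists_le_index_eq_prime hR hatop
  have hMne : M ≠ ⊤ := fun h => by rw [h, index_top] at hMidx; exact hp.out.ne_one hMidx.symm
  have hr := hsm.prankLE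
  set U := omegaRankTwo hp3 hR hr with hU
  have hgU : ∀ g : R, ⁅g, a⁆ ∈ U := by
    intro g
    have ha' : (g * a * g⁻¹) ^ p = a ^ p := by
      rw [conj_pow, mem_center_iff.mp hc g, mul_inv_cancel_right]
    rw [hU, mem_omegaRankTwo, commutatorElement_def]
    exact hsub M hMne _ (hMn.conj_mem a (haM (mem_zpowers a)) g) a (haM (mem_zpowers a)) ha'
      (by rw [ha']; exact hap)
  have hUn : U.Normal := by
    have := omegaRankTwo_characteristic hp3 hR hr
    infer_instance
  have hUc : ⁅U, (⊤ : Subgroup R)⁆ ≤ center R := commutator_le_center_of_card_le_sq hR hsm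
  have hy : ⁅b⁻¹, a⁆ ^ p = 1 := hgU b⁻¹
  have h := PGroup.mul_pow_prime_classThree hp.out hp3 (x := a) (y := b⁻¹)
    (hUc (commutator_mem_commutator (hgU _) (mem_top a)))
    (hUc (commutator_mem_commutator (hgU _) (mem_top b⁻¹))) hy
  rw [h, inv_pow, ← hab, mul_inv_cancel]

theorem pow_mul_inv_eq_one {R : Type*} [Group R] [Finite R] (hp3 : 3 < p) (hR : IsPGroup p R)
    (hsm : HasSmallOmega p R) {a b : R} (hab : a ^ p = b ^ p) (hap : (a ^ p) ^ p = 1) :
    (a * b⁻¹) ^ p = 1 :=
  pow_mul_inv_eq_one_aux hp3 _ le_rfl hR hsm a b hab hap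

/-- A group generated by two elements has its derived group in any normal subgroup containing
their commutator. -/
theorem commutator_le_of_gen {R : Type*} [Group R] {N : Subgroup R} [N.Normal] {S : Set R}
    (hS : closure S = ⊤) (hc : ∀ a ∈ S, ∀ b ∈ S, ⁅a, b⁆ ∈ N) : commutator R ≤ N := by
  have h := isMulCommutative_closure_of_comm (S := QuotientGroup.mk' N '' S) (by
    rintro _ ⟨a, ha, rfl⟩ _ ⟨b, hb, rfl⟩
    rw [← commutatorElement_eq_one_iff_mul_comm, ← map_commutatorElement]
    exact (QuotientGroup.eq_one_iff _).mpr (hc a ha b hb))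
  have htop : ∀ u : R, QuotientGroup.mk' N u ∈ closure (QuotientGroup.mk' N '' S) := fun u => by
    rw [← MonoidHom.map_closure]
    exact mem_map_of_mem _ (hS.ge (mem_top u))
  rw [_root_.commutator_def, commutator_le]
  intro u _ v _
  rw [← QuotientGroup.eq_one_iff]
  show QuotientGroup.mk' N ⁅u, v⁆ = 1
  rw [map_commutatorElement, commutatorElement_eq_one_iff_mul_comm]
  exact congrArg Subtype.val (h.is_comm.comm (⟨_, htop u⟩ : closure (QuotientGroup.mk' N '' S)) ⟨_, htop v⟩)

/-- Two `p`-th powers in a group of class three: the power map, given commutators of exponent `p`. -/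
theorem pow_mul_of_commutator {R : Type*} [Group R] (hp3 : 3 < p) {N : Subgroup R}
    (hD : commutator R ≤ N) (hexp : ∀ x ∈ N, x ^ p = 1) (hc : ⁅N, (⊤ : Subgroup R)⁆ ≤ center R)
    (x y : R) : (x * y) ^ p = x ^ p * y ^ p :=
  PGroup.mul_pow_prime_classThree hp.out hp3
    (hc (commutator_mem_commutator (hD (PGroup.commutatorElement_mem_commutator _ _)) (mem_top x)))
    (hc (commutator_mem_commutator (hD (PGroup.commutatorElement_mem_commutator _ _)) (mem_top y)))
    (hexp _ (hD (PGroup.commutatorElement_mem_commutator _ _)))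

/-- Then the `p`-th powers are central. -/
theorem pow_mem_center_of_commutator {R : Type*} [Group R] (hp3 : 3 < p) {N : Subgroup R}
    (hD : commutator R ≤ N) (hexp : ∀ x ∈ N, x ^ p = 1) (hc : ⁅N, (⊤ : Subgroup R)⁆ ≤ center R)
    (x : R) : x ^ p ∈ center R := by
  refine mem_center_iff.mpr fun g => ?_
  have h : (g * x * g⁻¹) ^ p = x ^ p := by
    rw [show g * x * g⁻¹ = ⁅g, x⁆ * x by rw [commutatorElement_def]; group,
      pow_mul_of_commutator hp3 hD hexp hc, hexp _ (hD (PGroup.commutatorElement_mem_commutator _ _)),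
      one_mul]
  rw [conj_pow, mul_inv_eq_iff_eq_mul] at h
  exact h

variable {A : Type*} [Group A] [Finite A]

/-- The operator group maps onto quotients by invariant subgroups. -/
def quotientAction {R : Type*} [Group R] (φ : A →* MulAut R) (U : Subgroup R) [U.Characteristic] :
    A →* MulAut (R ⧸ U) where
  toFun a := QuotientGroup.congr U U (φ a) (characteristic_iff_map_eq.mp ‹_› (φ a))
  map_one' := MulEquiv.ext fun q => by
    induction q using QuotientGroup.induction_on with
    | H u => show (QuotientGroup.mk ((φ 1) u) : R ⧸ U) = _; rw [map_one]; rfl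
  map_mul' a b := MulEquiv.ext fun q => by
    induction q using QuotientGroup.induction_on with
    | H u => show (QuotientGroup.mk ((φ (a * b)) u) : R ⧸ U) = _; rw [map_mul]; rfl

/-- A generated group with at most `p ^ 2` solutions of `x ^ p = 1` is abelian. -/
theorem commute_of_smallOmega_aux (hp3 : 3 < p) (hcop : (Nat.card A).Coprime p) (n : ℕ) :
    ∀ {R : Type*} [Group R] [Finite R], Nat.card R ≤ n → IsPGroup p R → HasSmallOmega p R →
      ∀ φ : A →* MulAut R, closure {z | ∃ a v, z = φ a v * v⁻¹} = ⊤ →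
        ∀ u v : R, u * v = v * u := by
  induction n using Nat.strong_induction_on with
  | _ n ih =>
  intro R _ _ hn hR hsm φ hgen
  classical
  by_cases hcyc : IsCyclic R
  · exact PGroup.mul_comm_of_cyclic
  have hp2 : p ≠ 2 := by omega
  have hr := hsm.prankLE
  set U := omegaRankTwo hp3 hR hr with hU
  have hUchar : U.Characteristic := omegaRankTwo_characteristic hp3 hR hr
  have hUexp : ∀ x ∈ U, x ^ p = 1 := fun x hx => hx
  have hUcard : Nat.card U ≤ p ^ 2 := hsm
  have hUne : U ≠ ⊥ := by
    intro h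
    haveI : Nontrivial R := by
      by_contra hnt
      rw [not_nontrivial_iff_subsingleton] at hnt
      exact hcyc isCyclic_of_subsingleton
    obtain ⟨x, hx1, hx2, hx3⟩ := PGroup.exists_mem_pow_eq_one hR (H := (⊤ : Subgroup R)) top_ne_bot
    exact hx2 (mem_bot.mp (h ▸ (show x ∈ U from hx3)))
  have hlt : Nat.card (R ⧸ U) < n := by
    refine lt_of_lt_of_le ?_ hn
    rw [← index_eq_card, ← U.card_mul_index]
    exact lt_mul_of_one_lt_left (Nat.pos_of_ne_zero index_ne_zero_of_finite)
      (U.one_lt_card_iff_ne_bot.mpr hUne)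
  have hsm' : HasSmallOmega p (R ⧸ U) := by
    refine le_trans (Nat.card_le_card_of_injective (fun q : {q : R ⧸ U // q ^ p = 1} =>
      (⟨(Quotient.out q.1) ^ p, ?_⟩ : U)) ?_) hUcard
    · rw [← QuotientGroup.eq_one_iff, QuotientGroup.mk_pow, QuotientGroup.out_eq']
      exact q.2
    · intro q q' h
      have h1 : (Quotient.out q.1) ^ p = (Quotient.out q'.1) ^ p := congrArg Subtype.val h
      have h2 : (Quotient.out q.1 ^ p) ^ p = 1 := hUexp _ (by
        rw [← QuotientGroup.eq_one_iff, QuotientGroup.mk_pow, QuotientGroup.out_eq']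
        exact q.2)
      have h3 : Quotient.out q.1 * (Quotient.out q'.1)⁻¹ ∈ U := pow_mul_inv_eq_one hp3 hR hsm h1 h2
      rw [← QuotientGroup.eq_one_iff, QuotientGroup.mk_mul, QuotientGroup.mk_inv, QuotientGroup.out_eq',
        QuotientGroup.out_eq', mul_inv_eq_one] at h3
      exact Subtype.ext h3
  have hgen' : closure {z | ∃ a v, z = quotientAction φ U a v * v⁻¹} = ⊤ := by
    rw [eq_top_iff, ← map_top_of_surjective _ (QuotientGroup.mk'_surjective U), ← hgen,
      MonoidHom.map_closure, closure_le]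
    rintro _ ⟨_, ⟨a, v, rfl⟩, rfl⟩
    exact subset_closure ⟨a, QuotientGroup.mk v, rfl⟩
  have hab := ih _ hlt le_rfl (hR.to_quotient U) hsm' _ hgen'
  have hD : commutator R ≤ U := by
    rw [_root_.commutator_def, commutator_le]
    intro u _ v _
    rw [← QuotientGroup.eq_one_iff]
    show QuotientGroup.mk' U ⁅u, v⁆ = 1
    rw [map_commutatorElement, commutatorElement_eq_one_iff_mul_comm]
    exact hab _ _
  have hUc : ⁅U, (⊤ : Subgroup R)⁆ ≤ center R := commutator_le_center_of_card_le_sq hR hUcard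
  let ψ : R →* R := MonoidHom.mk' (fun x => x ^ p) (pow_mul_of_commutator hp3 hD hUexp hUc)
  set P := ψ.range with hP
  have hPc : P ≤ center R := by
    rintro _ ⟨x, rfl⟩
    exact pow_mem_center_of_commutator hp3 hD hUexp hUc x
  have hPn : P.Normal := ⟨fun m hm g => by
    rw [mem_center_iff.mp (hPc hm) g, mul_inv_cancel_right]; exact hm⟩
  have hPidx : P.index ≤ p ^ 2 := by
    have h1 := ψ.ker.card_mul_index
    rw [index_ker, ← hP] at h1
    have h2 : Nat.card P * P.index ≤ Nat.card P * p ^ 2 := by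
      rw [P.card_mul_index, ← h1, mul_comm]
      exact Nat.mul_le_mul_left _ ((card_le_of_le (show ψ.ker ≤ U from fun x hx => hx)).trans hUcard)
    exact Nat.le_of_mul_le_mul_left h2 Nat.card_pos
  have hPfrat : P ≤ frattini R := by
    rintro _ ⟨x, rfl⟩
    exact PGroup.pow_mem_frattini hR x
  have hgenP : ∀ a b : R, a ∉ P → b ∉ P ⊔ zpowers a → closure ({a, b} : Set R) = ⊤ := by
    intro a b ha hb
    refine frattini_nongenerating (eq_top_iff.mpr ?_)
    have h1 : p * (p * Nat.card P) ≤ Nat.card ↥(P ⊔ zpowers a ⊔ zpowers b) :=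
      (Nat.mul_le_mul_left _ (mul_le_card_of_lt hp.out (hR.to_subgroup _)
        (lt_of_le_of_ne (le_sup_left : P ≤ P ⊔ zpowers a) fun h => ha (h ▸ mem_sup_right (mem_zpowers a))))).trans
        (mul_le_card_of_lt hp.out (hR.to_subgroup _)
          (lt_of_le_of_ne le_sup_left fun h => hb (h ▸ mem_sup_right (mem_zpowers b))))
    have h2 : Nat.card R ≤ p * (p * Nat.card P) := by
      rw [← P.card_mul_index, ← mul_assoc, mul_comm (Nat.card P), ← sq]
      exact Nat.mul_le_mul_right _ hPidx
    have h3 : P ⊔ zpowers a ⊔ zpowers b = ⊤ :=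
      eq_top_of_le_card _ (h2.trans h1)
    rw [← h3]
    refine sup_le (sup_le (hPfrat.trans le_sup_right) ?_) ?_
    · exact zpowers_le.mpr (mem_sup_left (subset_closure (by simp)))
    · exact zpowers_le.mpr (mem_sup_left (subset_closure (by simp)))
  have hcomp : ∀ a : R, a ∉ P → ∃ b, b ∉ P ⊔ zpowers a := by
    intro a ha
    by_contra h
    push Not at h
    refine hcyc ⟨⟨a, ?_⟩⟩
    have h1 : zpowers a = ⊤ := frattini_nongenerating (eq_top_iff.mpr fun g _ =>
      (sup_le (hPfrat.trans le_sup_right) le_sup_left : P ⊔ zpowers a ≤ zpowers a ⊔ frattini R) (h g))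
    intro g
    exact h1.ge (mem_top g)
  obtain ⟨a₀, ha₀⟩ : ∃ a, a ∉ P := by
    by_contra h
    push Not at h
    refine hcyc ?_
    have hab' : ∀ a b : R, a * b = b * a := fun a b => mem_center_iff.mp (hPc (h b)) a
    have hF : frattini R = ⊤ := top_le_iff.mp fun g _ => hPfrat (h g)
    exact PGroup.isCyclic_of_index_frattini_le hR (by rw [hF, index_top]; exact hp.out.one_lt.le)
  obtain ⟨b₀, hb₀⟩ := hcomp a₀ ha₀
  have hgen₀ := hgenP a₀ b₀ ha₀ hb₀
  have hDP : commutator R ≤ P := by
    rw [_root_.commutator_def, commutator_le]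
    intro u _ v _
    rw [← QuotientGroup.eq_one_iff]
    show QuotientGroup.mk' P ⁅u, v⁆ = 1
    rw [map_commutatorElement, commutatorElement_eq_one_iff_mul_comm]
    obtain ⟨k, hk⟩ := hR.index P
    have hk2 : k ≤ 2 := (Nat.pow_le_pow_iff_right hp.out.one_lt).mp (hk ▸ hPidx)
    rcases k with _ | _ | _ | k
    · have : Subsingleton (R ⧸ P) := (Nat.card_eq_one_iff_unique.mp (by rw [← index_eq_card, hk, pow_zero])).1
      exact Subsingleton.elim _ _
    · exact PGroup.commute_of_card_prime (p := p) (by rw [← index_eq_card, hk, pow_one]) _ _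
    · have := IsPGroup.commutative_of_card_eq_prime_sq (p := p) (G := R ⧸ P) (by rw [← index_eq_card, hk])
      exact this _ _
    · omega
  set w := ⁅a₀, b₀⁆ with hw
  have hwc : w ∈ center R := hPc (hDP (PGroup.commutatorElement_mem_commutator _ _))
  have hwn : (zpowers w).Normal := ⟨fun m hm g => by
    rw [mem_center_iff.mp (zpowers_le.mpr hwc hm) g, mul_inv_cancel_right]; exact hm⟩
  have hDw : commutator R ≤ zpowers w := by
    refine commutator_le_of_gen hgen₀ ?_
    rintro x (rfl | rfl) y (rfl | rfl)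
    · simp
    · exact mem_zpowers _
    · rw [← commutatorElement_inv]; exact inv_mem (mem_zpowers _)
    · simp
  by_cases hw1 : w = 1
  · intro u v
    have := hDw (PGroup.commutatorElement_mem_commutator u v)
    rw [hw1, zpowers_one_eq_bot, mem_bot] at this
    exact commutatorElement_eq_one_iff_mul_comm.mp this
  -- the deepest root of `w`
  have hex : ∃ j, ∀ u : R, u ^ p ^ j ≠ w := by
    obtain ⟨k, hk⟩ := IsPGroup.iff_card.mp hR
    exact ⟨k, fun u hu => hw1 (by rw [← hu, ← hk, pow_card_eq_one'])⟩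
  have hj0 : Nat.find hex ≠ 0 := fun h => (Nat.find_spec hex) w (by rw [h, pow_zero, pow_one])
  obtain ⟨j, hj⟩ : ∃ j, Nat.find hex = j + 1 := ⟨Nat.find hex - 1, by omega⟩
  obtain ⟨x, hx⟩ : ∃ u : R, u ^ p ^ j = w := by
    have := Nat.find_min hex (show j < Nat.find hex by omega)
    push Not at this
    exact this
  have hxP : x ∉ P := by
    rintro ⟨u, hu⟩
    refine (hj ▸ Nat.find_spec hex : ∀ u : R, u ^ p ^ (j + 1) ≠ w) u ?_
    rw [pow_succ', pow_mul, show u ^ p = x from hu, hx]
  obtain ⟨y, hy⟩ := hcomp x hxP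
  refine commute_of_metacyclic_gen hp2 hR φ hcop hgen (hgenP x y hxP hy)
    (hDw.trans (zpowers_le.mpr ?_))
  rw [← hx]
  exact pow_mem (mem_zpowers x) _

/-- A cyclic invariant normal subgroup of a generated group is central. -/
theorem le_center_of_isCyclic {R : Type*} [Group R] [Finite R] (φ : A →* MulAut R)
    (hgen : closure {z | ∃ a v, z = φ a v * v⁻¹} = ⊤) (C : Subgroup R) [C.Normal] [IsCyclic C]
    (hC : ∀ a, ∀ c ∈ C, φ a c ∈ C) : C ≤ center R := by
  have hact : ∀ f g : MulAut R, (∀ c ∈ C, f c ∈ C) → (∀ c ∈ C, g c ∈ C) →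
      ∀ c ∈ C, f (g c) = g (f c) := by
    intro f g hf hg c hc
    let res : ∀ h : MulAut R, (∀ c ∈ C, h c ∈ C) → (C →* C) := fun h hh =>
      { toFun := fun d => ⟨h d, hh d d.2⟩
        map_one' := Subtype.ext (map_one h)
        map_mul' := fun a b => Subtype.ext (map_mul h _ _) }
    obtain ⟨m, hm⟩ := MonoidHom.map_cyclic (res f hf)
    obtain ⟨n, hn⟩ := MonoidHom.map_cyclic (res g hg)
    have hm' : ∀ d ∈ C, f d = d ^ m := fun d hd => by
      simpa [res] using congrArg Subtype.val (hm ⟨d, hd⟩)
    have hn' : ∀ d ∈ C, g d = d ^ n := fun d hd => by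
      simpa [res] using congrArg Subtype.val (hn ⟨d, hd⟩)
    rw [hn' c hc, map_zpow, hm' c hc, hn' _ (zpow_mem hc m)]
  have hle : closure {z | ∃ a v, z = φ a v * v⁻¹} ≤ centralizer (C : Set R) := by
    rw [closure_le]
    rintro _ ⟨a, v, rfl⟩
    refine mem_centralizer_iff.mpr fun c hc => ?_
    have hconj : ∀ c ∈ C, MulAut.conj v⁻¹ c ∈ C := fun c hc => ‹C.Normal›.conj_mem c hc v⁻¹
    have hc' : (φ a).symm c ∈ C := by
      have := hC a⁻¹ c hc
      rwa [map_inv] at this
    have h4 := hact (φ a) (MulAut.conj v⁻¹) (hC a) hconj _ hc'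
    simp at h4
    calc c * (φ a v * v⁻¹) = φ a v * ((φ a v)⁻¹ * c * φ a v) * v⁻¹ := by group
      _ = φ a v * (v⁻¹ * c * v) * v⁻¹ := by rw [h4]
      _ = φ a v * v⁻¹ * c := by group
  rw [hgen] at hle
  intro c hc
  exact mem_center_iff.mpr fun g => (mem_centralizer_iff.mp (hle (mem_top g)) c hc).symm

end Cfsg.Agent.OddLocal43
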