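import Cfsg.Agent.OddLocal43.OddFixedPointFree
import Cfsg.Agent.OddLocal43.RankTwoStructure
import Cfsg.Agent.OddLocal43.NilpotentAction
import Cfsg.Agent.BGUniq.FittingOf

/-!
# BG 3.8: a fixed-point-free prime action on the Fitting subgroup

If `R` of prime order acts coprimely on a solvable group `K` of odd order without fixed points on `F(K)`,
then `[K, R] ≤ F(K)`.
-/

set_option autoImplicit false

namespace Cfsg.Agent.OddLocal43

open Subgroup
open scoped commutatorElement

universe u

variable {G : Type u} [Group G] [Finite G]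

/-- A group fixed-point-free on a normal `p`-subgroup `P` and normalizing a `q`-group `Q` gives
`[Q, R] ≤ C(P)`. -/
theorem commutator_le_centralizer_of_fpf_pgroup {p q r : ℕ} [hp : Fact p.Prime] [hq : Fact q.Prime]
    (hr : r.Prime) (hpq : p ≠ q) (hpr : p ≠ r) (hqr : q ≠ r) (hq2 : q ≠ 2) {P Q R : Subgroup G}
    [P.Normal] (hP : IsPGroup p P) (hQ : IsPGroup q Q) (hR : Nat.card R = r)
    (hRQ : R ≤ normalizer (Q : Set G)) (hfix : P ⊓ centralizer (R : Set G) = ⊥) :
    ⁅Q, R⁆ ≤ centralizer (P : Set G) := by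
  haveI : (frattini P).Characteristic := frattini_characteristic
  let φ : G →* MulAut (P ⧸ frattini P) := quotientAction MulAut.conjNormal (frattini P)
  have hφ : ∀ (g : G) (u : P), φ g (QuotientGroup.mk u) =
      (QuotientGroup.mk (MulAut.conjNormal g u) : P ⧸ frattini P) := fun _ _ => rfl
  have hΦn : P ≤ normalizer ((frattini P).map P.subtype : Set G) :=
    le_normalizer.trans (normalizes_map_characteristic (frattini P))
  have hPn : normalizer (P : Set G) = ⊤ := normalizer_eq_top_iff.mpr inferInstance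
  have hker : ⁅Q, R⁆ ≤ φ.ker := by
    rw [commutator_le]
    intro u hu x hx
    by_cases hx1 : x = 1
    · simp [hx1]
    haveI := Fact.mk hr
    have hxr : x ^ r = 1 := hR ▸ congrArg Subtype.val (pow_card_eq_one' (x := (⟨x, hx⟩ : R)))
    have hxgen : zpowers x = R := eq_of_le_of_card_ge (zpowers_le.mpr hx) (by
      rw [Nat.card_zpowers, hR, orderOf_eq_prime hxr hx1])
    have hcomm := autCommute_of_fixedPointFree_odd (ℓ := p) (q := q) hr hpq hpr hqr hq2
      (fun a b => PGroup.quotient_frattini_commute hP a b) (fun a => PGroup.quotient_frattini_pow hP a)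
      hQ (φ.comp Q.subtype) (φ x) (by rw [← map_pow, hxr, map_one])
      (fun v hv => by
        induction v using QuotientGroup.induction_on with
        | H w =>
          rw [hφ] at hv
          have h1 : ∀ a ∈ R, a * w * a⁻¹ * (w : G)⁻¹ ∈ (frattini P).map P.subtype := by
            intro a ha
            have h2 : φ a (QuotientGroup.mk w : P ⧸ frattini P) = QuotientGroup.mk w := by
              rw [← hxgen] at ha
              obtain ⟨i, rfl⟩ := mem_zpowers_iff.mp ha
              have hx' : φ x ∈ MulAction.stabilizer (MulAut (P ⧸ frattini P))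
                  (QuotientGroup.mk w : P ⧸ frattini P) := hv
              rw [map_zpow]
              exact zpow_mem hx' i
            refine ⟨MulAut.conjNormal a w * w⁻¹, ?_, by simp⟩
            rw [SetLike.mem_coe, ← QuotientGroup.eq_one_iff, QuotientGroup.mk_mul, QuotientGroup.mk_inv,
              ← hφ, h2, mul_inv_cancel]
          have hRn : R ≤ normalizer ((frattini P).map P.subtype : Set G) :=
            (hPn.ge.trans' le_top).trans (normalizes_map_characteristic (frattini P))
          obtain ⟨n, ⟨n', hn', rfl⟩, hn⟩ := Coprime.exists_fixed_in_coset_of_normal R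
            ((frattini P).map P.subtype) hRn (by
              rw [hR, card_map_of_injective P.subtype_injective]
              obtain ⟨k, hk⟩ := IsPGroup.iff_card.mp (hP.to_subgroup (frattini P))
              rw [hk]
              exact ((Nat.coprime_primes hr hp.out).mpr hpr.symm).pow_right k)
            (Or.inr (Coprime.isSolvable_of_isNilpotent' ((hP.to_subgroup (frattini P)).map P.subtype).isNilpotent))
            w (hΦn w.2) h1
          have h3 : (w : G) * n' ∈ P ⊓ centralizer (R : Set G) := mem_inf.mpr ⟨mul_mem w.2 n'.2, hn⟩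
          rw [hfix, mem_bot] at h3
          refine (QuotientGroup.eq_one_iff w).mpr ?_
          rw [show w = n'⁻¹ from eq_inv_of_mul_eq_one_left (Subtype.ext h3)]
          exact inv_mem hn')
      (fun v => ⟨⟨x * v * x⁻¹, (mem_normalizer_iff.mp (hRQ hx) v).mp v.2⟩, by simp⟩) ⟨u, hu⟩
    rw [MonoidHom.mem_ker, map_commutatorElement, commutatorElement_eq_one_iff_mul_comm]
    exact hcomm.symm
  refine Coprime.le_centralizer_of_frattini ⁅Q, R⁆ P (hPn.ge.trans' le_top) ?_ ?_
  · obtain ⟨k, hk⟩ := IsPGroup.iff_card.mp (hQ.to_le (commutator_le_of_normalizes hRQ))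
    obtain ⟨j, hj⟩ := IsPGroup.iff_card.mp (hP.to_subgroup (frattini P))
    rw [hk, hj]
    exact ((Nat.coprime_primes hq.out hp.out).mpr hpq.symm).pow k j
  · intro a ha w hw
    refine ⟨MulAut.conjNormal a ⟨w, hw⟩ * (⟨w, hw⟩ : P)⁻¹, ?_, by simp⟩
    rw [SetLike.mem_coe, ← QuotientGroup.eq_one_iff, QuotientGroup.mk_mul, QuotientGroup.mk_inv, ← hφ,
      MonoidHom.mem_ker.mp (hker ha), MulAut.one_apply, mul_inv_cancel]

/-- BG 3.8 for an action of prime order. -/
theorem commutator_le_fittingOf_of_fpf {r : ℕ} (hr : r.Prime) (hodd : Odd (Nat.card G))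
    (K R : Subgroup G) [K.Normal] (hsolv : Group.IsSolvable K) (hR : Nat.card R = r)
    (hcop : (Nat.card K).Coprime r) (hF : Cfsg.fittingOf K ⊓ centralizer (R : Set G) = ⊥) :
    ⁅K, R⁆ ≤ Cfsg.fittingOf K := by
  set F := Cfsg.fittingOf K with hFdef
  haveI : F.Normal := Thompson.map_subtype_normal_of_characteristic K _
  have hFK : F ≤ K := BGUniq.fittingOf_le K
  set π := QuotientGroup.mk' F with hπ
  set Kb := K.map π with hKb
  haveI : Kb.Normal := (inferInstance : K.Normal).map π (QuotientGroup.mk'_surjective F)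
  haveI hKbs : Group.IsSolvable Kb :=
    haveI := hsolv
    Group.isSolvable_of_surjective (f := π.subgroupMap K) (π.subgroupMap_surjective K)
  have hcopR : ∀ H : Subgroup G, H ≤ K → (Nat.card R).Coprime (Nat.card H) := fun H hH =>
    hR.symm ▸ (hcop.coprime_dvd_left (card_dvd_of_le hH)).symm
  have hne2 : ∀ q : ℕ, q.Prime → ∀ H : Subgroup G, q ∣ Nat.card H → q ≠ 2 := by
    rintro q - H hd rfl
    exact (hodd.of_dvd_nat (hd.trans (card_subgroup_dvd_card H))).not_two_dvd_nat dvd_rfl
  have hcentral : ∀ q : ℕ, q.Prime → BGUniq.core q Kb ≤ centralizer (R.map π : Set (G ⧸ F)) := by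
    intro q hq
    haveI := Fact.mk hq
    set L := (BGUniq.core q Kb).comap π with hL
    haveI : (BGUniq.core q Kb).Normal := by
      haveI : (Cfsg.pCore q Kb).Characteristic := inferInstance
      exact Thompson.map_subtype_normal_of_characteristic Kb _
    haveI : L.Normal := inferInstance
    have hLK : L ≤ K := by
      intro x hx
      obtain ⟨y, hy, hxy⟩ := BGUniq.core_le q Kb (show π x ∈ BGUniq.core q Kb from hx)
      rw [hπ, QuotientGroup.mk'_apply, QuotientGroup.mk'_apply, QuotientGroup.eq] at hxy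
      simpa using mul_mem hy (hFK hxy)
    have hRL : R ≤ normalizer (L : Set G) := by rw [normalizer_eq_top_iff.mpr inferInstance]; exact le_top
    obtain ⟨S, hS⟩ := Coprime.exists_invariant_sylow R L hRL (hcopR L hLK)
      (Or.inr (Coprime.solvable_of_le hLK hsolv)) q
    set Q := (S : Subgroup L).map L.subtype with hQ
    have hQq : IsPGroup q Q := S.isPGroup'.map _
    have hQL : Q ≤ L := map_subtype_le _
    -- `[Q, R]` centralizes the other primary parts of `F`
    have hQR : ∀ p : ℕ, p.Prime → p ≠ q → ⁅Q, R⁆ ≤ centralizer (BGUniq.core p K : Set G) := by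
      intro p hp hpq
      haveI := Fact.mk hp
      haveI : (BGUniq.core p K).Normal := by
        haveI : (Cfsg.pCore p K).Characteristic := inferInstance
        exact Thompson.map_subtype_normal_of_characteristic K _
      by_cases hP : BGUniq.core p K = ⊥
      · rw [hP]
        exact fun x _ => mem_centralizer_iff.mpr fun y hy => by rw [mem_bot.mp hy, one_mul, mul_one]
      by_cases hQ1 : Q = ⊥
      · rw [hQ1, commutator_bot_left]; exact bot_le
      have hdvd : ∀ (ℓ : ℕ) [Fact ℓ.Prime] (H : Subgroup G), IsPGroup ℓ H → H ≠ ⊥ → ℓ ∣ Nat.card H := by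
        intro ℓ _ H hH hH1
        obtain ⟨j, hj⟩ := IsPGroup.iff_card.mp hH
        rcases j with _ | j
        · exact absurd (eq_bot_of_card_eq _ (hj.trans (pow_zero ℓ))) hH1
        · exact hj ▸ dvd_pow_self ℓ j.succ_ne_zero
      have hpd := hdvd p _ (BGUniq.isPGroup_core p K) hP
      have hqd := hdvd q Q hQq hQ1
      refine commutator_le_centralizer_of_fpf_pgroup hr hpq ?_ ?_ (hne2 q hq Q hqd)
        (BGUniq.isPGroup_core p K) hQq hR hS
        (le_bot_iff.mp ((inf_le_inf_right _ (BGUniq.core_le_fittingOf p K)).trans hF.le))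
      · rintro rfl
        exact hp.ne_one (Nat.eq_one_of_dvd_coprimes hcop
          (hpd.trans (card_dvd_of_le (BGUniq.core_le p K))) dvd_rfl)
      · rintro rfl
        exact hq.ne_one (Nat.eq_one_of_dvd_coprimes hcop (hqd.trans (card_dvd_of_le (hQL.trans hLK))) dvd_rfl)
    -- so it lies in a nilpotent normal subgroup
    set D : Subgroup G := ⨆ (p : ℕ) (_ : p.Prime) (_ : p ≠ q), BGUniq.core p K with hD
    haveI : D.Normal := by
      refine normalizer_eq_top_iff.mp (eq_top_iff.mpr fun g _ => ?_)
      rw [mem_normalizer_iff_map_conj_eq, hD]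
      simp only [Subgroup.map_iSup]
      refine iSup_congr fun p => iSup_congr fun _ => iSup_congr fun _ => ?_
      haveI : (Cfsg.pCore p K).Characteristic := inferInstance
      haveI : (BGUniq.core p K).Normal := Thompson.map_subtype_normal_of_characteristic K _
      exact mem_normalizer_iff_map_conj_eq.mp ((normalizer_eq_top_iff.mpr ‹_›).ge (mem_top g))
    haveI : (centralizer (D : Set G)).Normal := normal_centralizer
    set C := L ⊓ centralizer (D : Set G) with hC
    haveI : C.Normal := normal_inf_normal _ _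
    have hQRC : ⁅Q, R⁆ ≤ C := by
      refine le_inf ((commutator_le_of_normalizes hS).trans hQL) (le_centralizer_symm ?_)
      exact iSup_le fun p => iSup_le fun hp => iSup_le fun hpq => le_centralizer_symm (hQR p hp hpq)
    have hFD : F ≤ BGUniq.core q K ⊔ D := BGUniq.fittingOf_le_of_core_le fun p hp => by
      by_cases hpq : p = q
      · subst hpq; exact le_sup_left
      · refine le_trans ?_ (le_sup_right : D ≤ _)
        exact le_iSup_of_le p (by simp [hp, hpq])
    have hqD : ∀ a ∈ BGUniq.core q K, ∀ b ∈ D, Commute a b := by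
      have h : D ≤ centralizer (BGUniq.core q K : Set G) :=
        iSup_le fun p => iSup_le fun hp => iSup_le fun hpq => fun b hb => mem_centralizer_iff.mpr fun a ha => by
          haveI := Fact.mk hp
          exact BGUniq.core_commute (Ne.symm hpq) ha hb
      exact fun a ha b hb => mem_centralizer_iff.mp (h hb) a ha
    have hnil : Group.IsNilpotent C := by
      refine Group.of_quotient_center_nilpotent (IsPGroup.isNilpotent (p := q) ?_)
      intro c
      obtain ⟨c, rfl⟩ := QuotientGroup.mk'_surjective _ c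
      obtain ⟨j, hj⟩ := (BGUniq.isPGroup_core q Kb) ⟨π (c : G), c.2.1⟩
      have hcF : (c : G) ^ q ^ j ∈ F := by
        rw [← QuotientGroup.eq_one_iff, QuotientGroup.mk_pow]
        exact congrArg Subtype.val hj
      obtain ⟨a, ha, b, hb, hab⟩ := mem_sup_of_normal_right.mp (hFD hcF)
      obtain ⟨i, hi⟩ := BGUniq.isPGroup_core q K ⟨a, ha⟩
      refine ⟨j + i, ?_⟩
      rw [← map_pow]
      refine (QuotientGroup.eq_one_iff _).mpr (mem_center_iff.mpr fun d => Subtype.ext ?_)
      have he : ((c ^ q ^ (j + i) : C) : G) = b ^ q ^ i := by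
        rw [coe_pow, pow_add, pow_mul, ← hab, (hqD a ha b hb).mul_pow,
          show a ^ q ^ i = 1 from congrArg Subtype.val hi, one_mul]
      show (d : G) * ((c ^ q ^ (j + i) : C) : G) = ((c ^ q ^ (j + i) : C) : G) * d
      rw [he]
      exact (mem_centralizer_iff.mp d.2.2 _ (pow_mem hb _)).symm
    have hCF : C ≤ F := by
      intro x hx
      refine ⟨⟨x, hLK hx.1⟩, ?_, rfl⟩
      have hCK : C ≤ K := inf_le_left.trans hLK
      haveI := hnil
      exact Fitting.le_fitting (N := C.subgroupOf K) inferInstance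
        (Group.nilpotent_of_mulEquiv (subgroupOfEquivOfLe hCK).symm) hx
    -- hence `R` centralizes the image of `Q`
    have hFQ : L ≤ F ⊔ Q := by
      refine relIndex_eq_one.mp (Nat.eq_one_iff_not_exists_prime_dvd.mpr fun ℓ hℓ hd => ?_)
      have h1 : (F ⊔ Q).relIndex L ∣ F.relIndex L := relIndex_dvd_of_le_left L le_sup_left
      have h2 : (F ⊔ Q).relIndex L ∣ (S : Subgroup L).index := by
        refine (relIndex_dvd_of_le_left L (le_sup_right : Q ≤ F ⊔ Q)).trans (dvd_of_eq ?_)
        rw [relIndex, subgroupOf, hQ, comap_map_eq_self_of_injective L.subtype_injective]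
      have h3 : F.relIndex L = Nat.card (BGUniq.core q Kb) := by
        rw [Thompson.relIndex_eq_card_map_mk', hL, hπ,
          map_comap_eq_self_of_surjective (QuotientGroup.mk'_surjective F)]
      obtain ⟨j, hj⟩ := IsPGroup.iff_card.mp (BGUniq.isPGroup_core q Kb)
      have hℓq : ℓ = q := (Nat.prime_dvd_prime_iff_eq hℓ hq).mp
        (hℓ.dvd_of_dvd_pow ((hd.trans h1).trans (dvd_of_eq (h3.trans hj))))
      rw [hℓq] at hd
      exact S.not_dvd_index (hd.trans h2)
    intro y hy
    obtain ⟨x, rfl⟩ := QuotientGroup.mk'_surjective F y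
    obtain ⟨f, hf, u, hu, rfl⟩ := mem_sup_of_normal_left.mp (hFQ (show x ∈ L from hy))
    refine mem_centralizer_iff.mpr ?_
    rintro _ ⟨a, ha, rfl⟩
    have h1 : π f = 1 := (QuotientGroup.eq_one_iff f).mpr hf
    rw [map_mul, h1, one_mul, eq_comm, ← commutatorElement_eq_one_iff_mul_comm, ← map_commutatorElement]
    exact (QuotientGroup.eq_one_iff _).mpr (hCF (hQRC (commutator_mem_commutator hu ha)))
  -- `R` centralizes the Fitting subgroup of `K / F`, hence all of it
  set Fb := Cfsg.fittingOf Kb with hFb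
  haveI : Fb.Normal := Thompson.map_subtype_normal_of_characteristic Kb _
  have hFbR : Fb ≤ centralizer (R.map π : Set (G ⧸ F)) := BGUniq.fittingOf_le_of_core_le hcentral
  have hRKb : R.map π ≤ normalizer (Kb : Set (G ⧸ F)) := by
    rw [normalizer_eq_top_iff.mpr inferInstance]; exact le_top
  have h1 : ⁅⁅R.map π, Kb⁆, Fb⁆ = ⊥ := by
    refine commutator_commutator_eq_bot_of_rotate ?_ ?_
    · refine le_bot_iff.mp ((commutator_mono (commutator_le_right Kb Fb) le_rfl).trans ?_)
      rw [commutator_eq_bot_iff_le_centralizer.mpr hFbR]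
    · rw [commutator_eq_bot_iff_le_centralizer.mpr hFbR, commutator_bot_left]
  have h2 : ⁅Kb, R.map π⁆ ≤ Fb := by
    refine le_trans (le_inf (commutator_le_of_normalizes hRKb) ?_)
      (BGUniq.inf_centralizer_fittingOf_le hKbs)
    rw [commutator_comm]
    exact commutator_eq_bot_iff_le_centralizer.mp h1
  have h3 : Kb ≤ centralizer (R.map π : Set (G ⧸ F)) :=
    le_centralizer_of_double_commutator hRKb
      (((hcopR K le_rfl).coprime_dvd_left (card_map_dvd _ _)).coprime_dvd_right (card_map_dvd _ _))
      (h2.trans hFbR)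
  rw [commutator_le]
  intro k hk a ha
  rw [← QuotientGroup.eq_one_iff]
  show π ⁅k, a⁆ = 1
  rw [map_commutatorElement, commutatorElement_eq_one_iff_mul_comm]
  exact (mem_centralizer_iff.mp (h3 (mem_map_of_mem π hk)) _ (mem_map_of_mem π ha)).symm

/-- BG 3.8. -/
theorem commutator_le_fittingOf_of_prime_action (hodd : Odd (Nat.card G)) (K R : Subgroup G)
    [K.Normal] (hsolv : Group.IsSolvable K) (hcop : (Nat.card K).Coprime (Nat.card R))
    (hprime : ∀ x ∈ R, x ≠ 1 →
      K ⊓ centralizer ({x} : Set G) = K ⊓ centralizer (R : Set G))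
    (hF : Cfsg.fittingOf K ⊓ centralizer (R : Set G) = ⊥) : ⁅K, R⁆ ≤ Cfsg.fittingOf K := by
  by_cases hR1 : R = ⊥
  · rw [hR1, commutator_bot_right]; exact bot_le
  have hR1' : Nat.card R ≠ 1 := fun h => hR1 (eq_bot_of_card_eq _ h)
  obtain ⟨r, hr, hrd⟩ := Nat.exists_prime_and_dvd hR1'
  haveI := Fact.mk hr
  obtain ⟨x, hx⟩ := exists_prime_orderOf_dvd_card' r hrd
  have hx1 : (x : G) ≠ 1 := fun h => hr.ne_one (by rw [← hx, ← orderOf_coe, h, orderOf_one])
  have hcardx : Nat.card (zpowers (x : G)) = r := by rw [Nat.card_zpowers, orderOf_coe, hx]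
  have hcent : K ⊓ centralizer (zpowers (x : G) : Set G) = K ⊓ centralizer (R : Set G) := by
    rw [zpowers_eq_closure, centralizer_closure, hprime x x.2 hx1]
  have h := commutator_le_fittingOf_of_fpf hr hodd K (zpowers (x : G)) hsolv hcardx
    (hcop.coprime_dvd_right hrd) (by
      rw [eq_bot_iff, ← hF]
      refine le_inf inf_le_left ((inf_le_inf_right _ (BGUniq.fittingOf_le K)).trans ?_)
      rw [hcent]; exact inf_le_right)
  haveI : (Cfsg.fittingOf K).Normal := Thompson.map_subtype_normal_of_characteristic K _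
  have hxK : zpowers (x : G) ≤ normalizer (K : Set G) := by
    rw [normalizer_eq_top_iff.mpr inferInstance]; exact le_top
  have hK : K ≤ Cfsg.fittingOf K ⊔ (K ⊓ centralizer (R : Set G)) := by
    conv_lhs => rw [← Coprime.commutator_sup_centralizer _ K hxK
      (hcardx.symm ▸ (hcop.coprime_dvd_right hrd).symm) (Or.inr hsolv)]
    rw [hcent]
    exact sup_le_sup_right h _
  rw [commutator_le]
  intro k hk a ha
  obtain ⟨f, hf, c, hc, rfl⟩ := mem_sup_of_normal_left.mp (hK hk)
  have hca : a * c = c * a := mem_centralizer_iff.mp hc.2 a ha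
  rw [show ⁅f * c, a⁆ = f * (a * f⁻¹ * a⁻¹) by
    rw [commutatorElement_def, mul_inv_rev]
    calc f * c * a * (c⁻¹ * f⁻¹) * a⁻¹ = f * (c * a) * c⁻¹ * f⁻¹ * a⁻¹ := by group
      _ = f * (a * f⁻¹ * a⁻¹) := by rw [← hca]; group]
  exact mul_mem hf ((inferInstance : (Cfsg.fittingOf K).Normal).conj_mem _ (inv_mem hf) a)

end Cfsg.Agent.OddLocal43
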