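import Cfsg.Agent.OddLocal43.ExtraspecialAction

/-!
# BG 2.5 for groups acting on elementary abelian groups

Base change of an action on an elementary abelian group to an algebraically closed field, and the
resulting bound for a group of prime order acting on a group of symplectic type.
-/

set_option autoImplicit false

namespace Cfsg.Agent.OddLocal43

open Module
open scoped commutatorElement

/-- A non-trivial operator of order `q` invertible in the field has a non-trivial eigenvalue. -/
theorem exists_eigenvalue_ne_one {L : Type*} [Field L] [IsAlgClosed L] {W : Type*} [AddCommGroup W]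
    [Module L W] [FiniteDimensional L W] (A : Module.End L W) {q : ℕ} (hq : (q : L) ≠ 0)
    (hA : A ^ q = 1) (hA1 : A ≠ 1) : ∃ ω : L, ω ≠ 1 ∧ ω ^ q = 1 ∧ A.HasEigenvalue ω := by
  set U := LinearMap.range (A - 1) with hU
  have hinv : ∀ x ∈ U, A x ∈ U := by
    rintro _ ⟨y, rfl⟩
    exact ⟨A y, by simp [map_sub]⟩
  haveI : Nontrivial U := by
    rw [Submodule.nontrivial_iff_ne_bot, hU, Ne, LinearMap.range_eq_bot, sub_eq_zero]
    exact hA1
  obtain ⟨μ, hμ⟩ := Module.End.exists_eigenvalue (A.restrict hinv)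
  obtain ⟨v, hv⟩ := hμ.exists_hasEigenvector
  have hv1 : A (v : W) = μ • (v : W) := congrArg Subtype.val (Module.End.mem_eigenspace_iff.mp hv.1)
  have hv0 : (v : W) ≠ 0 := fun h => hv.2 (Subtype.ext h)
  have hμq : μ ^ q = 1 := by
    have h1 : ∀ i : ℕ, (A ^ i) (v : W) = μ ^ i • (v : W) := by
      intro i
      induction i with
      | zero => simp
      | succ i ih => rw [pow_succ', Module.End.mul_apply, ih, map_smul, hv1, smul_smul, pow_succ]
    have h2 := h1 q
    rw [hA, Module.End.one_apply] at h2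
    have h3 : (μ ^ q - 1) • (v : W) = 0 := by rw [sub_smul, one_smul, ← h2, sub_self]
    exact sub_eq_zero.mp ((smul_eq_zero.mp h3).resolve_right hv0)
  refine ⟨μ, fun hμ1 => hv0 ?_, hμq, Module.End.hasEigenvalue_of_hasEigenvector
    ⟨Module.End.mem_eigenspace_iff.mpr hv1, hv0⟩⟩
  obtain ⟨w, hw⟩ : ∃ w, (A - 1) w = (v : W) := v.2
  rw [hμ1, one_smul] at hv1
  have hAw : ∀ i : ℕ, (A ^ i) w = w + (i : L) • (v : W) := by
    intro i
    induction i with
    | zero => simp
    | succ i ih =>
      have h1 : A w = w + (v : W) := by rw [← hw]; simp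
      rw [pow_succ', Module.End.mul_apply, ih, map_add, map_smul, h1, hv1, Nat.cast_succ, add_smul,
        one_smul]
      abel
  have h2 := hAw q
  rw [hA, Module.End.one_apply, left_eq_add] at h2
  exact (smul_eq_zero.mp h2).resolve_left hq

/-- Automorphisms of an elementary abelian group as matrices over an algebraically closed field. -/
theorem exists_linearization {ℓ : ℕ} [hℓ : Fact ℓ.Prime] (V : Type*) [Group V] [Finite V] [Nontrivial V]
    (hc : ∀ a b : V, a * b = b * a) (he : ∀ v : V, v ^ ℓ = 1) :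
    ∃ (d : ℕ) (e : MulAut V →* Module.End (AlgebraicClosure (ZMod ℓ)) (Fin d → AlgebraicClosure (ZMod ℓ))),
      0 < d ∧ Function.Injective e ∧
        ∀ (τ : MulAut V) (r : ℕ), τ ^ r = 1 → (∀ v, τ v = v → v = 1) →
          ∑ i ∈ Finset.range r, e τ ^ i = 0 := by
  letI : CommGroup V := { ‹Group V› with mul_comm := hc }
  letI : Module (ZMod ℓ) (Additive V) :=
    AddCommGroup.zmodModule (n := ℓ) (G := Additive V) fun v => he v.toMul
  haveI : Module.Finite (ZMod ℓ) (Additive V) := Module.Finite.of_finite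
  set d := Module.finrank (ZMod ℓ) (Additive V) with hd
  let b : Module.Basis (Fin d) (ZMod ℓ) (Additive V) := Module.finBasis (ZMod ℓ) (Additive V)
  let toLin : MulAut V →* Module.End (ZMod ℓ) (Additive V) :=
    { toFun := fun σ => (MonoidHom.toAdditive σ.toMonoidHom).toZModLinearMap ℓ
      map_one' := rfl
      map_mul' := fun σ τ => rfl }
  have hlininj : Function.Injective toLin := fun σ τ h =>
    MulEquiv.ext fun v => Additive.ofMul.injective (LinearMap.congr_fun h (Additive.ofMul v))
  set L := AlgebraicClosure (ZMod ℓ)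
  let cast : Module.End (ZMod ℓ) (Additive V) →+* Module.End L (Fin d → L) :=
    ((Matrix.toLinAlgEquiv' (R := L) (n := Fin d)).toRingEquiv.toRingHom.comp
      (algebraMap (ZMod ℓ) L).mapMatrix).comp (LinearMap.toMatrixAlgEquiv b).toRingEquiv.toRingHom
  have hcinj : Function.Injective cast :=
    (Matrix.toLinAlgEquiv' (R := L) (n := Fin d)).injective.comp
      ((Matrix.map_injective (RingHom.injective (algebraMap (ZMod ℓ) L))).comp (LinearMap.toMatrixAlgEquiv b).injective)
  refine ⟨d, cast.toMonoidHom.comp toLin, Module.finrank_pos, hcinj.comp hlininj, fun τ r hτ hfix => ?_⟩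
  show ∑ i ∈ Finset.range r, cast (toLin τ) ^ i = 0
  simp only [← map_pow, ← map_sum]
  rw [← map_zero cast]
  congr 1
  set S := ∑ i ∈ Finset.range r, toLin (τ ^ i) with hS
  have hτS : toLin τ * S = S := by
    have h1 := mul_geom_sum (toLin τ) r
    rw [← map_pow, hτ, map_one, sub_self, sub_mul, one_mul, sub_eq_zero] at h1
    simpa [hS, map_pow] using h1
  apply LinearMap.ext
  intro v
  have h1 : τ (S v).toMul = (S v).toMul := congrArg Additive.toMul (LinearMap.congr_fun hτS v)
  exact congrArg Additive.ofMul (hfix _ h1)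

/-- BG 2.5 for an action on an elementary abelian group. -/
theorem fermat_prime_of_action {ℓ q r : ℕ} [hℓ : Fact ℓ.Prime] [hq : Fact q.Prime] (hr : r.Prime)
    (hℓq : ℓ ≠ q) (hℓr : ℓ ≠ r) (hqr : q ≠ r)
    {V : Type*} [Group V] [Finite V] (hc : ∀ a b : V, a * b = b * a) (he : ∀ v : V, v ^ ℓ = 1)
    {Q : Type*} [Group Q] [Finite Q] (hQq : IsPGroup q Q) (hcomm : ∀ a b : Q, ⁅a, b⁆ ∈ Subgroup.center Q)
    (hZ : Nat.card (Subgroup.center Q) = q) (hne : Subgroup.center Q ≠ ⊤) (φ : Q →* MulAut V)
    (hφ : ∀ u ∈ Subgroup.center Q, φ u = 1 → u = 1)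
    (σ : MulAut Q) (τ : MulAut V) (hσr : σ ^ r = 1) (hσfix : ∀ u, σ u = u ↔ u ∈ Subgroup.center Q)
    (hτr : τ ^ r = 1) (hτfix : ∀ v, τ v = v → v = 1) (hτσ : ∀ u, τ * φ u = φ (σ u) * τ) :
    q = 2 ∧ ∃ n, r = 2 ^ n + 1 ∧ Nat.card Q = 2 ^ (2 * n + 1) := by
  obtain ⟨z, hz⟩ := exists_prime_orderOf_dvd_card' (G := Subgroup.center Q) q (dvd_of_eq hZ.symm)
  have hz1 : z ≠ 1 := fun h => by rw [h, orderOf_one] at hz; exact hq.out.ne_one hz.symm
  have hzgen : Subgroup.zpowers (z : Q) = Subgroup.center Q :=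
    Subgroup.eq_of_le_of_card_ge (Subgroup.zpowers_le.mpr z.2)
      (by rw [Nat.card_zpowers, Subgroup.orderOf_coe, hz, hZ])
  have hφz : φ (z : Q) ≠ 1 := fun h => hz1 (Subtype.ext (hφ _ z.2 h))
  haveI : Nontrivial V := by
    by_contra hV
    rw [not_nontrivial_iff_subsingleton] at hV
    exact hφz (MulEquiv.ext fun v => Subsingleton.elim _ _)
  obtain ⟨d, e, -, heinj, hesum⟩ := exists_linearization (ℓ := ℓ) V hc he
  set L := AlgebraicClosure (ZMod ℓ)
  haveI : CharP L ℓ := charP_of_injective_algebraMap (algebraMap (ZMod ℓ) L).injective ℓ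
  have hcast : ∀ p : ℕ, p.Prime → ℓ ≠ p → (p : L) ≠ 0 := fun p hp hne h =>
    hne ((Nat.prime_dvd_prime_iff_eq hℓ.out hp).mp ((CharP.cast_eq_zero_iff L ℓ p).mp h))
  set A := e (φ (z : Q)) with hA
  have hzq : (z : Q) ^ q = 1 := by
    rw [← hz, ← Subgroup.coe_pow, pow_orderOf_eq_one]; rfl
  obtain ⟨ω, hω1, hωq, hω⟩ := exists_eigenvalue_ne_one A (hcast q hq.out hℓq)
    (by rw [hA, ← map_pow, ← map_pow, hzq, map_one, map_one])
    (fun h => hφz (heinj (h.trans (map_one e).symm)))
  set W := Module.End.eigenspace A ω with hW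
  haveI : Nontrivial W := Submodule.nontrivial_iff_ne_bot.mpr hω
  have hinv : ∀ B : Module.End L (Fin d → L), A * B = B * A → ∀ x ∈ W, B x ∈ W := by
    intro B hB x hx
    rw [hW, Module.End.mem_eigenspace_iff] at hx ⊢
    rw [← Module.End.mul_apply, hB, Module.End.mul_apply, hx, map_smul]
  have hzc : ∀ u, A * e (φ u) = e (φ u) * A := fun u => by
    rw [hA, ← map_mul, ← map_mul, ← map_mul, ← map_mul, Subgroup.mem_center_iff.mp z.2 u]
  have hTc : A * e τ = e τ * A := by
    rw [hA, ← map_mul, ← map_mul, hτσ, (hσfix _).mpr z.2]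
  let ρ : Q →* Module.End L W :=
    { toFun := fun u => (e (φ u)).restrict (hinv _ (hzc u))
      map_one' := by ext x; simp
      map_mul' := fun a b => by ext x; simp }
  let T : Module.End L W := (e τ).restrict (hinv _ hTc)
  have hTpow : ∀ (i : ℕ) (x : W), ((T ^ i) x : Fin d → L) = (e τ ^ i) x := by
    intro i
    induction i with
    | zero => simp
    | succ i ih =>
      intro x
      rw [pow_succ', pow_succ', Module.End.mul_apply, Module.End.mul_apply, ← ih x]
      rfl
  have hTw : TwistedRep ρ q (z : Q) ω := ⟨fun u => by rw [hzgen], hcomm,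
    by rw [Subgroup.orderOf_coe, hz], by
      apply LinearMap.ext; intro x; apply Subtype.ext
      show A (x : Fin d → L) = _
      rw [Module.End.mem_eigenspace_iff.mp x.2]; rfl,
    orderOf_eq_prime hωq hω1⟩
  refine fermat_prime_of_twistedRep hr (hcast r hr hℓr) ?_ hTw hQq hne σ hσr ?_ T ?_ ?_ ?_
  · obtain ⟨k, hk⟩ := IsPGroup.iff_card.mp hQq
    rw [hk, Nat.cast_pow]
    exact pow_ne_zero k (hcast q hq.out hℓq)
  · intro u hu
    set c := u⁻¹ * σ u with hc'
    have hσc : σ c = c := (hσfix c).mpr hu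
    have hpow : ∀ i : ℕ, (σ ^ i) u = u * c ^ i := by
      intro i
      induction i with
      | zero => simp
      | succ i ih =>
        rw [pow_succ', MulAut.mul_apply, ih, map_mul, map_pow, hσc,
          show σ u = u * c by rw [hc', mul_inv_cancel_left], mul_assoc, ← pow_succ']
    have h1 := hpow r
    rw [hσr, MulAut.one_apply, left_eq_mul] at h1
    have hord : orderOf c ∣ q := hZ ▸ Subgroup.orderOf_dvd_natCard _ hu
    have hc1 : c = 1 := orderOf_eq_one_iff.mp (Nat.eq_one_of_dvd_coprimes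
      ((Nat.coprime_primes hq.out hr).mpr hqr) hord (orderOf_dvd_of_pow_eq_one h1))
    exact (hσfix u).mp (inv_mul_eq_one.mp (hc'.symm.trans hc1)).symm
  · apply LinearMap.ext; intro x; apply Subtype.ext
    rw [hTpow, ← map_pow, hτr, map_one]; rfl
  · intro u
    apply LinearMap.ext; intro x; apply Subtype.ext
    show e τ (e (φ u) x) = e (φ (σ u)) (e τ x)
    rw [← Module.End.mul_apply, ← map_mul, hτσ, map_mul, Module.End.mul_apply]
  · apply LinearMap.ext; intro x; apply Subtype.ext
    rw [LinearMap.sum_apply, Submodule.coe_sum, Finset.sum_congr rfl fun i _ => hTpow i x,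
      ← LinearMap.sum_apply, hesum τ r hτr hτfix]
    rfl

end Cfsg.Agent.OddLocal43
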