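import Mathlib
import Cfsg.Agent.OddLocal43.Coprime

/-!
# A cyclic group of prime order acting on a group of symplectic type, linear form

`Q` is a `q`-group with centre `zpowers z` of order `q` containing all commutators, `ρ` a
representation with `ρ z` a non-trivial scalar, `σ` an automorphism of prime order `r` that is
fixed-point free modulo the centre, and `T` realizes `σ` with zero sum of powers. Then `q = 2`
and `r = 2 ^ n + 1`.
-/

set_option autoImplicit false

namespace Cfsg.Agent.OddLocal43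

open Module
open scoped commutatorElement

section Twisted

variable {L : Type*} [Field L] {Q : Type*} [Group Q] [Finite Q]
variable {W : Type*} [AddCommGroup W] [Module L W]

/-- The commutant of a representation. -/
def commutant (ρ : Q →* Module.End L W) : Submodule L (Module.End L W) where
  carrier := {A | ∀ u, ρ u * A = A * ρ u}
  zero_mem' := fun u => by rw [mul_zero, zero_mul]
  add_mem' := fun {A B} hA hB u => by rw [mul_add, add_mul, hA u, hB u]
  smul_mem' := fun c A hA u => by rw [mul_smul_comm, smul_mul_assoc, hA u]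

/-- The sum of the conjugates of an endomorphism. -/
noncomputable def convAvg [Fintype Q] (ρ : Q →* Module.End L W) (B : Module.End L W) :
    Module.End L W :=
  ∑ v : Q, ρ v * B * ρ v⁻¹

omit [Finite Q] in
theorem convAvg_mem [Fintype Q] (ρ : Q →* Module.End L W) (B : Module.End L W) :
    convAvg ρ B ∈ commutant ρ := by
  intro u
  rw [convAvg, Finset.mul_sum, Finset.sum_mul]
  refine Fintype.sum_equiv (Equiv.mulLeft u) _ _ fun v => ?_
  simp only [Equiv.coe_mulLeft, map_mul, mul_inv_rev, mul_assoc]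
  rw [← map_mul ρ u⁻¹ u, inv_mul_cancel, map_one, mul_one]

omit [Finite Q] in
theorem map_mul_inv_self (ρ : Q →* Module.End L W) (v : Q) : ρ v * ρ v⁻¹ = 1 := by
  rw [← map_mul, mul_inv_cancel, map_one]

/-- The data: a scalar central element generating the centre. -/
structure TwistedRep (ρ : Q →* Module.End L W) (q : ℕ) (z : Q) (ω : L) : Prop where
  gen : ∀ u : Q, u ∈ Subgroup.center Q ↔ u ∈ Subgroup.zpowers z
  comm : ∀ a b : Q, ⁅a, b⁆ ∈ Subgroup.center Q
  ordz : orderOf z = q
  map_z : ρ z = ω • 1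
  prim : orderOf ω = q

variable {ρ : Q →* Module.End L W} {q : ℕ} {z : Q} {ω : L}

theorem TwistedRep.exists_scalar (h : TwistedRep ρ q z ω) {u : Q} (hu : u ∈ Subgroup.center Q) :
    ∃ k : ℕ, u = z ^ k ∧ ρ u = ω ^ k • 1 := by
  obtain ⟨k, rfl⟩ := (mem_powers_iff_mem_zpowers.mpr ((h.gen u).mp hu))
  exact ⟨k, rfl, by rw [map_pow, h.map_z, smul_pow, one_pow]⟩

theorem TwistedRep.scalar_ne_one (h : TwistedRep ρ q z ω) {u : Q} (hu : u ∈ Subgroup.center Q)
    (hu1 : u ≠ 1) : ∃ c : L, c ≠ 1 ∧ ρ u = c • 1 := by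
  obtain ⟨k, rfl, hk⟩ := h.exists_scalar hu
  refine ⟨ω ^ k, fun hk1 => hu1 ?_, hk⟩
  rw [← orderOf_dvd_iff_pow_eq_one, h.ordz, ← h.prim]
  exact orderOf_dvd_of_pow_eq_one hk1

/-- The sum of `ρ ⁅u, v⁆` over `u` vanishes for `v` outside the centre. -/
theorem TwistedRep.sum_comm_eq_zero [Fintype Q] (h : TwistedRep ρ q z ω) {v : Q}
    (hv : v ∉ Subgroup.center Q) : ∑ u : Q, ρ ⁅u, v⁆ = 0 := by
  obtain ⟨u₀, hu₀⟩ : ∃ u₀, ⁅u₀, v⁆ ≠ 1 := by
    by_contra hne
    push Not at hne
    exact hv (Subgroup.mem_center_iff.mpr fun u => commutatorElement_eq_one_iff_mul_comm.mp (hne u))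
  obtain ⟨c, hc, hρ⟩ := h.scalar_ne_one (h.comm u₀ v) hu₀
  have hmul : ∀ u, ⁅u₀ * u, v⁆ = ⁅u₀, v⁆ * ⁅u, v⁆ := fun u => by
    have h1 := Subgroup.mem_center_iff.mp (h.comm u v)
    have h2 : ⁅u₀ * u, v⁆ = u₀ * ⁅u, v⁆ * u₀⁻¹ * ⁅u₀, v⁆ := by
      simp only [commutatorElement_def]; group
    rw [h2, h1 u₀, mul_inv_cancel_right, (h1 _).symm]
  have h1 : (c • (1 : Module.End L W)) * ∑ u : Q, ρ ⁅u, v⁆ = ∑ u : Q, ρ ⁅u, v⁆ := by
    rw [Finset.mul_sum]
    refine Fintype.sum_equiv (Equiv.mulLeft u₀) _ _ fun u => ?_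
    rw [Equiv.coe_mulLeft, hmul, map_mul, hρ]
  rw [smul_mul_assoc, one_mul] at h1
  have h2 : (c - 1) • ∑ u : Q, ρ ⁅u, v⁆ = 0 := by rw [sub_smul, one_smul, h1, sub_self]
  exact (smul_eq_zero.mp h2).resolve_left (sub_ne_zero.mpr hc)

/-- The inversion formula. -/
theorem TwistedRep.sum_mul_convAvg [Fintype Q] (h : TwistedRep ρ q z ω) (A : Module.End L W) :
    ∑ u : Q, ρ u * convAvg ρ (ρ u⁻¹ * A) =
      ((Nat.card Q * Nat.card (Subgroup.center Q) : ℕ) : L) • A := by
  classical
  simp only [convAvg, Finset.mul_sum]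
  rw [Finset.sum_comm]
  have e : ∀ u v, ρ u * (ρ v * (ρ u⁻¹ * A) * ρ v⁻¹) = ρ ⁅u, v⁆ * (ρ v * A * ρ v⁻¹) := by
    intro u v
    simp only [← mul_assoc, ← map_mul]
    rw [show ⁅u, v⁆ * v = u * v * u⁻¹ by rw [commutatorElement_def]; group]
  simp only [e, ← Finset.sum_mul]
  rw [← Finset.sum_filter_add_sum_filter_not Finset.univ (fun v => v ∈ Subgroup.center Q),
    Finset.sum_eq_zero (s := Finset.univ.filter fun v => ¬ v ∈ Subgroup.center Q)
      (fun v hv => by rw [h.sum_comm_eq_zero (Finset.mem_filter.mp hv).2, zero_mul]), add_zero]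
  have e2 : ∀ v ∈ Finset.univ.filter (fun v => v ∈ Subgroup.center Q),
      (∑ u : Q, ρ ⁅u, v⁆) * (ρ v * A * ρ v⁻¹) = (Nat.card Q : L) • A := by
    intro v hv
    have hv' := (Finset.mem_filter.mp hv).2
    obtain ⟨k, -, hk⟩ := h.exists_scalar hv'
    have hA : ρ v * A * ρ v⁻¹ = A := by
      have h2 : ω ^ k • ρ v⁻¹ = 1 := by
        rw [← one_mul (ρ v⁻¹), ← smul_mul_assoc, ← hk, map_mul_inv_self]
      rw [hk, smul_mul_assoc, one_mul, smul_mul_assoc, ← mul_smul_comm, h2, mul_one]
    have h1 : ∀ u : Q, ρ ⁅u, v⁆ = 1 := fun u => by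
      rw [commutatorElement_eq_one_iff_mul_comm.mpr (Subgroup.mem_center_iff.mp hv' u), map_one]
    rw [hA, Finset.sum_congr rfl fun u _ => h1 u, Finset.sum_const, Finset.card_univ, smul_mul_assoc,
      one_mul, ← Nat.card_eq_fintype_card, Nat.cast_smul_eq_nsmul]
  rw [Finset.sum_congr rfl e2, Finset.sum_const, ← Nat.cast_smul_eq_nsmul L, smul_smul, ← Nat.cast_mul,
    mul_comm, ← Fintype.card_subtype, Nat.card_eq_fintype_card (α := Subgroup.center Q)]

/-- Averaging `ρ w * C`. -/
theorem TwistedRep.convAvg_mul [Fintype Q] (h : TwistedRep ρ q z ω) (w : Q) {C : Module.End L W}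
    (hC : C ∈ commutant ρ) :
    (w ∉ Subgroup.center Q → convAvg ρ (ρ w * C) = 0) ∧
      (w = 1 → convAvg ρ (ρ w * C) = (Nat.card Q : L) • C) := by
  have e : ∀ v, ρ v * (ρ w * C) * ρ v⁻¹ = ρ ⁅v, w⁆ * (ρ w * C) := by
    intro v
    calc ρ v * (ρ w * C) * ρ v⁻¹ = ρ v * (ρ w * (C * ρ v⁻¹)) := by simp only [mul_assoc]
      _ = ρ v * (ρ w * (ρ v⁻¹ * C)) := by rw [hC v⁻¹]
      _ = ρ (v * w * v⁻¹) * C := by simp only [map_mul, mul_assoc]
      _ = ρ (⁅v, w⁆ * w) * C := by rw [commutatorElement_def, inv_mul_cancel_right]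
      _ = _ := by rw [map_mul, mul_assoc]
  constructor
  · intro hw
    rw [convAvg, Finset.sum_congr rfl fun v _ => e v, ← Finset.sum_mul, h.sum_comm_eq_zero hw, zero_mul]
  · intro hw
    subst hw
    rw [convAvg, Finset.sum_congr rfl fun v _ => e v]
    simp [Nat.cast_smul_eq_nsmul, ← Nat.card_eq_fintype_card]

/-- `End W` is a free module on the cosets of the centre over the commutant. -/
theorem TwistedRep.finrank_end [FiniteDimensional L W] (h : TwistedRep ρ q z ω)
    (hQ0 : (Nat.card Q : L) ≠ 0) :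
    finrank L (Module.End L W) = (Subgroup.center Q).index * finrank L (commutant ρ) := by
  classical
  cases nonempty_fintype Q
  let Φ : (Q ⧸ Subgroup.center Q → commutant ρ) →ₗ[L] Module.End L W :=
    { toFun := fun f => ∑ a, ρ (Quotient.out a) * (f a : Module.End L W)
      map_add' := fun f g => by simp [mul_add, Finset.sum_add_distrib]
      map_smul' := fun c f => by simp [Finset.smul_sum] }
  have hinj : Function.Injective Φ := by
    rw [injective_iff_map_eq_zero]
    intro f hf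
    funext b
    have h1 : convAvg ρ (ρ (Quotient.out b)⁻¹ * Φ f) = (Nat.card Q : L) • (f b : Module.End L W) := by
      have hlin : ∀ (g : Q ⧸ Subgroup.center Q → Module.End L W),
          convAvg ρ (∑ a, g a) = ∑ a, convAvg ρ (g a) := fun g => by
        simp only [convAvg, Finset.mul_sum, Finset.sum_mul]
        exact Finset.sum_comm
      show convAvg ρ (ρ (Quotient.out b)⁻¹ * ∑ a, ρ (Quotient.out a) * (f a : Module.End L W)) = _
      rw [Finset.mul_sum]
      refine (hlin _).trans ?_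
      rw [Finset.sum_eq_single b]
      · rw [← mul_assoc, ← map_mul]
        exact (h.convAvg_mul _ (f b).2).2 (inv_mul_cancel _)
      · intro a _ hab
        rw [← mul_assoc, ← map_mul]
        refine (h.convAvg_mul _ (f a).2).1 fun hmem => hab ?_
        rw [← QuotientGroup.out_eq' a, ← QuotientGroup.out_eq' b]
        exact (QuotientGroup.eq.mpr hmem).symm
      · simp
    rw [hf, mul_zero] at h1
    simp only [convAvg, mul_zero, zero_mul, Finset.sum_const_zero] at h1
    exact Subtype.ext ((smul_eq_zero.mp h1.symm).resolve_left hQ0)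
  have hsurj : LinearMap.range Φ = ⊤ := by
    rw [eq_top_iff]
    intro A _
    have hne : ((Nat.card Q * Nat.card (Subgroup.center Q) : ℕ) : L) ≠ 0 := by
      rw [Nat.cast_mul]
      refine mul_ne_zero hQ0 fun h0 => hQ0 ?_
      rw [← (Subgroup.center Q).card_mul_index, Nat.cast_mul, h0, zero_mul]
    rw [← Submodule.smul_mem_iff (LinearMap.range Φ) hne, ← h.sum_mul_convAvg A]
    refine Submodule.sum_mem _ fun u _ => ?_
    obtain ⟨k, -, hk⟩ := h.exists_scalar (u := (Quotient.out (QuotientGroup.mk u : Q ⧸ Subgroup.center Q))⁻¹ * u)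
      (QuotientGroup.eq.mp (QuotientGroup.out_eq' _))
    refine ⟨Pi.single (QuotientGroup.mk u) (ω ^ k • ⟨_, convAvg_mem ρ (ρ u⁻¹ * A)⟩), ?_⟩
    show ∑ a, ρ (Quotient.out a) * _ = _
    refine (Finset.sum_eq_single (QuotientGroup.mk u : Q ⧸ Subgroup.center Q) (fun a _ ha => ?_)
      (fun h' => absurd (Finset.mem_univ _) h')).trans ?_
    · rw [Pi.single_eq_of_ne ha, Submodule.coe_zero, mul_zero]
    rw [Pi.single_eq_same, Submodule.coe_smul, Subtype.coe_mk]
    rw [show ρ u = ρ (Quotient.out (QuotientGroup.mk u : Q ⧸ Subgroup.center Q)) * (ω ^ k • 1) by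
      rw [← hk, ← map_mul, mul_inv_cancel_left], mul_assoc, smul_mul_assoc, one_mul]
  rw [← LinearEquiv.finrank_eq (LinearEquiv.ofBijective Φ ⟨hinj, LinearMap.range_eq_top.mp hsurj⟩),
    Module.finrank_pi_fintype, Finset.sum_const, Finset.card_univ, smul_eq_mul,
    Subgroup.index_eq_card, Nat.card_eq_fintype_card]

/-- The index of the centre is a square. -/
theorem TwistedRep.exists_index_eq_sq [IsAlgClosed L] [FiniteDimensional L W] [Nontrivial W]
    (h : TwistedRep ρ q z ω) (hQ0 : (Nat.card Q : L) ≠ 0) :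
    ∃ t : ℕ, (Subgroup.center Q).index = t ^ 2 := by
  obtain ⟨U, -, hU⟩ := exists_minimal_le_of_wellFoundedLT
    (fun U : Submodule L W => U ≠ ⊥ ∧ ∀ u, ∀ x ∈ U, ρ u x ∈ U) ⊤
    ⟨top_ne_bot, fun _ _ _ => Submodule.mem_top⟩
  obtain ⟨⟨hU1, hUinv⟩, hUmin⟩ := hU
  let ρ₀ : Q →* Module.End L U :=
    { toFun := fun u => (ρ u).restrict (hUinv u)
      map_one' := by ext x; simp
      map_mul' := fun a b => by ext x; simp }
  have h₀ : TwistedRep ρ₀ q z ω := ⟨h.gen, h.comm, h.ordz, by
    apply LinearMap.ext; intro x; apply Subtype.ext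
    show ρ z (x : W) = _
    rw [h.map_z]; simp, h.prim⟩
  haveI : Nontrivial U := Submodule.nontrivial_iff_ne_bot.mpr hU1
  have hC : commutant ρ₀ = L ∙ (1 : Module.End L U) := by
    refine le_antisymm ?_ ((Submodule.span_singleton_le_iff_mem _ _).mpr fun u => by simp)
    intro C hC
    obtain ⟨μ, hμ⟩ := Module.End.exists_eigenvalue C
    refine Submodule.mem_span_singleton.mpr ⟨μ, ?_⟩
    set E := (Module.End.eigenspace C μ).map U.subtype with hE
    have hE1 : E ≠ ⊥ := by
      rw [hE, Ne, ← Submodule.map_bot U.subtype]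
      exact fun h' => hμ.exists_hasEigenvector.elim fun v hv =>
        hv.2 ((Submodule.mem_bot L).mp ((Submodule.map_injective_of_injective U.subtype_injective h').le hv.1))
    have hEinv : ∀ u, ∀ x ∈ E, ρ u x ∈ E := by
      rintro u _ ⟨x, hx, rfl⟩
      refine ⟨ρ₀ u x, ?_, rfl⟩
      have hx' := Module.End.mem_eigenspace_iff.mp hx
      rw [SetLike.mem_coe, Module.End.mem_eigenspace_iff, ← Module.End.mul_apply, ← hC u,
        Module.End.mul_apply, hx', map_smul]
    have hEU : U ≤ E := hUmin ⟨hE1, hEinv⟩ (Submodule.map_subtype_le _ _)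
    apply LinearMap.ext
    intro x
    obtain ⟨y, hy, hyx⟩ := hEU x.2
    obtain rfl : y = x := Subtype.ext hyx
    rw [LinearMap.smul_apply, Module.End.one_apply]
    exact (Module.End.mem_eigenspace_iff.mp hy).symm
  have hfr := h₀.finrank_end hQ0
  rw [hC, finrank_span_singleton one_ne_zero, mul_one, Module.finrank_linearMap] at hfr
  exact ⟨finrank L U, by rw [← hfr, sq]⟩

end Twisted

section Eigen

variable {L : Type*} [Field L] [IsAlgClosed L] {W : Type*} [AddCommGroup W] [Module L W]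
  [FiniteDimensional L W]

/-- The centralizer of an endomorphism, as a submodule. -/
def endCentralizer (T : Module.End L W) : Submodule L (Module.End L W) where
  carrier := {A | T * A = A * T}
  zero_mem' := by simp
  add_mem' := fun {A B} (hA : T * A = A * T) (hB : T * B = B * T) => by
    show T * (A + B) = (A + B) * T
    rw [mul_add, add_mul, hA, hB]
  smul_mem' := fun c A (hA : T * A = A * T) => by
    show T * (c • A) = (c • A) * T
    rw [mul_smul_comm, smul_mul_assoc, hA]

/-- An operator of order `r` with zero sum of powers has a large centralizer. -/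
theorem sq_finrank_le_mul_finrank_centralizer (T : Module.End L W) {r : ℕ} (hr : (r : L) ≠ 0)
    (hT : T ^ r = 1) (hsum : ∑ i ∈ Finset.range r, T ^ i = 0) :
    finrank L W ^ 2 ≤ (r - 1) * finrank L (endCentralizer T) := by
  classical
  haveI : NeZero r := ⟨fun h => hr (by simp [h])⟩
  haveI : NeZero (r : L) := ⟨hr⟩
  obtain ⟨ζ, hζ⟩ := HasEnoughRootsOfUnity.exists_primitiveRoot L r
  set V : Fin r → Submodule L W := fun j => Module.End.eigenspace T (ζ ^ (j : ℕ)) with hV
  have hζ0 : ∀ j : ℕ, ζ ^ j ≠ 0 := fun j => pow_ne_zero _ (hζ.ne_zero (NeZero.ne r))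
  let P : Fin r → Module.End L W := fun j =>
    (r : L)⁻¹ • ∑ i ∈ Finset.range r, ((ζ ^ (j : ℕ))⁻¹ • T) ^ i
  have hmem : ∀ j x, P j x ∈ V j := by
    intro j x
    have hx : ((ζ ^ (j : ℕ))⁻¹ • T) ^ r = 1 := by
      rw [smul_pow, hT, inv_pow, ← pow_mul, mul_comm, pow_mul, hζ.pow_eq_one, one_pow, inv_one, one_smul]
    have h1 := mul_geom_sum ((ζ ^ (j : ℕ))⁻¹ • T) r
    rw [hx, sub_self, sub_mul, one_mul, sub_eq_zero] at h1
    rw [hV, Module.End.mem_eigenspace_iff, ← Module.End.mul_apply]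
    have h2 : T * P j = ζ ^ (j : ℕ) • P j := by
      have h3 := congrArg (fun M => ((r : L)⁻¹ * ζ ^ (j : ℕ)) • M) h1
      rw [smul_mul_assoc, smul_smul, mul_assoc, mul_inv_cancel₀ (hζ0 _), mul_one] at h3
      show T * ((r : L)⁻¹ • _) = _ • ((r : L)⁻¹ • _)
      rw [mul_smul_comm, h3, smul_smul, mul_comm]
    rw [h2, LinearMap.smul_apply]
  have hsumP : ∑ j, P j = 1 := by
    show ∑ j : Fin r, (r : L)⁻¹ • ∑ i ∈ Finset.range r, ((ζ ^ (j : ℕ))⁻¹ • T) ^ i = 1
    rw [← Finset.smul_sum, Finset.sum_comm]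
    simp only [smul_pow, ← Finset.sum_smul]
    rw [Finset.sum_eq_single_of_mem 0 (Finset.mem_range.mpr (NeZero.pos r))]
    · simp [smul_smul, inv_mul_cancel₀ hr]
    · intro i hi hi0
      have hne : (ζ ^ i)⁻¹ ≠ 1 := by
        rw [Ne, inv_eq_one, hζ.pow_eq_one_iff_dvd]
        exact fun hd => hi0 (Nat.eq_zero_of_dvd_of_lt hd (Finset.mem_range.mp hi))
      have h1 : ∑ j : Fin r, ((ζ ^ (j : ℕ))⁻¹) ^ i = ∑ j ∈ Finset.range r, ((ζ ^ i)⁻¹) ^ j := by
        rw [← Fin.sum_univ_eq_sum_range (fun j => ((ζ ^ i)⁻¹) ^ j)]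
        exact Finset.sum_congr rfl fun j _ => by rw [inv_pow, inv_pow, ← pow_mul, ← pow_mul, mul_comm]
      rw [h1, geom_sum_eq hne, inv_pow, ← pow_mul, mul_comm, pow_mul, hζ.pow_eq_one, one_pow, inv_one,
        sub_self, zero_div, zero_smul]
  have hPid : ∀ j k, ∀ x ∈ V k, P j x = if j = k then x else 0 := by
    intro j k x hx
    have hx' := Module.End.mem_eigenspace_iff.mp hx
    have hpow : ∀ i : ℕ, (((ζ ^ (j : ℕ))⁻¹ • T) ^ i) x = ((ζ ^ (j : ℕ))⁻¹ * ζ ^ (k : ℕ)) ^ i • x := by
      intro i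
      induction i with
      | zero => simp
      | succ i ih =>
        rw [pow_succ, Module.End.mul_apply, LinearMap.smul_apply, hx', smul_smul, map_smul, ih,
          smul_smul, pow_succ' _ i]
    show ((r : L)⁻¹ • ∑ i ∈ Finset.range r, ((ζ ^ (j : ℕ))⁻¹ • T) ^ i) x = _
    rw [LinearMap.smul_apply, LinearMap.sum_apply, Finset.sum_congr rfl fun i _ => hpow i, ← Finset.sum_smul,
      smul_smul]
    split_ifs with hjk
    · subst hjk
      simp [inv_mul_cancel₀ (hζ0 j), inv_mul_cancel₀ hr]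
    · have hne : (ζ ^ (j : ℕ))⁻¹ * ζ ^ (k : ℕ) ≠ 1 := fun h1 => hjk
        (Fin.ext (hζ.pow_inj j.2 k.2 ((inv_mul_eq_one₀ (hζ0 _)).mp h1)))
      rw [geom_sum_eq hne, mul_pow, inv_pow, ← pow_mul, ← pow_mul, mul_comm (j : ℕ), mul_comm (k : ℕ),
        pow_mul, pow_mul, hζ.pow_eq_one, one_pow, one_pow, inv_one, one_mul, sub_self, zero_div, mul_zero,
        zero_smul]
  have hV0 : finrank L (V 0) = 0 := by
    rw [Submodule.finrank_eq_zero, eq_bot_iff]
    intro x hx
    have h1 := hPid 0 0 x hx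
    rw [if_pos rfl] at h1
    have h2 : P 0 = 0 := by simp [P, hsum]
    rw [h2] at h1
    exact h1.symm
  have hd : finrank L W ≤ ∑ j, finrank L (V j) := by
    rw [← Module.finrank_pi_fintype]
    refine LinearMap.finrank_le_finrank_of_injective
      (f := LinearMap.pi fun j => (P j).codRestrict (V j) (hmem j)) ?_
    rw [injective_iff_map_eq_zero]
    intro x hx
    have : ∀ j, P j x = 0 := fun j => congrArg Subtype.val (congrFun hx j)
    rw [← Module.End.one_apply (R := L) x, ← hsumP, LinearMap.sum_apply, Finset.sum_eq_zero fun j _ => this j]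
  have hc : ∑ j, finrank L (V j) ^ 2 ≤ finrank L (endCentralizer T) := by
    let Φ : (∀ j, Module.End L (V j)) →ₗ[L] Module.End L W :=
      { toFun := fun f => ∑ j, (V j).subtype ∘ₗ f j ∘ₗ (P j).codRestrict (V j) (hmem j)
        map_add' := fun f g => by
          simp [LinearMap.add_comp, LinearMap.comp_add, Finset.sum_add_distrib]
        map_smul' := fun c f => by
          simp [LinearMap.smul_comp, LinearMap.comp_smul, Finset.smul_sum] }
    have happ : ∀ f k, ∀ x : V k, Φ f (x : W) = f k x := by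
      intro f k x
      show (∑ j, (V j).subtype ∘ₗ f j ∘ₗ (P j).codRestrict (V j) (hmem j)) (x : W) = _
      rw [LinearMap.sum_apply, Finset.sum_eq_single k]
      · simp only [LinearMap.comp_apply, Submodule.subtype_apply]
        congr 2
        exact Subtype.ext ((hPid k k x x.2).trans (if_pos rfl))
      · intro j _ hjk
        have : (P j).codRestrict (V j) (hmem j) (x : W) = 0 :=
          Subtype.ext ((hPid j k x x.2).trans (if_neg hjk))
        simp [this]
      · simp
    have hΦ : ∀ f, Φ f ∈ endCentralizer T := by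
      intro f
      apply LinearMap.ext
      intro x
      rw [← Module.End.one_apply (R := L) x, ← hsumP, LinearMap.sum_apply, map_sum, map_sum]
      refine Finset.sum_congr rfl fun j _ => ?_
      have hy := hmem j x
      rw [Module.End.mul_apply, Module.End.mul_apply, Module.End.mem_eigenspace_iff.mp hy, map_smul,
        happ f j ⟨_, hy⟩]
      exact Module.End.mem_eigenspace_iff.mp (f j ⟨_, hy⟩).2
    have hinj : Function.Injective (Φ.codRestrict _ hΦ) := by
      rw [injective_iff_map_eq_zero]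
      intro f hf
      have hf' : Φ f = 0 := congrArg Subtype.val hf
      funext k
      apply LinearMap.ext
      intro x
      apply Subtype.ext
      rw [← happ f k x, hf']
      rfl
    have h := LinearMap.finrank_le_finrank_of_injective hinj
    rw [Module.finrank_pi_fintype] at h
    simpa [Module.finrank_linearMap, sq] using h
  have hCS := sq_sum_le_card_mul_sum_sq (s := Finset.univ.erase (0 : Fin r))
    (f := fun j => finrank L (V j))
  rw [Finset.card_erase_of_mem (Finset.mem_univ _), Finset.card_univ, Fintype.card_fin,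
    Finset.sum_erase (f := fun j => finrank L (V j)) _ hV0, Nat.cast_id] at hCS
  calc finrank L W ^ 2 ≤ (∑ j, finrank L (V j)) ^ 2 := Nat.pow_le_pow_left hd 2
    _ ≤ (r - 1) * ∑ j ∈ Finset.univ.erase 0, finrank L (V j) ^ 2 := hCS
    _ ≤ (r - 1) * finrank L (endCentralizer T) :=
      Nat.mul_le_mul_left _ ((Finset.sum_le_sum_of_subset (Finset.subset_univ _)).trans hc)

end Eigen

/-- The arithmetic of the bound. -/
theorem fermat_prime_of_bound {q r s k n₀ : ℕ} (hq : q.Prime) (hr : r.Prime) (hs : s = q ^ k)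
    (hk : k ≠ 0) (ht : s = n₀ ^ 2) (hdvd : r ∣ s + r - 1) (hle : r * s ≤ (r - 1) * (s + r - 1)) :
    q = 2 ∧ ∃ n, r = 2 ^ n + 1 ∧ s = 2 ^ (2 * n) := by
  obtain ⟨n, -, rfl⟩ := (Nat.dvd_prime_pow hq).mp (show n₀ ∣ q ^ k from hs ▸ ht ▸ dvd_pow_self n₀ two_ne_zero)
  have hr2 := hr.two_le
  have hn : n ≠ 0 := by
    rintro rfl
    rw [pow_zero, one_pow] at ht
    exact (Nat.one_lt_pow hk hq.one_lt).ne' (hs.symm.trans ht)
  set t := q ^ n with htdef
  have ht1 : 1 < t := Nat.one_lt_pow hn hq.one_lt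
  subst ht
  obtain ⟨a, ha⟩ : ∃ a, r = a + 1 := ⟨r - 1, by omega⟩
  have hle' : t ^ 2 ≤ a ^ 2 := by
    rw [ha] at hle
    simp only [Nat.add_sub_cancel] at hle
    rw [show t ^ 2 + (a + 1) - 1 = t ^ 2 + a by omega] at hle
    nlinarith
  have hta : t ≤ a := (Nat.pow_le_pow_iff_left two_ne_zero).mp hle'
  have hdvd' : r ∣ (t - 1) * (t + 1) := by
    have h1 : (t - 1) * (t + 1) + r = t ^ 2 + r - 1 := by
      obtain ⟨b, hb⟩ : ∃ b, t = b + 1 := ⟨t - 1, by omega⟩
      rw [hb]
      simp only [Nat.add_sub_cancel]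
      have : (b + 1) ^ 2 = b * (b + 1 + 1) + 1 := by ring
      omega
    rwa [← h1, Nat.dvd_add_self_right] at hdvd
  have hrt : r = t + 1 := by
    rcases hr.dvd_mul.mp hdvd' with h | h
    · exact absurd (Nat.le_of_dvd (by omega) h) (by omega)
    · exact le_antisymm (Nat.le_of_dvd (by omega) h) (by omega)
  have hq2 : q = 2 := by
    by_contra hq2
    have hodd : Odd t := (hq.odd_of_ne_two hq2).pow
    have : Even r := hrt ▸ hodd.add_one
    have := hr.eq_two_or_odd'.resolve_right (Nat.not_odd_iff_even.mpr this)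
    omega
  subst hq2
  exact ⟨rfl, n, hrt, by rw [htdef, ← pow_mul, mul_comm]⟩

/-- The linear core of BG 2.5. -/
theorem fermat_prime_of_twistedRep {L : Type*} [Field L] [IsAlgClosed L] {Q : Type*} [Group Q] [Finite Q]
    {W : Type*} [AddCommGroup W] [Module L W] [FiniteDimensional L W] [Nontrivial W]
    {q r : ℕ} [hq : Fact q.Prime] (hr : r.Prime) (hr0 : (r : L) ≠ 0) (hQ0 : (Nat.card Q : L) ≠ 0)
    {z : Q} {ω : L} {ρ : Q →* Module.End L W} (h : TwistedRep ρ q z ω) (hQq : IsPGroup q Q)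
    (hne : Subgroup.center Q ≠ ⊤)
    (σ : MulAut Q) (hσr : σ ^ r = 1) (hσfix : ∀ u, u⁻¹ * σ u ∈ Subgroup.center Q → u ∈ Subgroup.center Q)
    (T : Module.End L W) (hTr : T ^ r = 1) (hT : ∀ u, T * ρ u = ρ (σ u) * T)
    (hTsum : ∑ i ∈ Finset.range r, T ^ i = 0) :
    q = 2 ∧ ∃ n, r = 2 ^ n + 1 ∧ Nat.card Q = 2 ^ (2 * n + 1) := by
  classical
  cases nonempty_fintype Q
  have := Fact.mk hr
  set Z := Subgroup.center Q with hZ
  have hmem : ∀ u, σ u ∈ Z ↔ u ∈ Z := by
    intro u
    simp only [hZ, Subgroup.mem_center_iff]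
    constructor
    · intro h1 g
      exact σ.injective (by rw [map_mul, map_mul, h1])
    · intro h1 g
      obtain ⟨g, rfl⟩ := σ.surjective g
      rw [← map_mul, ← map_mul, h1]
  let σb : MulAut (Q ⧸ Z) := QuotientGroup.congr Z Z σ (by
    ext u
    constructor
    · rintro ⟨v, hv, rfl⟩; exact (hmem v).mpr hv
    · intro hu
      exact ⟨σ.symm u, (hmem _).mp (by rwa [MulEquiv.apply_symm_apply]), σ.apply_symm_apply u⟩)
  have hσb : ∀ (i : ℕ) (u : Q), (σb ^ i) (QuotientGroup.mk u) = QuotientGroup.mk ((σ ^ i) u) := by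
    intro i
    induction i with
    | zero => simp
    | succ i ih =>
      intro u
      rw [pow_succ', pow_succ', MulAut.mul_apply, MulAut.mul_apply, ih]
      rfl
  have hfix : ∀ a, σb a = a → a = 1 := by
    intro a
    induction a using QuotientGroup.induction_on with
    | H u =>
      intro h1
      rw [QuotientGroup.eq_one_iff]
      exact hσfix u (QuotientGroup.eq.mp h1.symm)
  have hσr' : σb ^ r = 1 := MulEquiv.ext fun a => by
    induction a using QuotientGroup.induction_on with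
    | H u => rw [hσb, hσr]; rfl
  have hσ1 : σb ≠ 1 := fun h1 => hne (by
    rw [eq_top_iff]
    intro u _
    exact (QuotientGroup.eq_one_iff u).mp (hfix (QuotientGroup.mk u) (by rw [h1]; rfl)))
  set Γ := Subgroup.zpowers σb with hΓ
  have hΓcard : Fintype.card Γ = r := by
    rw [← Nat.card_eq_fintype_card, Nat.card_zpowers, orderOf_eq_prime hσr' hσ1]
  have hpowΓ : ∀ g : Γ, ∃ i : ℕ, (g : MulAut (Q ⧸ Z)) = σb ^ i := fun g => by
    obtain ⟨i, hi⟩ := mem_powers_iff_mem_zpowers.mpr g.2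
    exact ⟨i, hi.symm⟩
  have hΓfix : ∀ g : Γ, g ≠ 1 → ∀ a : Q ⧸ Z, g • a = a → a = 1 := by
    intro g hg a ha
    have h1 : Subgroup.zpowers (g : MulAut (Q ⧸ Z)) ≤ MulAction.stabilizer (MulAut (Q ⧸ Z)) a :=
      Subgroup.zpowers_le.mpr ha
    have h2 : Subgroup.zpowers (g : MulAut (Q ⧸ Z)) = Γ := by
      refine Subgroup.eq_of_le_of_card_ge (Subgroup.zpowers_le.mpr g.2) ?_
      rw [Nat.card_eq_fintype_card (α := Γ), hΓcard, Nat.card_zpowers, orderOf_eq_prime (p := r) ?_ ?_]
      · obtain ⟨i, hi⟩ := hpowΓ g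
        rw [hi, ← pow_mul, mul_comm, pow_mul, hσr', one_pow]
      · exact fun h3 => hg (Subtype.ext h3)
    exact hfix a (h1 (h2.ge (Subgroup.mem_zpowers σb)))
  set s := Fintype.card (Q ⧸ Z) with hs
  set O := MulAction.orbitRel.Quotient Γ (Q ⧸ Z) with hO
  have hburn : s + r - 1 = Fintype.card O * r := by
    have h1 := MulAction.sum_card_fixedBy_eq_card_orbits_mul_card_group Γ (Q ⧸ Z)
    rw [hΓcard] at h1
    rw [← h1, ← Finset.sum_erase_add _ _ (Finset.mem_univ (1 : Γ))]
    have h2 : ∀ g ∈ Finset.univ.erase (1 : Γ), Fintype.card (MulAction.fixedBy (Q ⧸ Z) g) = 1 := by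
      intro g hg
      refine Fintype.card_eq_one_iff.mpr ⟨⟨1, ?_⟩, fun a => Subtype.ext (hΓfix g (Finset.ne_of_mem_erase hg) _ a.2)⟩
      exact map_one (g : MulAut (Q ⧸ Z))
    have h3 : Fintype.card (MulAction.fixedBy (Q ⧸ Z) (1 : Γ)) = s := by
      rw [hs]
      exact Fintype.card_congr ⟨Subtype.val, fun a => ⟨a, one_smul _ a⟩, fun a => rfl, fun a => rfl⟩
    rw [Finset.sum_congr rfl h2, h3, Finset.sum_const, Finset.card_erase_of_mem (Finset.mem_univ _),
      Finset.card_univ, hΓcard, smul_eq_mul, mul_one]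
    have := hr.two_le
    omega
  -- the centralizer of `T` is determined on orbit representatives
  let F : endCentralizer T →ₗ[L] (O → commutant ρ) :=
    { toFun := fun A o => ⟨_, convAvg_mem ρ (ρ (Quotient.out (Quotient.out o))⁻¹ * (A : Module.End L W))⟩
      map_add' := fun A B => by
        funext o; apply Subtype.ext
        simp [convAvg, mul_add, add_mul, Finset.sum_add_distrib]
      map_smul' := fun c A => by
        funext o; apply Subtype.ext
        simp [convAvg, Finset.smul_sum] }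
  have hTu : IsUnit T := IsUnit.of_pow_eq_one hTr hr.ne_zero
  have hFinj : Function.Injective F := by
    rw [injective_iff_map_eq_zero]
    intro A hA
    have hA2 : T * (A : Module.End L W) = A * T := A.2
    set N : Set Q := {u | convAvg ρ (ρ u⁻¹ * (A : Module.End L W)) = 0} with hN
    have hNσ : ∀ u ∈ N, σ u ∈ N := by
      intro u hu
      have h1 : convAvg ρ (ρ (σ u)⁻¹ * (A : Module.End L W)) * T =
          T * convAvg ρ (ρ u⁻¹ * (A : Module.End L W)) := by
        rw [convAvg, convAvg, Finset.sum_mul, Finset.mul_sum]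
        symm
        refine Fintype.sum_equiv σ.toEquiv _ _ fun v => ?_
        show T * (ρ v * (ρ u⁻¹ * A.1) * ρ v⁻¹) = ρ (σ v) * (ρ (σ u)⁻¹ * A.1) * ρ (σ v)⁻¹ * T
        simp only [← map_inv, ← mul_assoc]
        rw [hT, mul_assoc (ρ (σ v)) T, hT, ← mul_assoc, mul_assoc _ T, hA2, ← mul_assoc, mul_assoc _ T,
          hT, ← mul_assoc]
      rw [hu, mul_zero] at h1
      exact (hTu.mul_left_eq_zero).mp h1
    have hNσi : ∀ (i : ℕ), ∀ u ∈ N, (σ ^ i) u ∈ N := by
      intro i
      induction i with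
      | zero => simp
      | succ i ih => intro u hu; rw [pow_succ', MulAut.mul_apply]; exact hNσ _ (ih u hu)
    have hNz : ∀ u v : Q, u⁻¹ * v ∈ Z → u ∈ N → v ∈ N := by
      intro u v huv hu
      obtain ⟨k, -, hk⟩ := h.exists_scalar (u := (u⁻¹ * v)⁻¹) (inv_mem huv)
      show convAvg ρ _ = 0
      have : ρ v⁻¹ * A.1 = ω ^ k • (ρ u⁻¹ * A.1) := by
        rw [← smul_mul_assoc, ← one_mul (ρ u⁻¹), ← smul_mul_assoc, ← hk, ← map_mul]
        congr 2; group
      rw [this]
      have h0 : convAvg ρ (ρ u⁻¹ * A.1) = 0 := hu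
      simp only [convAvg, mul_smul_comm, smul_mul_assoc, ← Finset.smul_sum] at h0 ⊢
      rw [h0, smul_zero]
    have hall : ∀ v, v ∈ N := by
      intro v
      set o : O := Quotient.mk'' (QuotientGroup.mk v : Q ⧸ Z) with ho
      have hu₀ : Quotient.out (Quotient.out o) ∈ N := congrArg Subtype.val (congrFun hA o)
      obtain ⟨g, hg⟩ : ∃ g : Γ, g • Quotient.out o = (QuotientGroup.mk v : Q ⧸ Z) := by
        letI := MulAction.orbitRel Γ (Q ⧸ Z)
        have h1 := Quotient.mk_out (s := MulAction.orbitRel Γ (Q ⧸ Z)) (QuotientGroup.mk v : Q ⧸ Z)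
        exact MulAction.orbitRel_apply.mp (Setoid.symm h1)
      obtain ⟨i, hi⟩ := hpowΓ g
      refine hNz _ v (QuotientGroup.eq.mp ?_) (hNσi i _ hu₀)
      rw [← hσb, QuotientGroup.out_eq', ← hi]
      exact hg
    apply Subtype.ext
    have h1 := h.sum_mul_convAvg A.1
    rw [Finset.sum_eq_zero fun u _ => by rw [show convAvg ρ (ρ u⁻¹ * A.1) = 0 from hall u, mul_zero]] at h1
    refine (smul_eq_zero.mp h1.symm).resolve_left ?_
    rw [Nat.cast_mul]
    refine mul_ne_zero hQ0 fun h0 => hQ0 ?_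
    rw [← Z.card_mul_index, Nat.cast_mul, h0, zero_mul]
  have hbound1 := LinearMap.finrank_le_finrank_of_injective hFinj
  rw [Module.finrank_pi_fintype, Finset.sum_const, Finset.card_univ, smul_eq_mul] at hbound1
  have hbound2 := sq_finrank_le_mul_finrank_centralizer T hr0 hTr hTsum
  have hend := h.finrank_end hQ0
  rw [Module.finrank_linearMap, ← sq, ← hZ, Subgroup.index_eq_card, Nat.card_eq_fintype_card, ← hs] at hend
  have hpos : 0 < finrank L (commutant ρ) := by
    refine Nat.pos_of_ne_zero fun h0 => ?_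
    rw [h0, mul_zero] at hend
    exact (Module.finrank_pos (R := L) (M := W)).ne' (pow_eq_zero_iff two_ne_zero |>.mp hend)
  have hle : s ≤ (r - 1) * Fintype.card O := by
    refine Nat.le_of_mul_le_mul_right (c := finrank L (commutant ρ)) ?_ hpos
    rw [← hend, mul_assoc]
    exact hbound2.trans (Nat.mul_le_mul_left _ hbound1)
  obtain ⟨k, hk⟩ := IsPGroup.iff_card.mp (hQq.to_quotient Z)
  rw [Nat.card_eq_fintype_card, ← hs] at hk
  have hk0 : k ≠ 0 := by
    rintro rfl
    refine hσ1 (MulEquiv.ext fun a => ?_)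
    have := Fintype.card_le_one_iff.mp (hk.le.trans_eq (pow_zero q))
    exact this _ _
  obtain ⟨n₀, hn₀⟩ := h.exists_index_eq_sq hQ0
  rw [← hZ, Subgroup.index_eq_card, Nat.card_eq_fintype_card, ← hs] at hn₀
  obtain ⟨hq2, n, hn, hsn⟩ := fermat_prime_of_bound hq.out hr hk hk0 hn₀
    (hburn ▸ dvd_mul_left r _) (by rw [hburn]; calc r * s ≤ r * ((r - 1) * Fintype.card O) := Nat.mul_le_mul_left _ hle
                                       _ = _ := by ring)
  refine ⟨hq2, n, hn, ?_⟩
  have hcardZ : Nat.card Z = 2 := by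
    have : Z = Subgroup.zpowers z := SetLike.ext h.gen
    rw [this, Nat.card_zpowers, h.ordz, hq2]
  rw [← Z.card_mul_index, hcardZ, Subgroup.index_eq_card, Nat.card_eq_fintype_card, ← hs, hsn, pow_succ']

end Cfsg.Agent.OddLocal43
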