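import Mathlib
import Cfsg.Agent.OddLocal43.RankTwo

/-!
# Fixed-point orders for coprime actions on elementary abelian groups, through lifted traces

A coprime finite group of matrices over `ZMod ℓ` lifts to `ZMod (ℓ ^ N)`, where the trace of an
averaging idempotent is the dimension of a fixed space. This gives, for a Frobenius-like group
`G = K R`, the relation `|V| ^ |K| * |C_V(G)| ^ |G| = |C_V(K)| ^ |K| * |C_V(R)| ^ |G|`.
-/

set_option autoImplicit false

namespace Cfsg.Agent.OddLocal43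

open Matrix

/-- A bundle of a class function computing the logarithms of fixed-point orders. -/
theorem trace_eq_natCast_of_idempotent {R F : Type*} [CommRing R] [Field F] (f : R →+* F)
    (hsurj : Function.Surjective f) (hunit : ∀ a, f a ≠ 0 → IsUnit a) {n : Type*} [Fintype n]
    [DecidableEq n] (E : Matrix n n R) (hE : E * E = E) :
    E.trace = (Module.finrank F (LinearMap.range (toLin' (E.map f))) : R) := by
  classical
  set e := toLin' (E.map f) with he
  have hee : e ∘ₗ e = e := by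
    rw [he, ← toLin'_mul, ← Matrix.map_mul, hE]
  have hproj : LinearMap.IsProj (LinearMap.range e) e :=
    ⟨fun x => LinearMap.mem_range_self e x, by
      rintro _ ⟨y, rfl⟩
      exact LinearMap.congr_fun hee y⟩
  have hc := hproj.isCompl
  let b1 := Module.finBasis F (LinearMap.range e)
  let b2 := Module.finBasis F (LinearMap.ker e)
  let b' := (b1.prod b2).map (Submodule.prodEquivOfIsCompl _ _ hc)
  have hcard : Fintype.card (Fin (Module.finrank F (LinearMap.range e)) ⊕
      Fin (Module.finrank F (LinearMap.ker e))) = Fintype.card n := by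
    rw [← Module.finrank_eq_card_basis b', Module.finrank_fintype_fun_eq_card]
  let σ := Fintype.equivOfCardEq hcard
  let b := b'.reindex σ
  let D : Matrix n n R := diagonal fun j => if (σ.symm j).isLeft then 1 else 0
  let P : Matrix n n F := (Pi.basisFun F n).toMatrix b
  choose g hg using hsurj
  let P₀ : Matrix n n R := P.map g
  have hP : P₀.map f = P := by ext i j; simp [P₀, hg]
  have hcol : ∀ i j, P i j = b j i := fun i j => by simp [P, Module.Basis.toMatrix_apply]
  have hbj : ∀ j, e (b j) = if (σ.symm j).isLeft then b j else 0 := by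
    intro j
    have : b j = b' (σ.symm j) := Module.Basis.reindex_apply b' σ j
    rw [this]
    rcases h : σ.symm j with i | i
    · have hb : b' (Sum.inl i) = (b1 i : n → F) := by simp [b']
      simpa [hb] using hproj.map_id _ (b1 i).2
    · have hb : b' (Sum.inr i) = (b2 i : n → F) := by simp [b']
      simpa [hb] using (b2 i).2
  have hDm : D.map f = diagonal fun j => if (σ.symm j).isLeft then (1 : F) else 0 := by
    rw [show D.map f = (diagonal fun j => f (if (σ.symm j).isLeft then 1 else 0)) from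
      diagonal_map (map_zero f)]
    congr 1; funext j; split <;> simp
  have hEP : E.map f * P = P * D.map f := by
    ext i j
    rw [hDm, mul_diagonal]
    have h1 : (E.map f * P) i j = e (b j) i := by
      rw [he, toLin'_apply, mulVec, Matrix.mul_apply, dotProduct]
      simp [hcol]
    rw [h1, hbj j, hcol]
    split <;> simp
  let Q : Matrix n n R := E * P₀ * D + (1 - E) * P₀ * (1 - D)
  have hDD : D * D = D := by
    rw [diagonal_mul_diagonal]
    congr 1; funext j; split <;> simp
  have hDD' : (D.map f) * (D.map f) = D.map f := by rw [← Matrix.map_mul, hDD]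
  have hQ : Q.map f = P := by
    simp only [Q, Matrix.map_add f (map_add f), Matrix.map_mul, hP,
      Matrix.map_sub f (map_sub f), Matrix.map_one f (map_zero f) (map_one f)]
    calc E.map f * P * D.map f + (1 - E.map f) * P * (1 - D.map f)
        = P * (D.map f * D.map f) + (P * (1 - D.map f) - P * (D.map f * (1 - D.map f))) := by
          rw [sub_mul, one_mul, sub_mul, hEP]
          simp only [mul_assoc]
      _ = P := by simp [mul_sub, hDD']
  have hQu : IsUnit Q := by
    rw [isUnit_iff_isUnit_det]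
    refine hunit _ ?_
    rw [RingHom.map_det, RingHom.mapMatrix_apply, hQ]
    letI := (Pi.basisFun F n).invertibleToMatrix b
    exact (isUnit_det_of_invertible P).ne_zero
  have hEQ : E * Q = Q * D := by
    simp only [Q, mul_add, add_mul, sub_mul, mul_sub, one_mul, mul_one, ← mul_assoc, hE]
    simp only [mul_assoc, hDD]
    abel
  obtain ⟨u, hu⟩ := hQu
  have : E = (u : Matrix n n R) * D * ((u⁻¹ : (Matrix n n R)ˣ) : Matrix n n R) := by
    rw [hu, ← hEQ, ← hu, mul_assoc, Units.mul_inv, mul_one]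
  rw [this, trace_units_conj, trace_diagonal]
  rw [← Equiv.sum_comp σ, Fintype.sum_sum_type]
  simp

/-- A coprime finite matrix group over `ZMod ℓ` lifts to `ZMod (ℓ ^ N)`. -/
theorem exists_lift {ℓ : ℕ} [hℓ : Fact ℓ.Prime] {N d : ℕ} (hN : N ≠ 0) {G : Type*} [Group G] [Finite G]
    (hG : (Nat.card G).Coprime ℓ) (ρ : G →* GL (Fin d) (ZMod ℓ)) :
    ∃ ρ' : G →* GL (Fin d) (ZMod (ℓ ^ N)),
      ∀ g, GeneralLinearGroup.map (ZMod.castHom (dvd_pow_self ℓ hN) (ZMod ℓ)) (ρ' g) = ρ g := by
  haveI : NeZero (ℓ ^ N) := ⟨pow_ne_zero _ hℓ.out.ne_zero⟩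
  set c := ZMod.castHom (dvd_pow_self ℓ hN) (ZMod ℓ) with hc
  set π : GL (Fin d) (ZMod (ℓ ^ N)) →* GL (Fin d) (ZMod ℓ) := GeneralLinearGroup.map c with hπ
  -- the kernel is an `ℓ`-group
  have hker : IsPGroup ℓ π.ker := by
    rintro ⟨A, hA⟩
    refine ⟨N, Subtype.ext (Units.ext ?_)⟩
    have hA1 : (A : Matrix (Fin d) (Fin d) (ZMod (ℓ ^ N))).map c = 1 :=
      congrArg Units.val (MonoidHom.mem_ker.mp hA)
    have key : ∀ j : ℕ, ∃ B : Matrix (Fin d) (Fin d) (ZMod (ℓ ^ N)),
        (A : Matrix (Fin d) (Fin d) (ZMod (ℓ ^ N))) ^ ℓ ^ j - 1 = (ℓ : ZMod (ℓ ^ N)) ^ (j + 1) • B := by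
      have hdiv : ∀ M : Matrix (Fin d) (Fin d) (ZMod (ℓ ^ N)), M.map c = 0 →
          ∃ B, M = (ℓ : ZMod (ℓ ^ N)) • B := by
        intro M hM
        have : ∀ i j, ∃ b, M i j = (ℓ : ZMod (ℓ ^ N)) * b := by
          intro i j
          have h0 : c (M i j) = 0 := congrFun (congrFun hM i) j
          obtain ⟨m, hm⟩ : ∃ m : ℕ, M i j = m := ⟨(M i j).val, by simp⟩
          rw [hm, map_natCast, ZMod.natCast_eq_zero_iff] at h0
          obtain ⟨b, rfl⟩ := h0
          exact ⟨b, by rw [hm, Nat.cast_mul]⟩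
        choose B hB using this
        exact ⟨Matrix.of B, by ext i j; simp [hB]⟩
      intro j
      induction j with
      | zero =>
        obtain ⟨B, hB⟩ := hdiv ((A : Matrix (Fin d) (Fin d) (ZMod (ℓ ^ N))) - 1) (by
          rw [Matrix.map_sub c (map_sub c), hA1, Matrix.map_one c (map_zero c) (map_one c), sub_self])
        exact ⟨B, by simpa using hB⟩
      | succ j ih =>
        obtain ⟨B, hB⟩ := ih
        set X := (A : Matrix (Fin d) (Fin d) (ZMod (ℓ ^ N))) ^ ℓ ^ j with hX
        have hmc : ∀ k : ℕ, (X ^ k).map c = 1 := by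
          intro k
          rw [hX, ← pow_mul, ← RingHom.mapMatrix_apply, map_pow, RingHom.mapMatrix_apply, hA1, one_pow]
        obtain ⟨B', hB'⟩ := hdiv (∑ i ∈ Finset.range ℓ, X ^ i) (by
          rw [← RingHom.mapMatrix_apply, map_sum]
          simp only [RingHom.mapMatrix_apply, hmc]
          simp [← Nat.cast_smul_eq_nsmul (ZMod ℓ)])
        refine ⟨B * B', ?_⟩
        rw [pow_succ ℓ j, pow_mul, ← hX, ← mul_geom_sum X ℓ, hB, hB', smul_mul_smul_comm, ← pow_succ]
    obtain ⟨B, hB⟩ := key N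
    have h0 : ((ℓ : ZMod (ℓ ^ N))) ^ (N + 1) = 0 := by
      rw [pow_succ, ← Nat.cast_pow, ZMod.natCast_self, zero_mul]
    rw [h0, zero_smul, sub_eq_zero] at hB
    simpa using hB
  set S := ρ.range.comap π with hS
  have hKS : π.ker ≤ S := fun x hx => by
    rw [hS, Subgroup.mem_comap, MonoidHom.mem_ker.mp hx]
    exact one_mem _
  -- surjectivity of the reduction
  have hsurj : ρ.range ≤ π.range := by
    rintro _ ⟨g, rfl⟩
    let M : Matrix (Fin d) (Fin d) (ZMod (ℓ ^ N)) :=
      (ρ g : Matrix (Fin d) (Fin d) (ZMod ℓ)).map fun x => ((x.val : ℕ) : ZMod (ℓ ^ N))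
    have hM : M.map c = (ρ g : Matrix (Fin d) (Fin d) (ZMod ℓ)) := by
      ext i j; simp [M]
    have hu : IsUnit M := by
      rw [isUnit_iff_isUnit_det]
      have hne : c M.det ≠ 0 := by
        rw [RingHom.map_det, RingHom.mapMatrix_apply, hM]
        exact ((isUnit_iff_isUnit_det _).mp (ρ g).isUnit).ne_zero
      obtain ⟨m, hm⟩ : ∃ m : ℕ, M.det = m := ⟨M.det.val, by simp⟩
      rw [hm, map_natCast, Ne, ZMod.natCast_eq_zero_iff] at hne
      rw [hm, ZMod.isUnit_iff_coprime]
      exact Nat.Coprime.pow_right N (hℓ.out.coprime_iff_not_dvd.mpr hne).symm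
    exact ⟨hu.unit, Units.ext hM⟩
  have hidx : (π.ker.subgroupOf S).index = Nat.card ρ.range := by
    have h1 := Subgroup.relIndex_comap (⊥ : Subgroup (GL (Fin d) (ZMod ℓ))) π S
    rw [MonoidHom.comap_bot, Subgroup.relIndex_bot_left, hS, Subgroup.map_comap_eq_self hsurj] at h1
    exact h1
  obtain ⟨H, hH⟩ := Subgroup.exists_right_complement'_of_coprime (N := π.ker.subgroupOf S) (by
    obtain ⟨k, hk⟩ := IsPGroup.iff_card.mp hker
    rw [hidx, Nat.card_congr (Subgroup.subgroupOfEquivOfLe hKS).toEquiv, hk]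
    exact (Nat.Coprime.coprime_dvd_left (Subgroup.card_range_dvd ρ) hG).symm.pow_left k)
  let ι : H →* ρ.range := (π.comp (S.subtype.comp H.subtype)).codRestrict ρ.range fun x => (x : S).2
  have hinj : Function.Injective ι := by
    rw [← MonoidHom.ker_eq_bot_iff, eq_bot_iff]
    intro x hx
    have h1 : ((x : S) : GL (Fin d) (ZMod (ℓ ^ N))) ∈ π.ker := congrArg Subtype.val hx
    exact Subgroup.mem_bot.mpr (Subtype.ext (Subgroup.mem_bot.mp (hH.disjoint.le_bot
      ⟨Subgroup.mem_subgroupOf.mpr h1, x.2⟩)))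
  have hbij : Function.Bijective ι := (Nat.bijective_iff_injective_and_card ι).mpr
    ⟨hinj, by rw [← hidx, hH.symm.index_eq_card]⟩
  let ψ := MulEquiv.ofBijective ι hbij
  refine ⟨(S.subtype.comp H.subtype).comp (ψ.symm.toMonoidHom.comp ρ.rangeRestrict), fun g => ?_⟩
  have := ψ.apply_symm_apply (ρ.rangeRestrict g)
  exact congrArg Subtype.val this

variable {V : Type*} [Group V] {G : Type*} [Group G]

/-- The fixed points of a subgroup acting by automorphisms. -/
def fixedBy (φ : G →* MulAut V) (H : Subgroup G) : Subgroup V where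
  carrier := {v | ∀ h ∈ H, φ h v = v}
  one_mem' := fun h _ => map_one (φ h)
  mul_mem' := fun {a b} ha hb h hh => by rw [map_mul, ha h hh, hb h hh]
  inv_mem' := fun {a} ha h hh => by rw [map_inv, ha h hh]

theorem mem_fixedBy {φ : G →* MulAut V} {H : Subgroup G} {v : V} :
    v ∈ fixedBy φ H ↔ ∀ h ∈ H, φ h v = v := Iff.rfl

/-- The class function recording fixed-point dimensions modulo `ℓ ^ N`. -/
theorem exists_fixed_class_function [Finite V] [Finite G] {ℓ : ℕ} [hℓ : Fact ℓ.Prime]
    (hc : ∀ a b : V, a * b = b * a) (he : ∀ v : V, v ^ ℓ = 1) (φ : G →* MulAut V)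
    (hG : (Nat.card G).Coprime ℓ) {N : ℕ} (hN : N ≠ 0) :
    ∃ (χ : G → ZMod (ℓ ^ N)) (d : ℕ), Nat.card V = ℓ ^ d ∧ χ 1 = d ∧
      (∀ a b, χ (a * b * a⁻¹) = χ b) ∧
      ∀ (H : Subgroup G) [Fintype H], ∃ r : ℕ, r ≤ d ∧ Nat.card (fixedBy φ H) = ℓ ^ r ∧
        ∑ h : H, χ h = (Nat.card H * r : ℕ) := by
  classical
  letI : CommGroup V := { ‹Group V› with mul_comm := hc }
  letI : Module (ZMod ℓ) (Additive V) :=
    AddCommGroup.zmodModule (n := ℓ) (G := Additive V) fun v => he v.toMul
  haveI : Module.Finite (ZMod ℓ) (Additive V) := Module.Finite.of_finite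
  set d := Module.finrank (ZMod ℓ) (Additive V) with hd
  let b : Module.Basis (Fin d) (ZMod ℓ) (Additive V) := Module.finBasis (ZMod ℓ) (Additive V)
  let toMat : MulAut V →* Matrix (Fin d) (Fin d) (ZMod ℓ) :=
    { toFun := fun σ => LinearMap.toMatrixAlgEquiv b
        ((MonoidHom.toAdditive σ.toMonoidHom).toZModLinearMap ℓ)
      map_one' := by
        rw [← map_one (LinearMap.toMatrixAlgEquiv b)]
        rfl
      map_mul' := fun σ τ => by
        rw [← map_mul]
        rfl }
  let ρ : G →* GL (Fin d) (ZMod ℓ) := (toMat.comp φ).toHomUnits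
  obtain ⟨ρ', hρ'⟩ := exists_lift hN hG ρ
  set c := ZMod.castHom (dvd_pow_self ℓ hN) (ZMod ℓ) with hc'
  haveI : NeZero (ℓ ^ N) := ⟨pow_ne_zero _ hℓ.out.ne_zero⟩
  have hcu : ∀ a : ZMod (ℓ ^ N), c a ≠ 0 → IsUnit a := by
    intro a ha
    obtain ⟨m, rfl⟩ : ∃ m : ℕ, a = m := ⟨a.val, by simp⟩
    rw [map_natCast, Ne, ZMod.natCast_eq_zero_iff] at ha
    rw [ZMod.isUnit_iff_coprime]
    exact Nat.Coprime.pow_right N (hℓ.out.coprime_iff_not_dvd.mpr ha).symm
  have hcardV : Nat.card V = ℓ ^ d := by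
    have h := Module.natCard_eq_pow_finrank (K := ZMod ℓ) (V := Additive V)
    rwa [Nat.card_zmod] at h
  refine ⟨fun g => (ρ' g).val.trace, d, hcardV, by simp, fun a g => ?_, fun H _ => ?_⟩
  · show (ρ' (a * g * a⁻¹)).val.trace = _
    rw [map_mul, map_mul, map_inv]
    exact trace_units_conj (ρ' a) _
  -- the averaging idempotent
  set m := Fintype.card H with hm
  have hmcop : m.Coprime ℓ := by
    rw [hm, ← Nat.card_eq_fintype_card]
    exact hG.coprime_dvd_left (Subgroup.card_subgroup_dvd_card H)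
  obtain ⟨u, hu⟩ : IsUnit (m : ZMod (ℓ ^ N)) := by
    rw [ZMod.isUnit_iff_coprime]; exact hmcop.pow_right N
  set Sm := ∑ h : H, (ρ' h).val with hSm
  have hsmul : ∀ h : H, (ρ' h).val * Sm = Sm := by
    intro h
    rw [hSm, Finset.mul_sum]
    exact Fintype.sum_equiv (Equiv.mulLeft h) _ _ fun x => by simp
  set E := (↑u⁻¹ : ZMod (ℓ ^ N)) • Sm with hE
  have hEE : E * E = E := by
    have hSS : Sm * Sm = (m : ZMod (ℓ ^ N)) • Sm := by
      conv_lhs => arg 1; rw [hSm]
      rw [Finset.sum_mul, Finset.sum_congr rfl fun h _ => hsmul h, Finset.sum_const, Finset.card_univ,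
        Nat.cast_smul_eq_nsmul]
    rw [hE, smul_mul_smul_comm, hSS, smul_smul, ← hu, mul_assoc, Units.inv_mul, mul_one]
  have htr := trace_eq_natCast_of_idempotent c (ZMod.castHom_surjective _) hcu E hEE
  set e := toLin' (E.map c) with he'
  set r := Module.finrank (ZMod ℓ) (LinearMap.range e) with hr
  refine ⟨r, ?_, ?_, ?_⟩
  · rw [hr]
    calc _ ≤ Module.finrank (ZMod ℓ) (Fin d → ZMod ℓ) := Submodule.finrank_le _
      _ = d := Module.finrank_fin_fun _
  · -- range of `e` versus fixed points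
    have hmap : ∀ g : G, (ρ' g).val.map c = toMat (φ g) := fun g => congrArg Units.val (hρ' g)
    have hinv : c ↑u⁻¹ * (m : ZMod ℓ) = 1 := by
      rw [← map_natCast c m, ← hu, ← map_mul, Units.inv_mul, map_one]
    have hEc : E.map c = c ↑u⁻¹ • ∑ h : H, toMat (φ h) := by
      rw [hE, hSm]
      ext i j
      simp [Matrix.sum_apply, ← hmap]
    have hfix : ∀ (g : G) (v : Additive V),
        toLin' (toMat (φ g)) (b.equivFun v) = b.equivFun (Additive.ofMul (φ g v.toMul)) := fun g v =>
      LinearMap.toMatrix_mulVec_repr b b _ v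
    let F' : Submodule (ZMod ℓ) (Fin d → ZMod ℓ) :=
      { carrier := {x | ∀ h : H, toLin' (toMat (φ h)) x = x}
        zero_mem' := fun h => map_zero _
        add_mem' := fun {x y} hx hy h => by rw [map_add, hx h, hy h]
        smul_mem' := fun a x hx h => by rw [map_smul, hx h] }
    have hrange : LinearMap.range e = F' := by
      refine le_antisymm ?_ fun x hx => ⟨x, ?_⟩
      · rintro _ ⟨y, rfl⟩ h
        rw [he', ← LinearMap.comp_apply, ← toLin'_mul, ← hmap, ← Matrix.map_mul, hE, mul_smul_comm, hsmul]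
      · rw [he', hEc, map_smul, map_sum, LinearMap.smul_apply, LinearMap.sum_apply,
          Finset.sum_congr rfl fun h _ => hx h, Finset.sum_const, Finset.card_univ,
          ← Nat.cast_smul_eq_nsmul (ZMod ℓ), smul_smul, hinv, one_smul]
    have hcardF : Nat.card (fixedBy φ H) = Nat.card F' := Nat.card_congr
      { toFun := fun v => ⟨b.equivFun (Additive.ofMul v.1), fun h => by
          rw [hfix]; exact congrArg (fun w => b.equivFun (Additive.ofMul w)) (v.2 h h.2)⟩
        invFun := fun x => ⟨(b.equivFun.symm x.1).toMul, fun h hh => by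
          have h1 := hfix h (b.equivFun.symm x.1)
          rw [LinearEquiv.apply_symm_apply, x.2 ⟨h, hh⟩] at h1
          have h2 := congrArg (fun z => (b.equivFun.symm z).toMul) h1
          simpa using h2.symm⟩
        left_inv := fun v => Subtype.ext (by simp)
        right_inv := fun x => Subtype.ext (by simp only [ofMul_toMul, LinearEquiv.apply_symm_apply]) }
    rw [hcardF, ← hrange, Module.natCard_eq_pow_finrank (K := ZMod ℓ) (V := LinearMap.range e), Nat.card_zmod]
  · rw [Nat.cast_mul, Nat.card_eq_fintype_card, ← hm, ← htr, hE, trace_smul, smul_eq_mul, ← mul_assoc,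
      ← hu, Units.mul_inv, one_mul, hSm, trace_sum]

/-- The Frobenius fixed-point formula: if `G = K R` with `K` normal, `K ⊓ R = ⊥` and no non-identity
element of `R` centralizing one of `K`, then `|V|^|K| * |C(G)|^|G| = |C(K)|^|K| * |C(R)|^|G|`. -/
theorem frobenius_fixed_card [Finite V] [Finite G] {ℓ : ℕ} [hℓ : Fact ℓ.Prime]
    (hc : ∀ a b : V, a * b = b * a) (he : ∀ v : V, v ^ ℓ = 1) (φ : G →* MulAut V)
    (hG : (Nat.card G).Coprime ℓ) (K R : Subgroup G) [K.Normal] (hKR : K.IsComplement' R)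
    (hfpf : ∀ r ∈ R, r ≠ 1 → ∀ k ∈ K, r * k = k * r → k = 1) :
    Nat.card V ^ Nat.card K * Nat.card (fixedBy φ (⊤ : Subgroup G)) ^ Nat.card G =
      Nat.card (fixedBy φ K) ^ Nat.card K * Nat.card (fixedBy φ R) ^ Nat.card G := by
  classical
  cases nonempty_fintype G
  cases nonempty_fintype V
  set B := Nat.card G * (Nat.card V + 1) * 4 with hB
  obtain ⟨χ, d, hd, hχ1, hconj, hfix⟩ := exists_fixed_class_function hc he φ hG (N := B + 1) (by omega)
  obtain ⟨rG, hrG, hcG, hsG⟩ := hfix ⊤
  obtain ⟨rK, hrK, hcK, hsK⟩ := hfix K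
  obtain ⟨rR, hrR, hcR, hsR⟩ := hfix R
  have hcard : Nat.card G = Nat.card K * Nat.card R := hKR.card_mul.symm
  -- conjugates of `R` and `K` cover `G`
  let T : K × {r : R // r ≠ 1} → G := fun x => (x.1 : G) * (x.2.1 : G) * (x.1 : G)⁻¹
  have hTK : ∀ x, T x ∉ K := by
    rintro ⟨k, r⟩ h
    have h1 : ((r.1 : R) : G) ∈ K := by
      have h2 := ‹K.Normal›.conj_mem _ h ((k : G)⁻¹)
      simpa [T, mul_assoc] using h2
    exact r.2 (Subtype.ext (Subgroup.mem_bot.mp (hKR.disjoint.le_bot ⟨h1, r.1.2⟩)))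
  have hTinj : Function.Injective T := by
    rintro ⟨k, r, hr⟩ ⟨k', r', hr'⟩ h
    simp only [T] at h
    set w := (k' : G)⁻¹ * k with hw
    have hwK : w ∈ K := mul_mem (inv_mem k'.2) k.2
    have h1 : w * r * w⁻¹ = r' := by
      calc w * r * w⁻¹ = (k' : G)⁻¹ * ((k : G) * r * (k : G)⁻¹) * k' := by rw [hw]; group
        _ = r' := by rw [h]; group
    have h2 : (r' : G) * (r : G)⁻¹ ∈ K := by
      rw [← h1, show w * r * w⁻¹ * (r : G)⁻¹ = w * ((r : G) * w⁻¹ * (r : G)⁻¹) by group]
      exact mul_mem hwK (‹K.Normal›.conj_mem _ (inv_mem hwK) _)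
    have h3 : r' = r := Subtype.ext (mul_inv_eq_one.mp (Subgroup.mem_bot.mp
      (hKR.disjoint.le_bot (Subgroup.mem_inf.mpr ⟨h2, mul_mem r'.2 (inv_mem r.2)⟩))))
    subst h3
    have h4 : w = 1 := hfpf r' r'.2 (fun h' => hr (Subtype.ext h')) w hwK
      (mul_inv_eq_iff_eq_mul.mp h1).symm
    have h5 : k = k' := Subtype.ext (inv_mul_eq_one.mp h4).symm
    subst h5
    rfl
  have himage : (Finset.univ.image T) = Finset.univ.filter fun g => g ∉ K := by
    refine Finset.eq_of_subset_of_card_le (fun g hg => ?_) ?_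
    · obtain ⟨x, -, rfl⟩ := Finset.mem_image.mp hg
      exact Finset.mem_filter.mpr ⟨Finset.mem_univ _, hTK x⟩
    · rw [Finset.card_image_of_injective _ hTinj, Finset.card_univ, Fintype.card_prod,
        Fintype.card_subtype_compl, Fintype.card_subtype_eq, Finset.filter_not,
        Finset.card_sdiff_of_subset (Finset.filter_subset _ _), Finset.card_univ,
        ← Fintype.card_subtype, ← Nat.card_eq_fintype_card, hcard, Nat.card_eq_fintype_card,
        Nat.card_eq_fintype_card, Nat.mul_sub, mul_one]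
  have hR1 : ∑ r : R, χ r = ∑ r : {r : R // r ≠ 1}, χ r.1 + χ 1 := by
    rw [← Finset.sum_erase_add _ _ (Finset.mem_univ (1 : R))]
    congr 1
    exact Finset.sum_subtype (p := fun r : R => r ≠ 1) _ (fun r => by simp) (fun r => χ r)
  have hsum : ∑ g : G, χ g = ∑ k : K, χ k + (Fintype.card K) • ∑ r : {r : R // r ≠ 1}, χ r.1 := by
    rw [← Finset.sum_filter_add_sum_filter_not Finset.univ (fun g : G => g ∈ K)]
    congr 1
    · exact Finset.sum_subtype (p := fun g : G => g ∈ K) _ (fun g => by simp) χ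
    · rw [← himage, Finset.sum_image hTinj.injOn, Fintype.sum_prod_type]
      simp only [T, hconj]
      rw [Finset.sum_const, Finset.card_univ]
  have htop : ∑ g : (⊤ : Subgroup G), χ g = ∑ g : G, χ g :=
    Fintype.sum_equiv Subgroup.topEquiv.toEquiv _ _ fun g => rfl
  rw [htop] at hsG
  rw [hsG, hsK] at hsum
  rw [hR1, hχ1] at hsR
  rw [Subgroup.card_top] at hsum
  -- the congruence is an equality
  have heq : ((Nat.card G * rG + Nat.card K * d : ℕ) : ZMod (ℓ ^ (B + 1))) =
      (Nat.card K * rK + Nat.card G * rR : ℕ) := by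
    rw [hcard, Nat.cast_add, Nat.cast_add, mul_assoc (Nat.card K) (Nat.card R) rR]
    rw [hcard] at hsum
    rw [Nat.cast_mul (Nat.card K) (Nat.card R * rR), ← hsR, hsum, nsmul_eq_mul,
      ← Nat.card_eq_fintype_card, Nat.cast_mul (Nat.card K) d]
    ring
  have hlt : ∀ a b : ℕ, a ≤ d → b ≤ d → Nat.card G * a + Nat.card G * b < ℓ ^ (B + 1) := by
    intro a b ha hb
    have h1 : B < ℓ ^ (B + 1) := (Nat.lt_succ_self B).trans (Nat.lt_pow_self hℓ.out.one_lt)
    have h2 : d ≤ Nat.card V := hd ▸ (Nat.lt_pow_self hℓ.out.one_lt).le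
    nlinarith [Nat.card_pos (α := G)]
  have hKG : Nat.card K ≤ Nat.card G := Subgroup.card_le_card_group K
  rw [ZMod.natCast_eq_natCast_iff', Nat.mod_eq_of_lt, Nat.mod_eq_of_lt] at heq
  · rw [hd, hcG, hcK, hcR, ← pow_mul, ← pow_mul, ← pow_mul, ← pow_mul, ← pow_add, ← pow_add]
    congr 1
    linarith
  · have := hlt rK rR hrK hrR
    nlinarith [Nat.mul_le_mul_right rK hKG]
  · have := hlt rG d hrG le_rfl
    nlinarith [Nat.mul_le_mul_right d hKG]

end Cfsg.Agent.OddLocal43
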