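import Cfsg.Agent.OddLocal43.OddFixedPointFree
import Cfsg.Agent.OddLocal43.FrobeniusAction
import Cfsg.Agent.OddLocal43.RankTwoStructure
import Cfsg.Agent.Lib.Coprime.Generation
import Cfsg.Agent.Lib.Coprime.Abelian

/-!
# The configuration excluded in the proof of BG 3.6

A `q`-group `Q` and a `p`-group `P = [P, R]` acting on an elementary abelian `p`-group `V`, `R` of prime
order, everything odd, with `C_{VP}(R)` and `C_Q(R)` cyclic: then `P` centralizes `Q`.
-/

set_option autoImplicit false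

namespace Cfsg.Agent.OddLocal43

open Subgroup
open scoped commutatorElement Pointwise

variable {X : Type*} [Group X]

/-- Two groups normalizing a cyclic subgroup act on it by commuting automorphisms. -/
theorem commutator_le_centralizer_of_isCyclic {N P R : Subgroup X} (hN : IsCyclic N)
    (hP : P ≤ normalizer (N : Set X)) (hR : R ≤ normalizer (N : Set X)) :
    ⁅P, R⁆ ≤ centralizer (N : Set X) := by
  rw [commutator_le]
  intro g hg h hh
  have hcomm : normalizerMonoidHom N ⟨g, hP hg⟩ * normalizerMonoidHom N ⟨h, hR hh⟩ =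
      normalizerMonoidHom N ⟨h, hR hh⟩ * normalizerMonoidHom N ⟨g, hP hg⟩ := by
    apply MulEquiv.ext
    intro c
    obtain ⟨m, hm⟩ := MonoidHom.map_cyclic (normalizerMonoidHom N ⟨g, hP hg⟩).toMonoidHom
    obtain ⟨n, hn⟩ := MonoidHom.map_cyclic (normalizerMonoidHom N ⟨h, hR hh⟩).toMonoidHom
    have hm' : ∀ c, normalizerMonoidHom N ⟨g, hP hg⟩ c = c ^ m := hm
    have hn' : ∀ c, normalizerMonoidHom N ⟨h, hR hh⟩ c = c ^ n := hn
    rw [MulAut.mul_apply, MulAut.mul_apply, hn' c, hm' (c ^ n), hm' c, hn' (c ^ m), ← zpow_mul,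
      ← zpow_mul, mul_comm]
  rw [← commutatorElement_eq_one_iff_mul_comm, ← map_commutatorElement, ← MonoidHom.mem_ker,
    normalizerMonoidHom_ker, mem_subgroupOf] at hcomm
  exact hcomm

variable [Finite X]

/-- BG 3.4 inside an ambient group, for a `q`-group acting faithfully. -/
theorem le_centralizer_of_fixedPointFree_odd {ℓ q r : ℕ} [hℓ : Fact ℓ.Prime] [hq : Fact q.Prime]
    (hr : r.Prime) (hℓq : ℓ ≠ q) (hℓr : ℓ ≠ r) (hqr : q ≠ r) (hq2 : q ≠ 2) {V Q R : Subgroup X}
    (hV : Cfsg.IsElementaryAbelian ℓ V) (hQ : IsPGroup q Q) (hR : Nat.card R = r)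
    (hQV : Q ≤ normalizer (V : Set X)) (hRV : R ≤ normalizer (V : Set X))
    (hRQ : R ≤ normalizer (Q : Set X)) (hfaith : Q ⊓ centralizer (V : Set X) = ⊥)
    (hC : V ⊓ centralizer (R : Set X) = ⊥) : Q ≤ centralizer (R : Set X) := by
  intro k hk
  rw [mem_centralizer_iff]
  intro x hx
  by_cases hx1 : x = 1
  · rw [hx1, one_mul, mul_one]
  have hxgen : zpowers x = R := by
    haveI := Fact.mk hr
    refine eq_of_le_of_card_ge (zpowers_le.mpr hx) ?_
    rw [Nat.card_zpowers, hR, orderOf_eq_prime (p := r) ?_ hx1]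
    rw [← hR]; exact congrArg Subtype.val (pow_card_eq_one' (x := (⟨x, hx⟩ : R)))
  let φ : ↥Q →* MulAut V := (normalizerMonoidHom V).comp (inclusion hQV)
  let τ : MulAut V := normalizerMonoidHom V ⟨x, hRV hx⟩
  have hτr : τ ^ r = 1 := by
    show normalizerMonoidHom V _ ^ r = 1
    rw [← map_pow, show (⟨x, hRV hx⟩ : normalizer (V : Set X)) ^ r = 1 from Subtype.ext
      (show x ^ r = 1 from hR ▸ congrArg Subtype.val (pow_card_eq_one' (x := (⟨x, hx⟩ : R)))), map_one]
  have hφv : ∀ (u : Q) (v : V), ((φ u v : V) : X) = (u : X) * v * (u : X)⁻¹ := fun u v => by simp [φ]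
  have hτv : ∀ v : V, ((τ v : V) : X) = x * v * x⁻¹ := fun v => by simp [τ]
  have hcomm := autCommute_of_fixedPointFree_odd (ℓ := ℓ) (q := q) hr hℓq hℓr hqr hq2
    (fun a b => hV.1.is_comm.comm a b) (fun v => Subtype.ext (hV.2 v v.2)) hQ φ τ hτr
    (fun v hv => by
      have h1 : (v : X) ∈ V ⊓ centralizer (R : Set X) := by
        refine ⟨v.2, ?_⟩
        rw [← hxgen, zpowers_eq_closure, centralizer_closure]
        refine mem_centralizer_singleton_iff.mpr ?_
        have h := congrArg Subtype.val hv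
        rw [hτv] at h
        exact (mul_inv_eq_iff_eq_mul.mp h).symm
      rw [hC] at h1
      exact Subtype.ext (mem_bot.mp h1))
    (fun u => by
      refine ⟨⟨x * u * x⁻¹, (mem_normalizer_iff.mp (hRQ hx) u).mp u.2⟩, MulEquiv.ext fun v => Subtype.ext ?_⟩
      obtain ⟨w, rfl⟩ := τ.surjective v
      rw [MulAut.mul_apply, MulAut.mul_apply, MulAut.inv_def, MulEquiv.symm_apply_apply, hφv, hτv, hτv, hφv]
      group) ⟨k, hk⟩
  -- the commutator of `x` and `k` centralizes `V`
  have hu : x * k * x⁻¹ * k⁻¹ ∈ Q ⊓ centralizer (V : Set X) := by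
    refine mem_inf.mpr ⟨mul_mem ((mem_normalizer_iff.mp (hRQ hx) k).mp hk) (inv_mem hk), ?_⟩
    rw [mem_centralizer_iff]
    intro v hv
    obtain ⟨w, hw⟩ := (φ ⟨k, hk⟩ * τ).surjective ⟨v, hv⟩
    have h1 := congrArg Subtype.val (DFunLike.congr_fun hcomm w)
    have h2 := congrArg Subtype.val hw
    simp only [MulAut.mul_apply, hφv, hτv] at h1 h2
    calc v * (x * k * x⁻¹ * k⁻¹) = k * (x * w * x⁻¹) * k⁻¹ * (x * k * x⁻¹ * k⁻¹) := by rw [h2]
      _ = x * (k * w * k⁻¹) * x⁻¹ * (x * k * x⁻¹ * k⁻¹) := by rw [h1]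
      _ = x * k * x⁻¹ * k⁻¹ * (k * (x * w * x⁻¹) * k⁻¹) := by group
      _ = x * k * x⁻¹ * k⁻¹ * v := by rw [h2]
  rw [hfaith, mem_bot, mul_inv_eq_one, mul_inv_eq_iff_eq_mul] at hu
  exact hu

/-- Subgroups of prime order meeting in the identity do not lie in a common cyclic group. -/
theorem eq_bot_of_isCyclic_of_inf {p : ℕ} [hp : Fact p.Prime] {D A B : Subgroup X} (hD : IsCyclic D)
    (hA : A ≤ D) (hB : B ≤ D) (hA1 : A ≠ ⊥) (hAp : IsPGroup p A) (hBp : IsPGroup p B)
    (h : A ⊓ B = ⊥) : B = ⊥ := by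
  by_contra hB1
  obtain ⟨a, haA, ha⟩ : ∃ a ∈ A, orderOf a = p := by
    have := PGroup.dvd_card_of_ne_bot (p := p) hAp (H := (⊤ : Subgroup A))
      (fun h' => hA1 (by
        have := congrArg (Subgroup.map A.subtype) h'
        rwa [← MonoidHom.range_eq_map, range_subtype, Subgroup.map_bot] at this))
    rw [card_top] at this
    obtain ⟨a, ha⟩ := exists_prime_orderOf_dvd_card' p this
    exact ⟨a, a.2, by rw [← ha, orderOf_coe]⟩
  obtain ⟨b, hbB, hb⟩ : ∃ b ∈ B, orderOf b = p := by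
    have := PGroup.dvd_card_of_ne_bot (p := p) hBp (H := (⊤ : Subgroup B))
      (fun h' => hB1 (by
        have := congrArg (Subgroup.map B.subtype) h'
        rwa [← MonoidHom.range_eq_map, range_subtype, Subgroup.map_bot] at this))
    rw [card_top] at this
    obtain ⟨a, ha⟩ := exists_prime_orderOf_dvd_card' p this
    exact ⟨a, a.2, by rw [← ha, orderOf_coe]⟩
  have heq : (⟨b, hB hbB⟩ : D) ∈ zpowers (⟨a, hA haA⟩ : D) := by
    classical
    cases nonempty_fintype D
    by_contra hne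
    set S := zpowers (⟨a, hA haA⟩ : D) with hS
    have hScard : Nat.card S = p := by rw [hS, Nat.card_zpowers, orderOf_mk, ha]
    have hle : Nat.card {x : D // x ^ p = 1} ≤ p := by
      rw [Nat.card_eq_fintype_card, Fintype.card_subtype]
      exact IsCyclic.card_pow_eq_one_le hp.out.pos
    have hinj : Nat.card (Option S) ≤ Nat.card {x : D // x ^ p = 1} := by
      refine Nat.card_le_card_of_injective
        (fun o => match o with
          | none => ⟨⟨b, hB hbB⟩, Subtype.ext (by show b ^ p = 1; rw [← hb, pow_orderOf_eq_one])⟩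
          | some s => ⟨s.1, by
              rw [← hScard]; exact congrArg Subtype.val (pow_card_eq_one' (x := s))⟩) ?_
      rintro (_ | s) (_ | s') h'
      · rfl
      · have h2 : (⟨b, hB hbB⟩ : D) = s'.1 := congrArg (fun t => t.1) h'
        exact absurd (h2 ▸ s'.2) hne
      · have h2 : s.1 = (⟨b, hB hbB⟩ : D) := congrArg (fun t => t.1) h'
        exact absurd (h2 ▸ s.2) hne
      · exact congrArg some (Subtype.ext (congrArg (fun t => t.1) h'))
    rw [Finite.card_option, hScard] at hinj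
    omega
  obtain ⟨k, hk⟩ := mem_zpowers_iff.mp heq
  have hk' : a ^ k = b := by simpa using congrArg Subtype.val hk
  have hbA : b ∈ A ⊓ B := ⟨hk' ▸ zpow_mem haA k, hbB⟩
  rw [h, mem_bot] at hbA
  rw [hbA, orderOf_one] at hb
  exact hp.out.ne_one hb.symm

/-- A coprime abelian action: subgroups with prime index and non-trivial fixed points give
independent fixed-point spaces. -/
theorem eq_one_of_prod_eq_one {q : ℕ} [hq : Fact q.Prime] {V Q : Subgroup X}
    (hVc : IsMulCommutative V) (hQc : IsMulCommutative Q) (hQV : Q ≤ normalizer (V : Set X))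
    (hCV : V ⊓ centralizer (Q : Set X) = ⊥) (f : Subgroup X → V) :
    ∀ S : Finset (Subgroup X), (∀ Y ∈ S, Y ≤ Q ∧ Nat.card Y * q = Nat.card Q ∧
        (f Y : X) ∈ centralizer (Y : Set X)) →
      (letI : CommGroup V := { (inferInstance : Group V) with mul_comm := hVc.is_comm.comm }
       ∏ Y ∈ S, f Y = 1) → ∀ Y ∈ S, f Y = 1 := by
  classical
  letI : CommGroup V := { (inferInstance : Group V) with mul_comm := hVc.is_comm.comm }
  intro S
  induction hn : S.card using Nat.strong_induction_on generalizing S f with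
  | _ n ih =>
  intro hS hprod Y hY
  by_cases hone : S = {Y}
  · simpa [hone] using hprod
  obtain ⟨Y', hY', hne⟩ : ∃ Y' ∈ S, Y' ≠ Y := by
    by_contra h
    push Not at h
    exact hone (Finset.eq_singleton_iff_unique_mem.mpr ⟨hY, h⟩)
  obtain ⟨hYQ, hYc, hfY⟩ := hS Y hY
  obtain ⟨hY'Q, hY'c, hfY'⟩ := hS Y' hY'
  obtain ⟨x, hxY', hxY⟩ : ∃ x ∈ Y', x ∉ Y := by
    by_contra h
    push Not at h
    exact hne (eq_of_le_of_card_ge h (Nat.le_of_mul_le_mul_right (hYc.trans hY'c.symm).le hq.out.pos))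
  let σ : MulAut V := normalizerMonoidHom V ⟨x, hQV (hY'Q hxY')⟩
  have hσ : ∀ v : V, ((σ v : V) : X) = x * v * x⁻¹ := fun v => by simp [σ]
  let D : V →* V := σ.toMonoidHom * (MonoidHom.id V)⁻¹
  have hD : ∀ v, D v = σ v * v⁻¹ := fun v => rfl
  have hD' : D (f Y') = 1 := by
    rw [hD, mul_inv_eq_one]
    apply Subtype.ext
    rw [hσ, mul_inv_eq_iff_eq_mul]
    exact mem_centralizer_iff.mp hfY' x hxY'
  have hlt : (S.erase Y').card < n := hn ▸ Finset.card_erase_lt_of_mem hY'
  have h1 : D (f Y) = 1 := by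
    refine ih _ hlt (fun Z => D (f Z)) _ rfl (fun Z hZ => ?_) ?_ Y (Finset.mem_erase.mpr ⟨hne.symm, hY⟩)
    · obtain ⟨hZQ, hZc, hfZ⟩ := hS Z (Finset.mem_of_mem_erase hZ)
      refine ⟨hZQ, hZc, ?_⟩
      rw [hD, coe_mul, coe_inv, hσ]
      refine mul_mem (mem_centralizer_iff.mpr fun c hc => ?_) (inv_mem hfZ)
      have hcx : c * x = x * c := congrArg Subtype.val
        (hQc.is_comm.comm (⟨c, hZQ hc⟩ : Q) ⟨x, hY'Q hxY'⟩)
      calc c * (x * f Z * x⁻¹) = (c * x) * f Z * x⁻¹ := by group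
        _ = x * (c * f Z) * x⁻¹ := by rw [hcx]; group
        _ = x * (f Z * c) * x⁻¹ := by rw [mem_centralizer_iff.mp hfZ c hc]
        _ = x * f Z * x⁻¹ * (x * c * x⁻¹) := by group
        _ = x * f Z * x⁻¹ * c := by rw [← hcx, mul_inv_cancel_right]
    · rw [Finset.prod_erase (f := fun Z => D (f Z)) S hD', ← map_prod, hprod, map_one]
  rw [hD, mul_inv_eq_one] at h1
  have h2 : (f Y : X) ∈ V ⊓ centralizer (Q : Set X) := by
    refine ⟨(f Y).2, ?_⟩
    have hsup : Y ⊔ zpowers x = Q := by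
      have hle : Y ⊔ zpowers x ≤ Q := sup_le hYQ (zpowers_le.mpr (hY'Q hxY'))
      refine eq_of_le_of_card_ge hle ?_
      obtain ⟨m, hm⟩ := card_dvd_of_le (le_sup_left : Y ≤ Y ⊔ zpowers x)
      have hdvd := card_dvd_of_le hle
      rw [hm, ← hYc, Nat.mul_dvd_mul_iff_left Nat.card_pos] at hdvd
      rcases (Nat.dvd_prime hq.out).mp hdvd with rfl | rfl
      · exfalso
        rw [mul_one] at hm
        exact hxY ((eq_of_le_of_card_ge (le_sup_left : Y ≤ Y ⊔ zpowers x) hm.le).ge
          (mem_sup_right (mem_zpowers x)))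
      · rw [hm, hYc]
    have hle : Y ⊔ zpowers x ≤ centralizer {(f Y : X)} := by
      refine sup_le (fun c hc => mem_centralizer_singleton_iff.mpr (mem_centralizer_iff.mp hfY c hc))
        (zpowers_le.mpr (mem_centralizer_singleton_iff.mpr ?_))
      have := congrArg Subtype.val h1
      rw [hσ] at this
      exact mul_inv_eq_iff_eq_mul.mp this
    rw [hsup] at hle
    exact mem_centralizer_iff.mpr fun c hc => mem_centralizer_singleton_iff.mp (hle hc)
  rw [hCV] at h2
  exact Subtype.ext (mem_bot.mp h2)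

end Cfsg.Agent.OddLocal43
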