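import Cfsg.Agent.OddLocal43.PLengthConfig

/-!
# BG 3.6: the excluded configuration
-/

set_option autoImplicit false

namespace Cfsg.Agent.OddLocal43

open Subgroup
open scoped commutatorElement Pointwise

variable {X : Type*} [Group X] [Finite X]

theorem no_plength_config_aux {p q r : ℕ} [hp : Fact p.Prime] [hq : Fact q.Prime] (hr : r.Prime)
    (hp2 : p ≠ 2) (hq2 : q ≠ 2) (hr2 : r ≠ 2) (hpq : p ≠ q) (hpr : p ≠ r) (hqr : q ≠ r)
    {V P R : Subgroup X} (hV : Cfsg.IsElementaryAbelian p V) (hP : IsPGroup p P)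
    (hR : Nat.card R = r) (hPV : P ≤ normalizer (V : Set X)) (hRV : R ≤ normalizer (V : Set X))
    (hRP : R ≤ normalizer (P : Set X)) (hVP : V ⊓ P = ⊥) (hPR : ⁅P, R⁆ = P)
    (hCP : IsCyclic ↥((V ⊔ P) ⊓ centralizer (R : Set X))) :
    ∀ Q : Subgroup X, IsPGroup q Q → Q ≤ normalizer (V : Set X) → P ≤ normalizer (Q : Set X) →
      R ≤ normalizer (Q : Set X) → Q ⊓ centralizer (V : Set X) = ⊥ →
      IsCyclic ↥(Q ⊓ centralizer (R : Set X)) → Q ≤ centralizer (P : Set X) := by
  intro Q
  induction Q using WellFoundedLT.induction with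
  | ind Q ih =>
  intro hQ hQV hPQ hRQ hfaith hCQ
  classical
  have hp1 := hp.out.one_lt
  have hq1 := hq.out.one_lt
  obtain ⟨eQ, heQ⟩ := IsPGroup.iff_card.mp hQ
  have hcopPQ : (Nat.card P).Coprime (Nat.card Q) := by
    obtain ⟨k, hk⟩ := IsPGroup.iff_card.mp hP
    rw [hk, heQ]
    exact ((Nat.coprime_primes hp.out hq.out).mpr hpq).pow k eQ
  have hcopRQ : (Nat.card R).Coprime (Nat.card Q) := by
    rw [hR, heQ]
    exact ((Nat.coprime_primes hr hq.out).mpr hqr.symm).pow_right eQ
  obtain ⟨eP, heP⟩ := IsPGroup.iff_card.mp hP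
  have hcopRP : (Nat.card R).Coprime (Nat.card P) := by
    rw [hR, heP]
    exact ((Nat.coprime_primes hr hp.out).mpr hpr.symm).pow_right eP
  -- proper invariant subgroups are centralized
  have hsub : ∀ M : Subgroup X, M < Q → P ≤ normalizer (M : Set X) → R ≤ normalizer (M : Set X) →
      M ≤ centralizer (P : Set X) := by
    intro M hM hPM hRM
    haveI := hCQ
    exact ih M hM (hQ.to_le hM.le) (hM.le.trans hQV) hPM hRM
      (le_bot_iff.mp ((inf_le_inf_right _ hM.le).trans hfaith.le))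
      (isCyclic_of_injective (inclusion (inf_le_inf_right _ hM.le)) (inclusion_injective _))
  by_contra hne
  have hQP : ⁅Q, P⁆ = Q := by
    refine le_antisymm (commutator_le_of_normalizes hPQ) ?_
    by_contra hle
    exact hne (le_centralizer_of_double_commutator hPQ hcopPQ (hsub _
      (lt_of_le_of_ne (commutator_le_of_normalizes hPQ) fun h => hle h.ge)
      (normalizes_commutator hPQ le_normalizer) (normalizes_commutator hRQ hRP)))
  have hQc : ¬ IsCyclic Q := by
    intro h
    exact hne (le_centralizer_symm (hPR.ge.trans (commutator_le_centralizer_of_isCyclic h hPQ hRQ)))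
  -- fixed points of `R` on `V` and on `P`
  have hCV : V ⊓ centralizer (R : Set X) ≠ ⊥ := by
    intro h
    have h1 := le_centralizer_of_fixedPointFree_odd hr hpq hpr hqr hq2 hV hQ hR hQV hRV hRQ hfaith h
    rw [inf_eq_left.mpr h1] at hCQ
    exact hQc hCQ
  have hVp : IsPGroup p V := fun v => ⟨1, Subtype.ext (by simpa using hV.2 v v.2)⟩
  have hCVle : V ⊓ centralizer (R : Set X) ≤ (V ⊔ P) ⊓ centralizer (R : Set X) :=
    inf_le_inf_right _ le_sup_left
  have hCVcard : Nat.card ↥(V ⊓ centralizer (R : Set X)) = p := by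
    haveI := hCP
    haveI : IsCyclic ↥(V ⊓ centralizer (R : Set X)) :=
      isCyclic_of_injective (inclusion hCVle) (inclusion_injective _)
    obtain ⟨d, hd⟩ := IsCyclic.exists_ofOrder_eq_natCard (α := ↥(V ⊓ centralizer (R : Set X)))
    have h3 : orderOf d ∣ p := orderOf_dvd_of_pow_eq_one (Subtype.ext (hV.2 d d.2.1))
    rw [hd] at h3
    exact ((Nat.dvd_prime hp.out).mp h3).resolve_left fun h =>
      hCV ((V ⊓ centralizer (R : Set X)).eq_bot_of_card_eq h)
  have hCPR : P ⊓ centralizer (R : Set X) = ⊥ :=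
    eq_bot_of_isCyclic_of_inf (p := p) hCP hCVle (inf_le_inf_right _ le_sup_right) hCV
      (hVp.to_le inf_le_left) (hP.to_le inf_le_left)
      (le_bot_iff.mp ((inf_le_inf inf_le_left inf_le_left).trans hVP.le))
  have hR1 : R ≠ ⊥ := fun h => by
    rw [h, card_bot] at hR; exact hr.ne_one hR.symm
  have hRgen : ∀ x ∈ R, x ≠ 1 → centralizer ({x} : Set X) = centralizer (R : Set X) := by
    intro x hx hx1
    have : zpowers x = R := by
      haveI := Fact.mk hr
      refine eq_of_le_of_card_ge (zpowers_le.mpr hx) ?_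
      rw [Nat.card_zpowers, hR, orderOf_eq_prime (p := r) ?_ hx1]
      rw [← hR]; exact congrArg Subtype.val (pow_card_eq_one' (x := (⟨x, hx⟩ : R)))
    rw [← this, zpowers_eq_closure, centralizer_closure]
  have hfpfP : ∀ x ∈ R, x ≠ 1 → P ⊓ centralizer ({x} : Set X) = ⊥ := fun x hx hx1 => by
    rw [hRgen x hx hx1, hCPR]
  have hPRinf : P ⊓ R = ⊥ := inf_eq_bot_of_coprime hcopRP.symm
  -- the Frattini subgroup
  set F := frattiniOf Q with hF
  have hFQ : F ≤ Q := frattiniOf_le Q
  have hQne : Q ≠ ⊥ := fun h => hne (by rw [h]; exact bot_le)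
  have hFlt : F < Q := frattiniOf_lt hQne
  haveI : (frattini Q).Characteristic := frattini_characteristic
  have hFn : ∀ H : Subgroup X, H ≤ normalizer (Q : Set X) → H ≤ normalizer (F : Set X) := fun H hH =>
    hH.trans (normalizes_map_characteristic (frattini Q))
  have hFP : F ≤ centralizer (P : Set X) := hsub F hFlt (hFn P hPQ) (hFn R hRQ)
  -- normal centralized subgroups are central
  have hcent : ∀ M : Subgroup X, M ≤ Q → Q ≤ normalizer (M : Set X) → M ≤ centralizer (P : Set X) →
      M ≤ centralizer (Q : Set X) := by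
    intro M hMQ hQM hMP
    have h1 : ⁅⁅Q, P⁆, M⁆ = ⊥ := by
      refine commutator_commutator_eq_bot_of_rotate ?_ ?_
      · rw [commutator_eq_bot_iff_le_centralizer.mpr (le_centralizer_symm hMP), commutator_bot_left]
      · refine le_bot_iff.mp ((commutator_mono (commutator_le_of_normalizes hQM) le_rfl).trans ?_)
        rw [commutator_eq_bot_iff_le_centralizer.mpr hMP]
    rw [hQP] at h1
    exact le_centralizer_symm (commutator_eq_bot_iff_le_centralizer.mp h1)
  have hFc : F ≤ centralizer (Q : Set X) := hcent F hFQ (hFn Q le_normalizer) hFP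
  have hQexp : ∀ u ∈ Q, u ^ q = 1 := by
    have hcl : ∀ u ∈ Q, ∀ v ∈ Q, ∀ w ∈ Q, w * ⁅u, v⁆ = ⁅u, v⁆ * w := by
      intro u hu v hv w hw
      have hF' : ⁅u, v⁆ ∈ F := mem_map.mpr ⟨⁅(⟨u, hu⟩ : Q), ⟨v, hv⟩⁆, PGroup.comm_mem_frattini hQ _ _, rfl⟩
      exact mem_centralizer_iff.mp (hFc hF') w hw
    have hclass : commutator Q ≤ center Q := by
      rw [_root_.commutator_def, commutator_le]
      exact fun u _ v _ => mem_center_iff.mpr fun w => Subtype.ext (hcl u u.2 v v.2 w w.2)
    have hcq : ∀ a b : Q, ⁅a, b⁆ ^ q = 1 := fun a b => by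
      rw [← PGroup.comm_pow_left hclass, commutatorElement_eq_one_iff_mul_comm]
      exact Subtype.ext (mem_centralizer_iff.mp (hFc (pow_mem_frattiniOf hQ a.2)) b b.2).symm
    let θ : Q →* Q := MonoidHom.mk' (fun u => u ^ q) fun a b =>
      PGroup.mul_pow_prime_classTwo hclass hq.out hq2 (hcq b a)
    have hker : ⁅Q, P⁆ ≤ θ.ker.map Q.subtype := by
      rw [commutator_le]
      intro u hu g hg
      have hu' : g * u⁻¹ * g⁻¹ ∈ Q := (mem_normalizer_iff.mp (hPQ hg) _).mp (inv_mem hu)
      refine ⟨(⟨u, hu⟩ : Q) * ⟨g * u⁻¹ * g⁻¹, hu'⟩, ?_, ?_⟩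
      · show θ _ = 1
        rw [map_mul]
        apply Subtype.ext
        show u ^ q * (g * u⁻¹ * g⁻¹) ^ q = 1
        have h : g * u ^ q = u ^ q * g :=
          mem_centralizer_iff.mp (hFP (pow_mem_frattiniOf hQ hu)) g hg
        rw [conj_pow, inv_pow]
        calc u ^ q * (g * (u ^ q)⁻¹ * g⁻¹) = (u ^ q * g) * (u ^ q)⁻¹ * g⁻¹ := by group
          _ = g * u ^ q * (u ^ q)⁻¹ * g⁻¹ := by rw [h]
          _ = 1 := by group
      · rw [commutatorElement_def]
        show u * (g * u⁻¹ * g⁻¹) = _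
        group
    intro u hu
    obtain ⟨w, hw, rfl⟩ := hker (hQP.ge hu)
    exact congrArg Subtype.val (show θ w = 1 from hw)
  -- `C_Q(R)` has order `q` and avoids the Frattini subgroup
  set C := Q ⊓ centralizer (R : Set X) with hC
  have hCle : C ≤ Q := inf_le_left
  have hPR' : P ⊔ R ≤ normalizer (Q : Set X) := sup_le hPQ hRQ
  let φQ : ↥(P ⊔ R) →* MulAut Q := (normalizerMonoidHom Q).comp (inclusion hPR')
  have hmk : ∀ (g : ↥(P ⊔ R)) (u : Q), ((φQ g u : Q) : X) = (g : X) * u * (g : X)⁻¹ := fun g u => by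
    simp [φQ]
  let φW : ↥(P ⊔ R) →* MulAut (Q ⧸ frattini Q) := quotientAction φQ (frattini Q)
  have hcopG : (Nat.card ↥(P ⊔ R)).Coprime q := by
    have hc := isComplement'_subgroupOf_sup hRP hPRinf
    rw [← hc.card_mul, Nat.card_congr (subgroupOfEquivOfLe le_sup_left).toEquiv,
      Nat.card_congr (subgroupOfEquivOfLe le_sup_right).toEquiv, heP, hR]
    exact Nat.Coprime.mul_left (((Nat.coprime_primes hp.out hq.out).mpr hpq).pow_left eP)
      ((Nat.coprime_primes hr hq.out).mpr hqr.symm)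
  have hFmem : ∀ u : Q, (u : X) ∈ F ↔ u ∈ frattini Q := fun u => by
    constructor
    · rintro ⟨w, hw, hwu⟩; rwa [← Q.subtype_injective hwu]
    · intro h; exact ⟨u, h, rfl⟩
  have hCnF : ¬ C ≤ F := by
    intro hCF
    have : (P.subgroupOf (P ⊔ R)).Normal :=
      normal_subgroupOf_of_le_normalizer (sup_le le_normalizer hRP)
    have h := frobenius_fixed_card (ℓ := q) (fun a b : Q ⧸ frattini Q => PGroup.quotient_frattini_commute hQ a b)
      (fun a => PGroup.quotient_frattini_pow hQ a) φW hcopG (P.subgroupOf (P ⊔ R)) (R.subgroupOf (P ⊔ R))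
      (isComplement'_subgroupOf_sup hRP hPRinf) (by
        intro x hx hx1 k hk hcomm
        have h1 : (k : X) ∈ P ⊓ centralizer ({(x : X)} : Set X) :=
          ⟨hk, mem_centralizer_singleton_iff.mpr (congrArg Subtype.val hcomm).symm⟩
        rw [hfpfP x hx fun h => hx1 (Subtype.ext h)] at h1
        exact Subtype.ext (mem_bot.mp h1))
    have hfR : fixedBy φW (R.subgroupOf (P ⊔ R)) = ⊥ := by
      rw [eq_bot_iff_forall]
      intro w hw
      induction w using QuotientGroup.induction_on with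
      | H u =>
        have hfix : ∀ a ∈ R, a * u * a⁻¹ * (u : X)⁻¹ ∈ F := by
          intro a ha
          have h2 := hw ⟨a, mem_sup_right ha⟩ ha
          have h3 : (QuotientGroup.mk (φQ ⟨a, mem_sup_right ha⟩ u) : Q ⧸ frattini Q) = QuotientGroup.mk u := h2
          have h4 : φQ ⟨a, mem_sup_right ha⟩ u * u⁻¹ ∈ frattini Q := by
            rw [← QuotientGroup.eq_one_iff, QuotientGroup.mk_mul, QuotientGroup.mk_inv, h3, mul_inv_cancel]
          have h5 := (hFmem _).mpr h4
          rwa [coe_mul, coe_inv, hmk] at h5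
        obtain ⟨n, hn, hun⟩ := Coprime.exists_fixed_in_coset_of_normal R F (hFn R hRQ)
          (hcopRQ.coprime_dvd_right (card_dvd_of_le hFQ))
          (Or.inr (Coprime.isSolvable_of_isNilpotent' (hQ.to_le hFQ).isNilpotent)) u
          (hFn Q le_normalizer u.2) hfix
        have h6 : (u : X) * n ∈ F := hCF ⟨mul_mem u.2 (hFQ hn), hun⟩
        have h7 : (u : X) ∈ F := by simpa using mul_mem h6 (inv_mem hn)
        exact (QuotientGroup.eq_one_iff u).mpr ((hFmem u).mp h7)
    have hfG : fixedBy φW (⊤ : Subgroup ↥(P ⊔ R)) = ⊥ :=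
      eq_bot_iff.mpr fun w hw => hfR.le fun a _ => hw a trivial
    rw [hfR, hfG] at h
    simp only [card_bot, one_pow, mul_one] at h
    have h1 : fixedBy φW (P.subgroupOf (P ⊔ R)) = ⊤ :=
      eq_top_of_card_eq _ (Nat.pow_left_injective Nat.card_pos.ne' h).symm
    -- then `P` centralizes `Q`
    refine hFlt.ne (le_antisymm hFQ ?_)
    rw [← hQP, commutator_le]
    intro u hu g hg
    have h2 := (h1.ge (mem_top (QuotientGroup.mk (⟨u, hu⟩ : Q) : Q ⧸ frattini Q))) ⟨g, mem_sup_left hg⟩ hg
    have h3 : (QuotientGroup.mk (φQ ⟨g, mem_sup_left hg⟩ ⟨u, hu⟩) : Q ⧸ frattini Q) =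
        QuotientGroup.mk ⟨u, hu⟩ := h2
    have h4 : (⟨u, hu⟩ : Q) * (φQ ⟨g, mem_sup_left hg⟩ ⟨u, hu⟩)⁻¹ ∈ frattini Q := by
      rw [← QuotientGroup.eq_one_iff, QuotientGroup.mk_mul, QuotientGroup.mk_inv, h3, mul_inv_cancel]
    have h5 := (hFmem _).mpr h4
    rw [coe_mul, coe_inv, hmk] at h5
    simp only [mul_inv_rev, inv_inv] at h5
    rw [commutatorElement_def]
    simpa [mul_assoc] using h5
  obtain ⟨c, hcC, hcF⟩ := SetLike.not_le_iff_exists.mp hCnF
  have hc1 : c ≠ 1 := fun h => hcF (h ▸ one_mem _)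
  have hcq : orderOf c = q := orderOf_eq_prime (hQexp c hcC.1) hc1
  have hCcard : Nat.card C = q := by
    haveI := hCQ
    obtain ⟨d, hd⟩ := IsCyclic.exists_ofOrder_eq_natCard (α := C)
    have h3 : orderOf d ∣ q := orderOf_dvd_of_pow_eq_one (Subtype.ext (hQexp d d.2.1))
    rw [hd] at h3
    exact ((Nat.dvd_prime hq.out).mp h3).resolve_left fun h => hc1 (mem_bot.mp (C.eq_bot_of_card_eq h ▸ hcC))
  have hCgen : zpowers c = C := eq_of_le_of_card_ge (zpowers_le.mpr hcC) (by rw [hCcard, Nat.card_zpowers, hcq])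
  -- the kernel `K = [Q, R]`
  set K := ⁅Q, R⁆ with hK
  have hKQ : K ≤ Q := commutator_le_of_normalizes hRQ
  have hRK : R ≤ normalizer (K : Set X) := normalizes_commutator hRQ le_normalizer
  have hQK : Q ≤ normalizer (K : Set X) := Coprime.le_normalizer_commutator_left R Q
  have hKCQ : K ⊔ C = Q := Coprime.commutator_sup_centralizer R Q hRQ hcopRQ
    (Or.inr (Coprime.isSolvable_of_isNilpotent' hQ.isNilpotent))
  have hcK : c ∉ K := by
    intro hc
    have hKeq : K = Q := by
      rw [← hKCQ, eq_comm, sup_eq_left, ← hCgen]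
      exact zpowers_le.mpr hc
    let φR : ↥R →* MulAut Q := (normalizerMonoidHom Q).comp (inclusion hRQ)
    have hgen : closure {z : Q | ∃ a v, z = φR a v * v⁻¹} = ⊤ := by
      rw [eq_top_iff]
      intro z _
      have h1 : ⁅Q, R⁆ ≤ (closure {z : Q | ∃ a v, z = φR a v * v⁻¹}).map Q.subtype := by
        refine commutator_le.mpr fun v hv a ha => ?_
        refine ⟨(φR ⟨a, ha⟩ ⟨v, hv⟩ * (⟨v, hv⟩ : Q)⁻¹)⁻¹,
          inv_mem (subset_closure ⟨⟨a, ha⟩, ⟨v, hv⟩, rfl⟩), ?_⟩
        simp [φR, commutatorElement_def, mul_assoc]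
      obtain ⟨z', hz', he⟩ := h1 (hKeq.ge z.2)
      rwa [← Q.subtype_injective he]
    refine hcF ((hFmem ⟨c, hcC.1⟩).mpr (mem_of_fixed_of_gen φR hgen (frattini Q)
      (fun a b => PGroup.comm_mem_frattini hQ a b) hcopRQ
      (fun a z hz => (characteristic_iff_le_comap.mp frattini_characteristic (φR a)) hz) fun a => ?_))
    have : φR a ⟨c, hcC.1⟩ = ⟨c, hcC.1⟩ := Subtype.ext (by
      simp only [φR, MonoidHom.coe_comp, Function.comp_apply, normalizerMonoidHom_apply_apply_coe,
        coe_inclusion]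
      exact mul_inv_eq_iff_eq_mul.mpr (mem_centralizer_iff.mp hcC.2 a a.2))
    rw [this, mul_inv_cancel]
    exact one_mem _
  have hKR : K ⊓ centralizer (R : Set X) = ⊥ := by
    by_contra h
    have hle : K ⊓ centralizer (R : Set X) ≤ C := inf_le_inf_right _ hKQ
    have := eq_of_le_of_card_ge hle (by
      rw [hCcard]
      exact PGroup.le_card_of_ne_bot (p := q) (hQ.to_le hCle) (H := (K ⊓ centralizer (R : Set X)).subgroupOf C)
        (fun h' => h (le_bot_iff.mp ((le_inf le_rfl hle).trans (disjoint_iff.mp (subgroupOf_eq_bot.mp h')).le)))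
        |>.trans (Nat.card_congr (subgroupOfEquivOfLe hle).toEquiv).le)
    exact hcK ((this ▸ hcC : c ∈ K ⊓ centralizer (R : Set X)).1)
  have hKidx : Nat.card Q ≤ Nat.card K * q := by
    rw [← hKCQ, ← hCcard]
    refine le_trans ?_ (le_of_eq (Nat.card_prod K C))
    refine Nat.card_le_card_of_surjective (fun kc => (⟨(kc.1 : X) * kc.2,
      mul_mem_sup kc.1.2 kc.2.2⟩ : ↥(K ⊔ C))) ?_
    rintro ⟨u, hu⟩
    have hu' : u ∈ ((K ⊔ C : Subgroup X) : Set X) := hu
    rw [coe_mul_of_right_le_normalizer_left K C (hCle.trans hQK)] at hu'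
    obtain ⟨k, hk, w, hw, rfl⟩ := hu'
    exact ⟨(⟨k, hk⟩, ⟨w, hw⟩), rfl⟩
  have hKc : IsMulCommutative K := by
    have hKRinf : K ⊓ R = ⊥ :=
      le_bot_iff.mp ((inf_le_inf_right R hKQ).trans (inf_eq_bot_of_coprime hcopRQ.symm).le)
    have hcop : (Nat.card ↥(K ⊔ R)).Coprime p := by
      have hc := isComplement'_subgroupOf_sup hRK hKRinf
      obtain ⟨k, hk⟩ := IsPGroup.iff_card.mp (hQ.to_le hKQ)
      rw [← hc.card_mul, Nat.card_congr (subgroupOfEquivOfLe le_sup_left).toEquiv,
        Nat.card_congr (subgroupOfEquivOfLe le_sup_right).toEquiv, hk, hR]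
      exact Nat.Coprime.mul_left (((Nat.coprime_primes hq.out hp.out).mpr hpq.symm).pow_left k)
        ((Nat.coprime_primes hr hp.out).mpr hpr.symm)
    have h35 := commutator_le_centralizer_of_card_prime K R V hV hcop hRK hKRinf
      (fun x hx hx1 => by rw [hRgen x hx hx1, hKR]) (hQ.to_le hKQ).isNilpotent (hKQ.trans hQV) hRV hCVcard
    refine ⟨⟨fun a b => Subtype.ext ?_⟩⟩
    have : ⁅(a : X), (b : X)⁆ ∈ Q ⊓ centralizer (V : Set X) :=
      mem_inf.mpr ⟨hKQ (commutator_le_self K (commutator_mem_commutator a.2 b.2)),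
        h35 (commutator_mem_commutator a.2 b.2)⟩
    rw [hfaith, mem_bot, commutatorElement_eq_one_iff_mul_comm] at this
    exact this
  have hKmax : ∀ M : Subgroup X, K < M → M ≤ Q → M = Q := fun M hKM hMQ => by
    refine eq_of_le_of_card_ge hMQ (hKidx.trans ?_)
    rw [mul_comm]
    exact mul_le_card_of_lt hq.out (hQ.to_le hMQ) hKM
  -- `Q` is abelian
  have hQab : ∀ a ∈ Q, ∀ b ∈ Q, a * b = b * a := by
    by_cases hKP : P ≤ normalizer (K : Set X)
    · have hKlt : K < Q := lt_of_le_of_ne hKQ fun h => hcK (h ▸ hcC.1)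
      have hKc' := hcent K hKQ hQK (hsub K hKlt hKP hRK)
      have hle : Q ≤ centralizer (Q : Set X) := by
        conv_lhs => rw [← hKCQ]
        refine sup_le hKc' ?_
        rw [← hCgen, zpowers_le, mem_centralizer_iff]
        intro v hv
        have hle' : Q ≤ centralizer {c} := by
          rw [← hKCQ, ← hCgen]
          refine sup_le (fun k hk => ?_) (zpowers_le.mpr (mem_centralizer_singleton_iff.mpr rfl))
          exact mem_centralizer_singleton_iff.mpr ((mem_centralizer_iff.mp (hKc' hk) c hcC.1).symm)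
        exact mem_centralizer_singleton_iff.mp (hle' hv)
      exact fun a ha b hb => mem_centralizer_iff.mp (hle hb) a ha
    · obtain ⟨g, hg, hgK⟩ := SetLike.not_le_iff_exists.mp hKP
      set K' := K.map (MulAut.conj g : X ≃* X).toMonoidHom with hK'
      have hK'Q : K' ≤ Q := by
        rintro _ ⟨k, hk, rfl⟩
        exact (mem_normalizer_iff.mp (hPQ hg) k).mp (hKQ hk)
      have hK'ne : K' ≠ K := fun h => hgK (mem_normalizer_iff_map_conj_eq.mpr h)
      have hcardK' : Nat.card K' = Nat.card K :=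
        card_map_of_injective (MulAut.conj g : X ≃* X).injective
      have hnle : ¬ K' ≤ K := fun h => hK'ne (eq_of_le_of_card_ge h hcardK'.ge)
      obtain ⟨u, hu, huK⟩ := SetLike.not_le_iff_exists.mp hnle
      have hKu : K ⊔ zpowers u = Q := hKmax _ (lt_of_le_of_ne le_sup_left fun h =>
        huK (h.symm ▸ mem_sup_right (mem_zpowers u))) (sup_le hKQ (zpowers_le.mpr (hK'Q hu)))
      set Z := Q ⊓ centralizer (Q : Set X) with hZ
      have hK'c : ∀ a ∈ K', ∀ b ∈ K', a * b = b * a := by
        rintro _ ⟨a, ha, rfl⟩ _ ⟨b, hb, rfl⟩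
        rw [← map_mul, ← map_mul]
        exact congrArg _ (congrArg Subtype.val (hKc.is_comm.comm (⟨a, ha⟩ : K) ⟨b, hb⟩))
      have hKK'Z : K ⊓ K' ≤ Z := by
        refine le_inf (inf_le_left.trans hKQ) (le_centralizer_symm ?_)
        rw [← hKu]
        refine sup_le (fun k hk => mem_centralizer_iff.mpr fun d hd => ?_) (zpowers_le.mpr
          (mem_centralizer_iff.mpr fun d hd => hK'c d hd.2 u hu))
        exact congrArg Subtype.val (hKc.is_comm.comm (⟨d, hd.1⟩ : K) ⟨k, hk⟩)
      -- `Q / Z` has order at most `q ^ 2`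
      have hZidx : (Z.subgroupOf Q).index ≤ q ^ 2 := by
        have h1 : ((K ⊓ K').subgroupOf Q).index ≤ q ^ 2 := by
          have hK1 : (K.subgroupOf Q).index ≤ q := by
            have := (K.subgroupOf Q).card_mul_index
            rw [Nat.card_congr (subgroupOfEquivOfLe hKQ).toEquiv] at this
            exact Nat.le_of_mul_le_mul_left (this.le.trans hKidx) Nat.card_pos
          have hK2 : (K'.subgroupOf Q).index ≤ q := by
            have := (K'.subgroupOf Q).card_mul_index
            rw [Nat.card_congr (subgroupOfEquivOfLe hK'Q).toEquiv, hcardK'] at this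
            exact Nat.le_of_mul_le_mul_left (this.le.trans hKidx) Nat.card_pos
          rw [show (K ⊓ K').subgroupOf Q = K.subgroupOf Q ⊓ K'.subgroupOf Q from comap_inf _ _ _, sq]
          exact index_inf_le.trans (Nat.mul_le_mul hK1 hK2)
        exact (index_antitone (H := (K ⊓ K').subgroupOf Q) (K := Z.subgroupOf Q)
          fun w (hw : (w : X) ∈ K ⊓ K') => hKK'Z hw).trans h1
      have hZcq : Z.subgroupOf Q = center Q := by
        ext w
        rw [mem_subgroupOf, hZ, mem_inf, mem_center_iff, mem_centralizer_iff]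
        exact ⟨fun h v => Subtype.ext (h.2 v v.2), fun h => ⟨w.2, fun v hv => congrArg Subtype.val (h ⟨v, hv⟩)⟩⟩
      rw [hZcq] at hZidx
      have hWc : ∀ a b : Q ⧸ center Q, a * b = b * a := by
        intro a b
        obtain ⟨a, rfl⟩ := QuotientGroup.mk'_surjective _ a
        obtain ⟨b, rfl⟩ := QuotientGroup.mk'_surjective _ b
        rw [← commutatorElement_eq_one_iff_mul_comm, ← map_commutatorElement]
        refine (QuotientGroup.eq_one_iff _).mpr (mem_center_iff.mpr fun w => Subtype.ext ?_)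
        exact mem_centralizer_iff.mp (hFc ((hFmem _).mpr (PGroup.comm_mem_frattini hQ a b))) w w.2
      have hWe : ∀ a : Q ⧸ center Q, a ^ q = 1 := by
        intro a
        obtain ⟨a, rfl⟩ := QuotientGroup.mk'_surjective _ a
        rw [← map_pow, show a ^ q = 1 from Subtype.ext (hQexp a a.2), map_one]
      obtain ⟨f, hf⟩ := exists_injective_to_GL_two (p := q) hWc hWe (by rwa [← index_eq_card])
      haveI : (center Q).Characteristic := inferInstance
      let θ := f.comp (quotientAction φQ (center Q))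
      have hoddG : Odd (Nat.card ↥(P ⊔ R)) := by
        have hc := isComplement'_subgroupOf_sup hRP hPRinf
        rw [← hc.card_mul, Nat.card_congr (subgroupOfEquivOfLe le_sup_left).toEquiv,
          Nat.card_congr (subgroupOfEquivOfLe le_sup_right).toEquiv, heP, hR]
        exact (hp.out.odd_of_ne_two hp2).pow.mul (hr.odd_of_ne_two hr2)
      have hodd' : Odd (Nat.card θ.range) := hoddG.of_dvd_nat (card_range_dvd θ)
      have hsolG : Group.IsSolvable ↥(P ⊔ R) := by
        have : (P.subgroupOf (P ⊔ R)).Normal :=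
          normal_subgroupOf_of_le_normalizer (sup_le le_normalizer hRP)
        have hPs : Group.IsSolvable (P.subgroupOf (P ⊔ R)) :=
          Coprime.isSolvable_of_isNilpotent'
            ((hP.of_injective (subgroupOfEquivOfLe (le_sup_left : P ≤ P ⊔ R)).toMonoidHom
              (MulEquiv.injective _)).isNilpotent)
        have hQs : Group.IsSolvable (↥(P ⊔ R) ⧸ P.subgroupOf (P ⊔ R)) := by
          haveI := Fact.mk hr
          have hcard : Nat.card (↥(P ⊔ R) ⧸ P.subgroupOf (P ⊔ R)) = r := by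
            rw [← index_eq_card, (isComplement'_subgroupOf_sup hRP hPRinf).symm.index_eq_card,
              Nat.card_congr (subgroupOfEquivOfLe le_sup_right).toEquiv, hR]
          exact isSolvable_of_comm fun a b => PGroup.commute_of_card_prime (p := r) hcard a b
        exact solvable_of_ker_le_range (P.subgroupOf (P ⊔ R)).subtype (QuotientGroup.mk' (P.subgroupOf (P ⊔ R)))
          (by rw [QuotientGroup.ker_mk', range_subtype])
      have : Group.IsSolvable θ.range := solvable_of_surjective θ.rangeRestrict_surjective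
      have hder := isPGroup_commutator_of_GL_two hq2 hodd' θ.range.subtype θ.range.subtype_injective
      -- so `P` acts trivially
      have hPtriv : ∀ (g : X) (hg : g ∈ P), θ ⟨g, mem_sup_left hg⟩ = 1 := by
        intro g hg
        have hgd : g ∈ (commutator ↥(P ⊔ R)).map (P ⊔ R).subtype := by
          rw [map_subtype_commutator]
          exact commutator_mono le_sup_left le_sup_right (hPR.ge hg)
        obtain ⟨g', hg', hgg⟩ := hgd
        obtain rfl : g' = ⟨g, mem_sup_left hg⟩ := Subtype.ext hgg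
        have h1 : θ.rangeRestrict ⟨g, mem_sup_left hg⟩ ∈ commutator θ.range := by
          have := mem_map_of_mem θ.rangeRestrict hg'
          rw [_root_.commutator_def, map_commutator] at this
          exact commutator_mono le_top le_top this
        obtain ⟨k, hk⟩ := hder ⟨_, h1⟩
        have hk' : θ.rangeRestrict ⟨g, mem_sup_left hg⟩ ^ q ^ k = 1 := congrArg Subtype.val hk
        have hone : θ.rangeRestrict ⟨g, mem_sup_left hg⟩ = 1 := by
          rw [← orderOf_eq_one_iff]
          refine Nat.eq_one_of_dvd_coprimes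
            (((Nat.coprime_primes hp.out hq.out).mpr hpq).pow eP k) ?_ (orderOf_dvd_of_pow_eq_one hk')
          refine (orderOf_map_dvd θ.rangeRestrict _).trans ?_
          rw [orderOf_mk, ← heP]
          exact orderOf_dvd_natCard P hg
        exact congrArg Subtype.val hone
      have hQZ : Q ≤ Z := by
        rw [← hQP, commutator_le]
        intro u hu g hg
        have h1 := hPtriv g hg
        have h2 : quotientAction φQ (center Q) ⟨g, mem_sup_left hg⟩ = 1 := hf (h1.trans (map_one f).symm)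
        have h3 : (QuotientGroup.mk (φQ ⟨g, mem_sup_left hg⟩ ⟨u, hu⟩) : Q ⧸ center Q) =
            QuotientGroup.mk ⟨u, hu⟩ :=
          DFunLike.congr_fun h2 (QuotientGroup.mk (⟨u, hu⟩ : Q) : Q ⧸ center Q)
        have h4 : (⟨u, hu⟩ : Q) * (φQ ⟨g, mem_sup_left hg⟩ ⟨u, hu⟩)⁻¹ ∈ center Q := by
          rw [← QuotientGroup.eq_one_iff, QuotientGroup.mk_mul, QuotientGroup.mk_inv, h3, mul_inv_cancel]
        rw [← hZcq, mem_subgroupOf, coe_mul, coe_inv, hmk] at h4
        simp only [mul_inv_rev, inv_inv] at h4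
        rw [commutatorElement_def]
        simpa [mul_assoc] using h4
      exact fun a ha b hb => mem_centralizer_iff.mp (hQZ hb).2 a ha
  haveI hQcomm : IsMulCommutative Q := ⟨⟨fun a b => Subtype.ext (hQab a a.2 b b.2)⟩⟩
  have hCQP : Q ⊓ centralizer (P : Set X) = ⊥ := by
    have := Coprime.commutator_inf_centralizer_eq_bot P Q hPQ hcopPQ
    rwa [hQP] at this
  -- replace `V` by `[V, Q]`
  set V' := ⁅V, Q⁆ with hV'
  have hV'V : V' ≤ V := commutator_le_of_normalizes hQV
  have hV'e : Cfsg.IsElementaryAbelian p V' :=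
    ⟨@isMulCommutative_mono X _ V' V hV'V hV.1, fun w hw => hV.2 w (hV'V hw)⟩
  have hQV' : Q ≤ normalizer (V' : Set X) := normalizes_commutator hQV le_normalizer
  have hRV' : R ≤ normalizer (V' : Set X) := normalizes_commutator hRV hRQ
  have hPV' : P ≤ normalizer (V' : Set X) := normalizes_commutator hPV hPQ
  have hcopQV : (Nat.card Q).Coprime (Nat.card V) := by
    obtain ⟨k, hk⟩ := IsPGroup.iff_card.mp hVp
    rw [heQ, hk]
    exact ((Nat.coprime_primes hq.out hp.out).mpr hpq.symm).pow eQ k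
  have hVc := hV.1
  have hCV' : V' ⊓ centralizer (Q : Set X) = ⊥ := Coprime.commutator_inf_centralizer_eq_bot Q V hQV hcopQV
  have hfaith' : Q ⊓ centralizer (V' : Set X) = ⊥ := by
    rw [eq_bot_iff, ← hfaith]
    intro x hx
    refine mem_inf.mpr ⟨hx.1, mem_centralizer_iff.mpr fun v hv => ?_⟩
    have hc : ⁅x, v⁆ ∈ V' := by
      rw [← commutatorElement_inv]; exact inv_mem (commutator_mem_commutator hv hx.1)
    have h1 : Commute x ⁅x, v⁆ := (mem_centralizer_iff.mp hx.2 _ hc).symm
    refine ((commute_of_stab h1 (by rw [commutatorElement_def]; group) ?_).eq).symm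
    exact Nat.Coprime.coprime_dvd_left (orderOf_dvd_natCard Q hx.1)
      (Nat.Coprime.coprime_dvd_right (orderOf_dvd_natCard V (hV'V hc)) hcopQV)
  have hQV'ne : ¬ Q ≤ centralizer (V' : Set X) := fun h =>
    hQne (by rw [← hfaith', inf_eq_left.mpr h])
  -- hyperplanes with fixed points
  let Ω : Set (Subgroup X) :=
    {Y | Y ≤ Q ∧ Nat.card Y * q = Nat.card Q ∧ V' ⊓ centralizer (Y : Set X) ≠ ⊥}
  obtain ⟨Y₀, hY₀⟩ : Ω.Nonempty := by
    have hV'ne : V' ≠ ⊥ := fun h => hQV'ne (fun x _ => mem_centralizer_iff.mpr fun v hv => by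
      rw [mem_bot.mp (h ▸ hv : v ∈ (⊥ : Subgroup X)), one_mul, mul_one])
    obtain ⟨Y, -, hY⟩ := exists_maximal_ge_of_wellFoundedGT
      (fun Y : Subgroup X => Y ≤ Q ∧ V' ⊓ centralizer (Y : Set X) ≠ ⊥) ⊥
      ⟨bot_le, fun h => hV'ne (by
        rw [← h, eq_comm, inf_eq_left]
        exact fun v _ => mem_centralizer_iff.mpr fun c hc => by rw [mem_bot.mp hc, one_mul, mul_one])⟩
    obtain ⟨⟨hYQ, hYne⟩, hYmax⟩ := hY
    have hYlt : Y < Q := lt_of_le_of_ne hYQ fun h => hYne (by rw [h, hCV'])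
    refine ⟨Y, hYQ, le_antisymm (by rw [mul_comm]; exact mul_le_card_of_lt hq.out hQ hYlt) ?_, hYne⟩
    by_contra hlt
    obtain ⟨a, haQ, haY⟩ := SetLike.exists_of_lt hYlt
    set Y₁ := Y ⊔ zpowers a with hY₁
    have hY₁Q : Y₁ ≤ Q := sup_le hYQ (zpowers_le.mpr haQ)
    have hY₁card : Nat.card Y₁ ≤ Nat.card Y * q := by
      refine le_trans ?_ (le_of_eq (by rw [← orderOf_eq_prime (hQexp a haQ) (fun h => haY (h ▸ one_mem _)),
        ← Nat.card_zpowers, ← Nat.card_prod]))
      refine Nat.card_le_card_of_surjective (fun uv : Y × zpowers a => (⟨(uv.1 : X) * uv.2,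
        mul_mem_sup uv.1.2 uv.2.2⟩ : ↥Y₁)) ?_
      rintro ⟨u, hu⟩
      have hu' : u ∈ ((Y ⊔ zpowers a : Subgroup X) : Set X) := hu
      rw [coe_mul_of_right_le_normalizer_left Y (zpowers a) (fun g hg => by
        refine mem_normalizer_iff.mpr fun y => ?_
        have hgQ : g ∈ Q := zpowers_le.mpr haQ hg
        constructor
        · intro hy
          rw [hQab g hgQ y (hYQ hy), mul_inv_cancel_right]; exact hy
        · intro hy
          have hyQ : y ∈ Q := by
            have := mul_mem (mul_mem (inv_mem hgQ) (hYQ hy)) hgQ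
            simpa [mul_assoc] using this
          rwa [hQab g hgQ y hyQ, mul_inv_cancel_right] at hy)] at hu'
      obtain ⟨k, hk, w, hw, rfl⟩ := hu'
      exact ⟨(⟨k, hk⟩, ⟨w, hw⟩), rfl⟩
    obtain ⟨b, hbQ, hbY₁⟩ := SetLike.exists_of_lt (lt_of_le_of_ne hY₁Q fun h => hlt (h ▸ hY₁card))
    set A := closure ({a, b} : Set X) with hA
    have hAQ : A ≤ Q := (closure_le _).mpr (by rintro w (rfl | rfl) <;> assumption)
    have hAcyc : ¬ IsCyclic A := by
      intro h
      obtain ⟨d, hd⟩ := h.exists_generator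
      have hdq : orderOf (d : X) ∣ q := orderOf_dvd_of_pow_eq_one (hQexp d (hAQ d.2))
      have hAgen : A ≤ zpowers (d : X) := fun w hw => by
        obtain ⟨k, hk⟩ := mem_zpowers_iff.mp (hd ⟨w, hw⟩)
        exact mem_zpowers_iff.mpr ⟨k, by simpa using congrArg Subtype.val hk⟩
      have haA : a ∈ A := subset_closure (Set.mem_insert _ _)
      have hbA : b ∈ A := subset_closure (Set.mem_insert_of_mem _ rfl)
      have heq : zpowers a = zpowers (d : X) := by
        refine eq_of_le_of_card_ge (zpowers_le.mpr (hAgen haA)) ?_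
        rw [Nat.card_zpowers, Nat.card_zpowers, orderOf_eq_prime (hQexp a haQ) (fun h => haY (h ▸ one_mem _))]
        exact Nat.le_of_dvd hq.out.pos hdq
      exact hbY₁ (mem_sup_right (heq ▸ hAgen hbA))
    have hAc : IsMulCommutative A := isMulCommutative_mono hAQ
    set U := V' ⊓ centralizer (Y : Set X) with hU
    have hAU : A ≤ normalizer (U : Set X) := by
      refine (le_inf (hAQ.trans hQV') ?_).trans inf_normalizer_le_normalizer_inf
      refine fun g hg => Coprime.le_normalizer_centralizer (A := Q) ?_ (hAQ hg)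
      intro g hg
      refine mem_normalizer_iff.mpr fun y => ?_
      constructor
      · intro hy
        rw [hQab g hg y (hYQ hy), mul_inv_cancel_right]; exact hy
      · intro hy
        have hyQ : y ∈ Q := by
          have := mul_mem (mul_mem (inv_mem hg) (hYQ hy)) hg
          simpa [mul_assoc] using this
        rwa [hQab g hg y hyQ, mul_inv_cancel_right] at hy
    have hcopAU : (Nat.card A).Coprime (Nat.card U) :=
      (hcopQV.coprime_dvd_left (card_dvd_of_le hAQ)).coprime_dvd_right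
        (card_dvd_of_le (inf_le_left.trans hV'V))
    obtain ⟨a', ha', ha'U⟩ : ∃ a' ∈ A, a' ∉ Y ∧ U ⊓ centralizer ({a'} : Set X) ≠ ⊥ := by
      by_contra hall
      push Not at hall
      refine hYne (le_bot_iff.mp ?_)
      rw [← Coprime.iSup_centralizer_eq A U hAcyc hAU hcopAU]
      refine iSup₂_le fun w hw => (hall w hw.1 ?_).le
      intro hwY
      refine hw.2 ?_
      have h : w ∈ Y ⊔ zpowers a := mem_sup_left hwY
      -- `A` meets `Y` trivially
      obtain ⟨i, hi⟩ : ∃ i : ℤ × ℤ, a ^ i.1 * b ^ i.2 = w := by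
        let T : Subgroup X :=
          { carrier := {w | ∃ i : ℤ × ℤ, a ^ i.1 * b ^ i.2 = w}
            one_mem' := ⟨(0, 0), by simp⟩
            mul_mem' := by
              rintro _ _ ⟨i, rfl⟩ ⟨j, rfl⟩
              refine ⟨(i.1 + j.1, i.2 + j.2), ?_⟩
              have hc : Commute (b ^ i.2) (a ^ j.1) := (show Commute b a from hQab b hbQ a haQ).zpow_zpow _ _
              rw [zpow_add, zpow_add, ← mul_assoc (a ^ i.1 * b ^ i.2), mul_assoc (a ^ i.1) (b ^ i.2), hc.eq]
              group
            inv_mem' := by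
              rintro _ ⟨i, rfl⟩
              refine ⟨(-i.1, -i.2), ?_⟩
              have hc : Commute (a ^ i.1) (b ^ i.2) := (show Commute a b from hQab a haQ b hbQ).zpow_zpow _ _
              rw [hc.eq, mul_inv_rev, zpow_neg, zpow_neg] }
        have : A ≤ T := (closure_le _).mpr (by
          rintro w (rfl | rfl)
          · exact ⟨(1, 0), by simp⟩
          · exact ⟨(0, 1), by simp⟩)
        exact this hw.1
      have hbi : b ^ i.2 ∈ Y₁ := by
        rw [show b ^ i.2 = (a ^ i.1)⁻¹ * w by rw [← hi, inv_mul_cancel_left]]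
        exact mul_mem (inv_mem (mem_sup_right (zpow_mem (mem_zpowers a) _))) h
      have hbi1 : b ^ i.2 = 1 := by
        by_contra hne'
        refine hbY₁ ?_
        have heq : zpowers (b ^ i.2) = zpowers b := by
          refine eq_of_le_of_card_ge (zpowers_le.mpr (zpow_mem (mem_zpowers b) _)) ?_
          rw [Nat.card_zpowers, Nat.card_zpowers, orderOf_eq_prime (hQexp _ (zpow_mem hbQ _)) hne']
          exact Nat.le_of_dvd hq.out.pos (orderOf_dvd_of_pow_eq_one (hQexp b hbQ))
        exact (zpowers_le.mpr hbi) (heq.ge (mem_zpowers b))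
      rw [hbi1, mul_one] at hi
      by_contra hw1
      refine haY ?_
      have heq : zpowers w = zpowers a := by
        refine eq_of_le_of_card_ge (zpowers_le.mpr (hi ▸ zpow_mem (mem_zpowers a) _)) ?_
        rw [Nat.card_zpowers, Nat.card_zpowers, orderOf_eq_prime (hQexp w (hYQ hwY)) hw1]
        exact Nat.le_of_dvd hq.out.pos (orderOf_dvd_of_pow_eq_one (hQexp a haQ))
      exact (zpowers_le.mpr hwY) (heq.ge (mem_zpowers a))
    refine ha'U.1 ?_
    have hY' : Y ⊔ zpowers a' ≤ Y := hYmax ⟨sup_le hYQ (zpowers_le.mpr (hAQ ha')), fun h => ha'U.2 (le_bot_iff.mp ?_)⟩ le_sup_left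
    · exact hY' (mem_sup_right (mem_zpowers a'))
    · refine le_trans ?_ h.le
      rw [hU, inf_assoc]
      refine inf_le_inf_left _ (le_centralizer_symm ?_)
      refine sup_le (le_centralizer_symm inf_le_left) ?_
      refine zpowers_le.mpr (mem_centralizer_iff.mpr fun w hw => ?_)
      exact mem_centralizer_singleton_iff.mp hw.2
  -- the action of `P R` on these hyperplanes
  have hQN : ∀ g ∈ P ⊔ R, g ∈ normalizer (Q : Set X) ∧ g ∈ normalizer (V' : Set X) := fun g hg =>
    ⟨(sup_le hPQ hRQ) hg, (sup_le hPV' hRV') hg⟩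
  have hmemc : ∀ {g x : X} {Y : Subgroup X}, x ∈ MulAut.conj g • Y ↔ g⁻¹ * x * g ∈ Y := by
    intro g x Y
    rw [mem_pointwise_smul_iff_inv_smul_mem, ← map_inv, MulAut.smul_def, MulAut.conj_apply, inv_inv]
  have hΩinv : ∀ g ∈ P ⊔ R, ∀ Y ∈ Ω, MulAut.conj g • Y ∈ Ω := by
    intro g hg Y hY
    refine ⟨fun x hx => ?_, ?_, fun h => hY.2.2 ?_⟩
    · have h1 := hY.1 (hmemc.mp hx)
      have := (mem_normalizer_iff.mp (hQN g hg).1 _).mp h1
      simpa [mul_assoc] using this
    · rw [Nat.card_congr (equivSMul (MulAut.conj g) Y).toEquiv.symm, hY.2.1]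
    · rw [eq_bot_iff_forall]
      intro v hv
      have h1 : g * v * g⁻¹ ∈ V' ⊓ centralizer ((MulAut.conj g • Y : Subgroup X) : Set X) := by
        refine ⟨(mem_normalizer_iff.mp (hQN g hg).2 v).mp hv.1, mem_centralizer_iff.mpr fun x hx => ?_⟩
        have h2 := mem_centralizer_iff.mp hv.2 _ (hmemc.mp hx)
        have h3 := congrArg (fun t => g * t * g⁻¹) h2
        beta_reduce at h3
        calc x * (g * v * g⁻¹) = g * (g⁻¹ * x * g * v) * g⁻¹ := by group
          _ = g * (v * (g⁻¹ * x * g)) * g⁻¹ := h3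
          _ = g * v * g⁻¹ * x := by group
      rw [h, mem_bot, mul_inv_eq_one] at h1
      simpa using h1
  obtain ⟨ρ, hρR, hρ1⟩ : ∃ ρ ∈ R, ρ ≠ 1 := by
    by_contra h
    push Not at h
    exact hR1 ((eq_bot_iff_forall R).mpr h)
  have hρr : orderOf ρ = r := by
    haveI := Fact.mk hr
    exact orderOf_eq_prime (by rw [← hR]; exact congrArg Subtype.val (pow_card_eq_one' (x := (⟨ρ, hρR⟩ : R)))) hρ1
  have hρgen : zpowers ρ = R := eq_of_le_of_card_ge (zpowers_le.mpr hρR) (by rw [Nat.card_zpowers, hρr, hR])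
  set cρ : MulAut X := MulAut.conj ρ with hcρ
  have hΩρ : ∀ (i : ℕ), ∀ Y ∈ Ω, cρ ^ i • Y ∈ Ω := fun i Y hY => by
    rw [hcρ, ← map_pow]
    exact hΩinv _ (mem_sup_right (pow_mem hρR i)) Y hY
  have hfree : ∀ Y : Subgroup X, cρ • Y ≠ Y → ∀ i : ℕ, i < r → ∀ j : ℕ, j < r → cρ ^ i • Y = cρ ^ j • Y → i = j := by
    intro Y hY i hi j hj hij
    by_contra hne'
    wlog hlt : i < j generalizing i j
    · exact this j hj i hi hij.symm (Ne.symm hne') (by omega)
    have h1 : cρ ^ (j - i) • Y = Y := by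
      have h2 : cρ ^ i • (cρ ^ (j - i) • Y) = cρ ^ i • Y := by
        rw [← mul_smul, ← pow_add, Nat.add_sub_cancel' hlt.le, hij]
      exact smul_left_cancel _ h2
    have h2 : ρ ^ (j - i) ∈ (MulAction.stabilizer (MulAut X) Y).comap MulAut.conj := by
      show MulAut.conj (ρ ^ (j - i)) • Y = Y
      rw [map_pow]; exact h1
    have h3 : zpowers (ρ ^ (j - i)) = R := by
      refine eq_of_le_of_card_ge (zpowers_le.mpr (pow_mem hρR _)) ?_
      haveI := Fact.mk hr
      rw [Nat.card_zpowers, hR, orderOf_eq_prime (p := r) (by rw [← pow_mul, mul_comm, pow_mul, ← hρr, pow_orderOf_eq_one, one_pow])]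
      intro h
      have := orderOf_dvd_of_pow_eq_one h
      rw [hρr] at this
      have := Nat.le_of_dvd (by omega) this
      omega
    exact hY ((zpowers_le.mpr h2) (h3.ge hρR))
  -- the norm map
  letI : CommGroup V' := { (inferInstance : Group V') with mul_comm := hV'e.1.is_comm.comm }
  let τ : MulAut V' := normalizerMonoidHom V' ⟨ρ, hRV' hρR⟩
  have hτ : ∀ v : V', ((τ v : V') : X) = ρ * v * ρ⁻¹ := fun v => by simp [τ]
  have hτr : τ ^ r = 1 := by
    show normalizerMonoidHom V' _ ^ r = 1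
    rw [← map_pow, show (⟨ρ, hRV' hρR⟩ : normalizer (V' : Set X)) ^ r = 1 from Subtype.ext
      (show ρ ^ r = 1 from hρr ▸ pow_orderOf_eq_one ρ), map_one]
  have hτi : ∀ (i : ℕ) (v : V'), (((τ ^ i) v : V') : X) = ρ ^ i * v * (ρ ^ i)⁻¹ := by
    intro i
    induction i with
    | zero => simp
    | succ i ih' =>
      intro v
      rw [pow_succ', MulAut.mul_apply, hτ, ih', pow_succ']
      group
  have hτC : ∀ (i : ℕ) (Y : Subgroup X) (v : V'), (v : X) ∈ centralizer (Y : Set X) →
      (((τ ^ i) v : V') : X) ∈ centralizer ((cρ ^ i • Y : Subgroup X) : Set X) := by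
    intro i Y v hv
    rw [hτi, mem_centralizer_iff]
    intro x hx
    rw [hcρ, ← map_pow] at hx
    have h2 := mem_centralizer_iff.mp hv _ (hmemc.mp hx)
    have h3 := congrArg (fun t => ρ ^ i * t * (ρ ^ i)⁻¹) h2
    beta_reduce at h3
    calc x * (ρ ^ i * v * (ρ ^ i)⁻¹) = ρ ^ i * ((ρ ^ i)⁻¹ * x * ρ ^ i * v) * (ρ ^ i)⁻¹ := by group
      _ = ρ ^ i * (v * ((ρ ^ i)⁻¹ * x * ρ ^ i)) * (ρ ^ i)⁻¹ := h3
      _ = ρ ^ i * v * (ρ ^ i)⁻¹ * x := by group
  let Nm : V' → V' := fun v => ∏ i ∈ Finset.range r, (τ ^ i) v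
  have hNm : ∀ v, (Nm v : X) ∈ V ⊓ centralizer (R : Set X) := by
    intro v
    refine ⟨hV'V (Nm v).2, ?_⟩
    rw [← hρgen, zpowers_eq_closure, centralizer_closure]
    refine mem_centralizer_singleton_iff.mpr ?_
    have hfix : τ (Nm v) = Nm v := by
      show τ (∏ i ∈ Finset.range r, (τ ^ i) v) = ∏ i ∈ Finset.range r, (τ ^ i) v
      rw [map_prod]
      have h1 : ∀ i, τ ((τ ^ i) v) = (τ ^ (i + 1)) v := fun i => by rw [pow_succ', MulAut.mul_apply]
      simp only [h1]
      have h2 := Finset.prod_range_succ' (fun i => (τ ^ i) v) r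
      rw [Finset.prod_range_succ, hτr, pow_zero] at h2
      exact mul_right_cancel h2.symm
    have h := congrArg Subtype.val hfix
    rw [hτ] at h
    exact (mul_inv_eq_iff_eq_mul.mp h).symm
  -- two orbits of hyperplanes moved by `R` coincide
  have horbit : ∀ Y₁ ∈ Ω, ∀ Y₂ ∈ Ω, cρ • Y₁ ≠ Y₁ → cρ • Y₂ ≠ Y₂ → ∃ i : ℕ, Y₂ = cρ ^ i • Y₁ := by
    intro Y₁ hY₁ Y₂ hY₂ h1 h2
    by_contra hno
    push Not at hno
    have hdisj : ∀ i j : ℕ, i < r → j < r → cρ ^ i • Y₁ ≠ cρ ^ j • Y₂ := by
      intro i j hi hj h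
      apply hno (r - j + i)
      rw [pow_add, mul_smul, h, ← mul_smul, ← pow_add, Nat.sub_add_cancel hj.le, hcρ, ← map_pow,
        show ρ ^ r = 1 from hρr ▸ pow_orderOf_eq_one ρ, map_one, one_smul]
    let U : Subgroup X → Subgroup V' := fun Y => (centralizer (Y : Set X)).subgroupOf V'
    let G : U Y₁ × U Y₂ → ↥(V ⊓ centralizer (R : Set X)) := fun uv =>
      ⟨(Nm uv.1 * Nm uv.2 : V'), mul_mem (hNm uv.1) (hNm uv.2)⟩
    have hinj : Function.Injective G := by
      rintro ⟨u, u'⟩ ⟨w, w'⟩ h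
      have h' : Nm u * Nm u' = Nm w * Nm w' := Subtype.ext (congrArg Subtype.val h :)
      set a : V' := u / w with ha
      set b : V' := u' / w' with hb
      have haC : (a : X) ∈ centralizer (Y₁ : Set X) := div_mem u.2 w.2
      have hbC : (b : X) ∈ centralizer (Y₂ : Set X) := div_mem u'.2 w'.2
      have hNab : Nm a * Nm b = 1 := by
        have hd : ∀ x y : V', Nm (x / y) = Nm x / Nm y := fun x y => by
          simp only [Nm, map_div, Finset.prod_div_distrib]
        rw [ha, hb, hd, hd, div_mul_div_comm, h', div_self']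
      let f : Subgroup X → V' := fun Z =>
        (∏ i ∈ Finset.range r, if cρ ^ i • Y₁ = Z then (τ ^ i) a else 1) *
          (∏ i ∈ Finset.range r, if cρ ^ i • Y₂ = Z then (τ ^ i) b else 1)
      let S : Finset (Subgroup X) := (Finset.range r).image (fun i => cρ ^ i • Y₁) ∪
        (Finset.range r).image (fun i => cρ ^ i • Y₂)
      have hind := eq_one_of_prod_eq_one (q := q) hV'e.1 hQcomm hQV' hCV' f S (by
        intro Z hZ
        have hZΩ : Z ∈ Ω := by
          rcases Finset.mem_union.mp hZ with hZ | hZ <;> obtain ⟨i, -, rfl⟩ := Finset.mem_image.mp hZ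
          · exact hΩρ i _ hY₁
          · exact hΩρ i _ hY₂
        refine ⟨hZΩ.1, hZΩ.2.1, ?_⟩
        show ((f Z : V') : X) ∈ centralizer (Z : Set X)
        have hmem : f Z ∈ (centralizer (Z : Set X)).subgroupOf V' := by
          refine mul_mem (prod_mem fun i _ => ?_) (prod_mem fun i _ => ?_) <;> split_ifs with he
          · exact mem_subgroupOf.mpr (he ▸ hτC i _ a haC)
          · exact one_mem _
          · exact mem_subgroupOf.mpr (he ▸ hτC i _ b hbC)
          · exact one_mem _
        exact hmem) (by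
        show ∏ Z ∈ S, ((∏ i ∈ Finset.range r, if cρ ^ i • Y₁ = Z then (τ ^ i) a else 1) *
          (∏ i ∈ Finset.range r, if cρ ^ i • Y₂ = Z then (τ ^ i) b else 1)) = 1
        rw [Finset.prod_mul_distrib, Finset.prod_comm, Finset.prod_comm (s := S)]
        refine Eq.trans ?_ hNab
        congr 1
        · refine Finset.prod_congr rfl fun i hi => ?_
          rw [Finset.prod_ite_eq, if_pos (Finset.mem_union_left _ (Finset.mem_image_of_mem _ hi))]
        · refine Finset.prod_congr rfl fun i hi => ?_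
          rw [Finset.prod_ite_eq, if_pos (Finset.mem_union_right _ (Finset.mem_image_of_mem _ hi))])
      have h0 : (0 : ℕ) ∈ Finset.range r := Finset.mem_range.mpr hr.pos
      have hfa := hind _ (Finset.mem_union_left _ (Finset.mem_image_of_mem _ h0))
      have hfb := hind _ (Finset.mem_union_right _ (Finset.mem_image_of_mem _ h0))
      have ha1 : a = 1 := by
        simp only [f] at hfa
        rw [Finset.prod_eq_single_of_mem 0 h0 (fun i hi hi0 => if_neg fun he =>
            hi0 (hfree Y₁ h1 i (Finset.mem_range.mp hi) 0 hr.pos he)),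
          if_pos rfl, Finset.prod_eq_one (fun i hi => if_neg fun he =>
            hdisj 0 i hr.pos (Finset.mem_range.mp hi) he.symm), mul_one, pow_zero] at hfa
        exact hfa
      have hb1 : b = 1 := by
        simp only [f] at hfb
        rw [Finset.prod_eq_one (fun i hi => if_neg fun he => hdisj i 0 (Finset.mem_range.mp hi) hr.pos he),
          one_mul, Finset.prod_eq_single_of_mem 0 h0 (fun i hi hi0 => if_neg fun he =>
            hi0 (hfree Y₂ h2 i (Finset.mem_range.mp hi) 0 hr.pos he)),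
          if_pos rfl, pow_zero] at hfb
        exact hfb
      exact Prod.ext (Subtype.ext (div_eq_one.mp ha1)) (Subtype.ext (div_eq_one.mp hb1))
    have hU2 : ∀ Y ∈ Ω, p ≤ Nat.card (U Y) := by
      intro Y hY
      have hne' : U Y ≠ ⊥ := fun h => hY.2.2 (le_bot_iff.mp fun v hv => by
        have hv' : (⟨v, hv.1⟩ : V') ∈ U Y := mem_subgroupOf.mpr hv.2
        rw [h, mem_bot] at hv'
        exact mem_bot.mpr (congrArg Subtype.val hv'))
      exact PGroup.le_card_of_ne_bot (hVp.to_le hV'V) hne'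
    have h4 := Nat.card_le_card_of_injective G hinj
    rw [Nat.card_prod, hCVcard] at h4
    have h5 : p * p ≤ p := (Nat.mul_le_mul (hU2 Y₁ hY₁) (hU2 Y₂ hY₂)).trans h4
    nlinarith
  -- orbits of `P`
  set Pc := P.map (MulAut.conj : X →* MulAut X) with hPc
  have hPcp : IsPGroup p Pc := hP.map _
  have hPΩ : ∀ Y ∈ Ω, MulAction.orbit Pc Y ⊆ Ω := by
    rintro Y hY _ ⟨⟨_, g, hg, rfl⟩, rfl⟩
    exact hΩinv g (mem_sup_left hg) Y hY
  have hPρ : ∀ (i : ℕ) (Y Z : Subgroup X), Z ∈ MulAction.orbit Pc Y → cρ ^ i • Z ∈ MulAction.orbit Pc (cρ ^ i • Y) := by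
    rintro i Y _ ⟨⟨_, g, hg, rfl⟩, rfl⟩
    refine ⟨⟨MulAut.conj (ρ ^ i * g * (ρ ^ i)⁻¹), mem_map_of_mem _
      ((mem_normalizer_iff.mp (hRP (pow_mem hρR i)) g).mp hg)⟩, ?_⟩
    show MulAut.conj (ρ ^ i * g * (ρ ^ i)⁻¹) • (cρ ^ i • Y) = cρ ^ i • (MulAut.conj g • Y)
    rw [← mul_smul, ← mul_smul, hcρ, ← map_pow, ← map_mul, ← map_mul, inv_mul_cancel_right]
  -- a hyperplane normalized by `P` leads to a contradiction
  have hnofix : ∀ Y ∈ Ω, P ≤ normalizer (Y : Set X) →
      (R ≤ normalizer (Y : Set X) ∨ IsCyclic ↥(V' ⊓ centralizer (Y : Set X))) → False := by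
    intro Y hY hPY hcase
    have hQY : Q ≤ normalizer (Y : Set X) := by
      intro g hg
      refine mem_normalizer_iff.mpr fun y => ?_
      constructor
      · intro hy
        rw [hQab g hg y (hY.1 hy), mul_inv_cancel_right]; exact hy
      · intro hy
        have hyQ : y ∈ Q := by
          have := mul_mem (mul_mem (inv_mem hg) (hY.1 hy)) hg
          simpa [mul_assoc] using this
        rwa [hQab g hg y hyQ, mul_inv_cancel_right] at hy
    set U := V' ⊓ centralizer (Y : Set X) with hU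
    have hQU : Q ≤ normalizer (U : Set X) :=
      (le_inf hQV' (Coprime.le_normalizer_centralizer hQY)).trans inf_normalizer_le_normalizer_inf
    have hPU : P ≤ normalizer (U : Set X) :=
      (le_inf hPV' (Coprime.le_normalizer_centralizer hPY)).trans inf_normalizer_le_normalizer_inf
    have hQnU : ¬ Q ≤ centralizer (U : Set X) := fun h => hY.2.2 (le_bot_iff.mp (hCV' ▸ le_inf inf_le_left
      (le_centralizer_symm h)))
    rcases hcase with hRY | hcyc
    · -- `P` acts on `Q / Y` trivially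
      refine hQnU ?_
      have hYn : (Y.subgroupOf Q).Normal := normal_subgroupOf_of_le_normalizer hQY
      have hcycQ : IsCyclic (Q ⧸ Y.subgroupOf Q) := by
        refine isCyclic_of_prime_card (p := q) ?_
        have h1 := (Y.subgroupOf Q).card_mul_index
        rw [Nat.card_congr (subgroupOfEquivOfLe hY.1).toEquiv, ← hY.2.1] at h1
        rw [← index_eq_card]
        exact Nat.eq_of_mul_eq_mul_left Nat.card_pos h1
      let T : Subgroup X :=
        { carrier := {k | k ∈ normalizer (Q : Set X) ∧ k ∈ normalizer (Y : Set X) ∧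
            ∀ u ∈ Q, k * u * k⁻¹ * u⁻¹ ∈ Y}
          one_mem' := ⟨one_mem _, one_mem _, fun u _ => by simp⟩
          mul_mem' := fun {a b} ha hb => ⟨mul_mem ha.1 hb.1, mul_mem ha.2.1 hb.2.1, fun u hu => by
            rw [show a * b * u * (a * b)⁻¹ * u⁻¹ = a * (b * u * b⁻¹ * u⁻¹) * a⁻¹ * (a * u * a⁻¹ * u⁻¹) by group]
            exact mul_mem ((mem_normalizer_iff.mp ha.2.1 _).mp (hb.2.2 u hu)) (ha.2.2 u hu)⟩
          inv_mem' := fun {a} ha => ⟨inv_mem ha.1, inv_mem ha.2.1, fun u hu => by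
            have h1 := (mem_normalizer_iff.mp (inv_mem ha.2.1) _).mp (inv_mem (ha.2.2 u hu))
            rw [inv_inv] at h1 ⊢
            rw [show a⁻¹ * u * a * u⁻¹ = a⁻¹ * (a * u * a⁻¹ * u⁻¹)⁻¹ * a by group]
            exact h1⟩ }
      have hPT : ⁅P, R⁆ ≤ T := by
        rw [commutator_le]
        intro g hg h hh
        have hgN := hPQ hg
        have hhN := hRQ hh
        have hgY := hPY hg
        have hhY := hRY hh
        have hmapn : ∀ k (hk : k ∈ normalizer (Q : Set X)), k ∈ normalizer (Y : Set X) →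
            Y.subgroupOf Q ≤ (Y.subgroupOf Q).comap (normalizerMonoidHom Q ⟨k, hk⟩).toMonoidHom := by
          intro k hk hkY u hu
          rw [mem_comap, mem_subgroupOf]
          simpa using (mem_normalizer_iff.mp hkY u).mp hu
        let σg : Q ⧸ Y.subgroupOf Q →* Q ⧸ Y.subgroupOf Q :=
          QuotientGroup.map _ _ (normalizerMonoidHom Q ⟨g, hgN⟩).toMonoidHom (hmapn g hgN hgY)
        let σh : Q ⧸ Y.subgroupOf Q →* Q ⧸ Y.subgroupOf Q :=
          QuotientGroup.map _ _ (normalizerMonoidHom Q ⟨h, hhN⟩).toMonoidHom (hmapn h hhN hhY)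
        obtain ⟨m, hm⟩ := MonoidHom.map_cyclic σg
        obtain ⟨n, hn⟩ := MonoidHom.map_cyclic σh
        have hcomm : ∀ w, σg (σh w) = σh (σg w) := fun w => by
          rw [hn w, hm (w ^ n), hm w, hn (w ^ m), ← zpow_mul, ← zpow_mul, mul_comm]
        refine ⟨?_, ?_, fun u hu => ?_⟩
        · rw [commutatorElement_def]; exact mul_mem (mul_mem (mul_mem hgN hhN) (inv_mem hgN)) (inv_mem hhN)
        · rw [commutatorElement_def]; exact mul_mem (mul_mem (mul_mem hgY hhY) (inv_mem hgY)) (inv_mem hhY)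
        · have hu' : (h * g)⁻¹ * u * (h * g) ∈ Q := by
            have := (mem_normalizer_iff.mp (mul_mem hhN hgN) ((h * g)⁻¹ * u * (h * g))).mpr (by
              simpa [mul_assoc] using hu)
            exact this
          have h1 := hcomm (QuotientGroup.mk (⟨_, hu'⟩ : Q))
          have h2 : (normalizerMonoidHom Q ⟨g, hgN⟩ (normalizerMonoidHom Q ⟨h, hhN⟩ ⟨_, hu'⟩)) *
              (normalizerMonoidHom Q ⟨h, hhN⟩ (normalizerMonoidHom Q ⟨g, hgN⟩ ⟨_, hu'⟩))⁻¹ ∈ Y.subgroupOf Q := by
            rw [← QuotientGroup.eq_one_iff, QuotientGroup.mk_mul, QuotientGroup.mk_inv, mul_inv_eq_one]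
            exact h1
          rw [mem_subgroupOf] at h2
          simp only [coe_mul, coe_inv, normalizerMonoidHom_apply_apply_coe] at h2
          rw [commutatorElement_def]
          convert h2 using 1
          group
      rw [hPR] at hPT
      have hQPY : ⁅Q, P⁆ ≤ Y := by
        rw [commutator_le]
        intro u hu g hg
        have := inv_mem ((hPT hg).2.2 u hu)
        rw [commutatorElement_def]
        simpa [mul_assoc] using this
      rw [hQP] at hQPY
      exact hQPY.trans (le_centralizer_symm inf_le_right)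
    · exact hQnU (hQP.ge.trans (commutator_le_centralizer_of_isCyclic hcyc hQU hPU))
  have hcard_orbit : ∀ Y : Subgroup X, cρ • Y ≠ Y → ((fun i => cρ ^ i • Y) '' (Set.Iio r)).ncard = r := by
    intro Y hY
    rw [Set.InjOn.ncard_image (s := Set.Iio r) (f := fun i => cρ ^ i • Y) (fun i hi j hj h => hfree Y hY i hi j hj h)]
    rw [Set.ncard_eq_toFinset_card' , Set.toFinset_Iio, Nat.card_Iio]
  have hmodr : ∀ (i : ℕ) (Y : Subgroup X), cρ ^ i • Y = cρ ^ (i % r) • Y := by
    intro i Y
    conv_lhs => rw [← Nat.mod_add_div i r, pow_add, pow_mul, hcρ, ← map_pow MulAut.conj ρ r,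
      show ρ ^ r = 1 from hρr ▸ pow_orderOf_eq_one ρ, map_one, one_pow, mul_one, ← hcρ]
  have hRnorm : ∀ Y : Subgroup X, cρ • Y = Y → R ≤ normalizer (Y : Set X) := by
    intro Y hY
    rw [← hρgen, zpowers_le, mem_normalizer_iff_map_conj_eq]
    exact hY
  have hPnorm : ∀ Y : Subgroup X, MulAction.orbit Pc Y = {Y} → P ≤ normalizer (Y : Set X) := by
    intro Y hY g hg
    rw [mem_normalizer_iff_map_conj_eq]
    have : (⟨MulAut.conj g, mem_map_of_mem _ hg⟩ : Pc) • Y ∈ MulAction.orbit Pc Y := MulAction.mem_orbit Y _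
    rw [hY] at this
    exact this
  by_cases hex : ∃ Y ∈ Ω, cρ • Y = Y
  · -- a hyperplane fixed by `R`
    obtain ⟨Y, hY, hYfix⟩ := hex
    set O := MulAction.orbit Pc Y with hO
    have hYO : Y ∈ O := MulAction.mem_orbit_self Y
    have huniq : ∀ Z ∈ O, cρ • Z = Z → Z = Y := by
      rintro _ ⟨⟨_, g, hg, rfl⟩, rfl⟩ hZ
      change MulAut.conj g • Y = Y
      have hZ' : cρ • (MulAut.conj g • Y) = MulAut.conj g • Y := hZ
      set M := P ⊓ normalizer (Y : Set X) with hM
      have hRY := hRnorm Y hYfix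
      have hRM : R ≤ normalizer (M : Set X) :=
        (le_inf hRP (Coprime.le_normalizer_normalizer hRY)).trans inf_normalizer_le_normalizer_inf
      have hfix : ∀ a ∈ R, g⁻¹ * (a * g * a⁻¹) ∈ M := by
        intro a ha
        refine mem_inf.mpr ⟨mul_mem (inv_mem hg) ((mem_normalizer_iff.mp (hRP ha) g).mp hg), ?_⟩
        have h1 : a ∈ normalizer ((MulAut.conj g • Y : Subgroup X) : Set X) := hRnorm _ hZ' ha
        rw [mem_normalizer_iff_map_conj_eq] at h1 ⊢
        have h2 : MulAut.conj a • (MulAut.conj g • Y) = MulAut.conj g • Y := h1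
        have h3 : MulAut.conj a⁻¹ • Y = Y := mem_normalizer_iff_map_conj_eq.mp (hRY (inv_mem ha))
        show MulAut.conj (g⁻¹ * (a * g * a⁻¹)) • Y = Y
        rw [map_mul, map_mul, map_mul, mul_smul, mul_smul, mul_smul, h3, h2, ← mul_smul, ← map_mul,
          inv_mul_cancel, map_one, one_smul]
      obtain ⟨m, hm, hgm⟩ := Coprime.exists_fixed_in_coset R M hRM
        (hcopRP.coprime_dvd_right (card_dvd_of_le inf_le_left))
        (Or.inr (Coprime.isSolvable_of_isNilpotent' (hP.to_le inf_le_left).isNilpotent)) g hfix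
      have : g * m ∈ P ⊓ centralizer (R : Set X) := mem_inf.mpr ⟨mul_mem hg hm.1, hgm⟩
      rw [hCPR, mem_bot, mul_eq_one_iff_eq_inv] at this
      rw [this]
      exact mem_normalizer_iff_map_conj_eq.mp (inv_mem hm.2)
    obtain ⟨k, hk⟩ := hPcp.card_orbit Y
    have hOne : O ≠ {Y} := fun h => hnofix Y hY (hPnorm Y h) (Or.inl (hRnorm Y hYfix))
    obtain ⟨Z, hZO, hZY⟩ : ∃ Z ∈ O, Z ≠ Y := by
      by_contra h
      push Not at h
      exact hOne (Set.eq_singleton_iff_unique_mem.mpr ⟨hYO, h⟩)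
    have hZfree : cρ • Z ≠ Z := fun h => hZY (huniq Z hZO h)
    have hinvO : ∀ i : ℕ, ∀ W ∈ O, cρ ^ i • W ∈ O := by
      intro i W hW
      have h1 := hPρ i Y W hW
      have h2 : cρ ^ i • Y = Y := by
        induction i with
        | zero => simp
        | succ i ihi =>
          rw [pow_succ', mul_smul, ihi (hPρ i Y W hW), hYfix]
      rwa [h2] at h1
    have heq : O \ {Y} = (fun i => cρ ^ i • Z) '' (Set.Iio r) := by
      ext W
      constructor
      · rintro ⟨hWO, hWY⟩
        have hWfree : cρ • W ≠ W := fun h => hWY (huniq W hWO h)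
        obtain ⟨i, rfl⟩ := horbit Z (hPΩ Y hY hZO) W (hPΩ Y hY hWO) hZfree hWfree
        exact ⟨i % r, Nat.mod_lt _ hr.pos, (hmodr i Z).symm⟩
      · rintro ⟨i, -, rfl⟩
        refine ⟨hinvO i Z hZO, fun h => hZY ?_⟩
        have h1 : cρ ^ i • Z = cρ ^ i • Y := by
          have h' : cρ ^ i • Z = Y := h
          rw [h']
          clear h h' hinvO
          induction i with
          | zero => simp
          | succ i ihi => rw [pow_succ', mul_smul, ← ihi, hYfix]
        exact smul_left_cancel _ h1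
    have h1 : (O \ {Y}).ncard = r := heq ▸ hcard_orbit Z hZfree
    rw [Set.ncard_diff_singleton_of_mem hYO, ← Nat.card_coe_set_eq, hk] at h1
    have hodd1 : Odd (p ^ k) := (hp.out.odd_of_ne_two hp2).pow
    obtain ⟨a, ha⟩ := hodd1
    obtain ⟨b, hb⟩ := hr.odd_of_ne_two hr2
    omega
  · push Not at hex
    have hYfree := hex Y₀ hY₀
    have hΩeq : Ω = (fun i => cρ ^ i • Y₀) '' (Set.Iio r) := by
      ext W
      constructor
      · intro hW
        obtain ⟨i, rfl⟩ := horbit Y₀ hY₀ W hW hYfree (hex W hW)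
        exact ⟨i % r, Nat.mod_lt _ hr.pos, (hmodr i Y₀).symm⟩
      · rintro ⟨i, -, rfl⟩
        exact hΩρ i Y₀ hY₀
    set O := MulAction.orbit Pc Y₀ with hO
    have hYO : Y₀ ∈ O := MulAction.mem_orbit_self Y₀
    obtain ⟨k, hk⟩ := hPcp.card_orbit Y₀
    have hOΩ := hPΩ Y₀ hY₀
    by_cases hOne : O = {Y₀}
    · refine hnofix Y₀ hY₀ (hPnorm Y₀ hOne) (Or.inr ?_)
      -- its fixed space has order `p`
      set U := V' ⊓ centralizer (Y₀ : Set X) with hU
      let G : U → ↥(V ⊓ centralizer (R : Set X)) := fun u => ⟨(Nm ⟨u, u.2.1⟩ : X), hNm _⟩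
      have hinj : Function.Injective G := by
        intro u w h
        have h' : Nm ⟨u, u.2.1⟩ = Nm ⟨w, w.2.1⟩ := Subtype.ext (congrArg Subtype.val h :)
        set a : V' := ⟨u, u.2.1⟩ / ⟨w, w.2.1⟩ with ha
        have haC : (a : X) ∈ centralizer (Y₀ : Set X) := div_mem u.2.2 w.2.2
        have hNa : Nm a = 1 := by
          have hd : ∀ x y : V', Nm (x / y) = Nm x / Nm y := fun x y => by
            simp only [Nm, map_div, Finset.prod_div_distrib]
          rw [ha, hd, h', div_self']
        let f : Subgroup X → V' := fun Z => ∏ i ∈ Finset.range r, if cρ ^ i • Y₀ = Z then (τ ^ i) a else 1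
        have hind := eq_one_of_prod_eq_one (q := q) hV'e.1 hQcomm hQV' hCV' f
          ((Finset.range r).image fun i => cρ ^ i • Y₀) (by
          intro Z hZ
          obtain ⟨i, -, rfl⟩ := Finset.mem_image.mp hZ
          refine ⟨(hΩρ i _ hY₀).1, (hΩρ i _ hY₀).2.1, ?_⟩
          have hmem : f (cρ ^ i • Y₀) ∈ (centralizer ((cρ ^ i • Y₀ : Subgroup X) : Set X)).subgroupOf V' := by
            refine prod_mem fun j _ => ?_
            split_ifs with he
            · exact mem_subgroupOf.mpr (he ▸ hτC j _ a haC)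
            · exact one_mem _
          exact hmem) (by
          show ∏ Z ∈ _, ∏ i ∈ Finset.range r, (if cρ ^ i • Y₀ = Z then (τ ^ i) a else 1) = 1
          rw [Finset.prod_comm]
          refine Eq.trans ?_ hNa
          refine Finset.prod_congr rfl fun i hi => ?_
          rw [Finset.prod_ite_eq, if_pos (Finset.mem_image_of_mem _ hi)])
        have h0 : (0 : ℕ) ∈ Finset.range r := Finset.mem_range.mpr hr.pos
        have hfa := hind _ (Finset.mem_image_of_mem _ h0)
        simp only [f] at hfa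
        rw [Finset.prod_eq_single_of_mem 0 h0 (fun i hi hi0 => if_neg fun he =>
            hi0 (hfree Y₀ hYfree i (Finset.mem_range.mp hi) 0 hr.pos he)),
          if_pos rfl, pow_zero] at hfa
        have := div_eq_one.mp hfa
        exact Subtype.ext (congrArg (fun t : V' => (t : X)) this)
      have hle := Nat.card_le_card_of_injective G hinj
      rw [hCVcard] at hle
      refine isCyclic_of_prime_card (p := p) (le_antisymm hle ?_)
      have hUne : U ≠ ⊥ := hY₀.2.2
      obtain ⟨e, he⟩ := IsPGroup.iff_card.mp (hVp.to_le (inf_le_left.trans hV'V : U ≤ V))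
      rcases e with _ | e
      · exact absurd (U.eq_bot_of_card_eq (he.trans (pow_zero p))) hUne
      · rw [he]; exact Nat.le_self_pow e.succ_ne_zero p
    · obtain ⟨Z, hZO, hZY⟩ : ∃ Z ∈ O, Z ≠ Y₀ := by
        by_contra h
        push Not at h
        exact hOne (Set.eq_singleton_iff_unique_mem.mpr ⟨hYO, h⟩)
      obtain ⟨i, hi, rfl⟩ := hΩeq.le (hOΩ hZO)
      have hi0 : i ≠ 0 := fun h => hZY (by simp [h])
      have hstep : ∀ m : ℕ, cρ ^ (i * m) • Y₀ ∈ O := by
        intro m
        induction m with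
        | zero => simpa using hYO
        | succ m ihm =>
          rw [Nat.mul_succ, Nat.add_comm, pow_add, mul_smul]
          have := hPρ i _ _ ihm
          rwa [MulAction.orbit_eq_iff.mpr hZO] at this
      have hall : Ω ⊆ O := by
        rw [hΩeq]
        rintro _ ⟨j, hj, rfl⟩
        have hcop : Nat.Coprime i r := Nat.Coprime.symm (hr.coprime_iff_not_dvd.mpr fun h =>
          hi0 (Nat.eq_zero_of_dvd_of_lt h hi))
        obtain ⟨m, hm⟩ := Nat.exists_mul_mod_eq_one_of_coprime hcop hr.one_lt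
        have h2 := hstep (m * j)
        rw [hmodr, ← mul_assoc, Nat.mul_mod, hm.2, one_mul, Nat.mod_mod, ← hmodr] at h2
        exact h2
      have hOeq : O = Ω := le_antisymm hOΩ hall
      have h1 : O.ncard = r := by rw [hOeq, hΩeq]; exact hcard_orbit Y₀ hYfree
      rw [← Nat.card_coe_set_eq, hk] at h1
      rcases k with _ | k
      · exact hr.ne_one (h1.symm.trans (pow_zero p))
      · have : p ∣ r := h1 ▸ dvd_pow_self p k.succ_ne_zero
        exact hpr ((Nat.prime_dvd_prime_iff_eq hp.out hr).mp this)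

end Cfsg.Agent.OddLocal43
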