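import Cfsg.Agent.OddLocal43.RankTwo
import Cfsg.Agent.Lib.Coprime.Action
import Cfsg.Agent.Lib.PGroup.OmegaSmallClass
import Cfsg.Agent.Lib.PGroup.NormalRankTwo

/-!
# The elements of order `p` in a `p`-group of rank two, `3 < p`

They form a subgroup of exponent `p` and order at most `p ^ 3`; when that order is at most `p ^ 2`
the property passes to the quotient by this subgroup.
-/

set_option autoImplicit false

namespace Cfsg.Agent.OddLocal43

open Subgroup
open scoped commutatorElement

variable {p : ℕ} [hp : Fact p.Prime]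

/-- Commuting with the whole group strictly shrinks a non-trivial normal subgroup. -/
theorem commutator_top_lt {R : Type*} [Group R] [Finite R] (hR : IsPGroup p R) {N : Subgroup R}
    [N.Normal] (hN : N ≠ ⊥) : ⁅N, (⊤ : Subgroup R)⁆ < N := by
  refine lt_of_le_of_ne (commutator_le_left _ _) fun h => hN ?_
  have := hR.isNilpotent
  exact Coprime.eq_bot_of_le_commutator ⊤ ((Group.isNilpotent_congr topEquiv).mpr this) le_top h.ge

/-- A group of order at most `p ^ 4` has class at most three. -/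
theorem classThree_of_card_le {R : Type*} [Group R] [Finite R] (hR : IsPGroup p R)
    (hcard : Nat.card R ≤ p ^ 4) :
    ⁅⁅commutator R, (⊤ : Subgroup R)⁆, (⊤ : Subgroup R)⁆ = ⊥ := by
  by_cases hcyc : IsCyclic R
  · have : commutator R = ⊥ := by
      rw [_root_.commutator_def, eq_bot_iff, commutator_le]
      exact fun a _ b _ => mem_bot.mpr
        (commutatorElement_eq_one_iff_mul_comm.mpr (PGroup.mul_comm_of_cyclic a b))
    rw [this, commutator_bot_left, commutator_bot_left]
  have hidx : p ^ 2 ≤ (frattini R).index := by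
    obtain ⟨n, hn⟩ := hR.index (frattini R)
    rw [hn]
    refine Nat.pow_le_pow_right hp.out.pos ?_
    by_contra hlt
    refine hcyc (PGroup.isCyclic_of_index_frattini_le hR ?_)
    calc (frattini R).index = p ^ n := hn
      _ ≤ p ^ 1 := Nat.pow_le_pow_right hp.out.pos (by omega)
      _ = p := pow_one p
  have h1 : Nat.card (commutator R) ≤ p ^ 2 := by
    refine (card_le_of_le (PGroup.commutator_le_frattini hR)).trans ?_
    refine Nat.le_of_mul_le_mul_right ?_ (pow_pos hp.out.pos 2)
    calc Nat.card (frattini R) * p ^ 2 ≤ Nat.card (frattini R) * (frattini R).index :=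
          Nat.mul_le_mul_left _ hidx
      _ = Nat.card R := card_mul_index _
      _ ≤ p ^ 2 * p ^ 2 := by rw [← pow_add]; exact hcard
  by_contra hne
  have hlt : ∀ {N : Subgroup R} [N.Normal], N ≠ ⊥ →
      p * Nat.card ↥⁅N, (⊤ : Subgroup R)⁆ ≤ Nat.card N := fun {N} _ hN =>
    mul_le_card_of_lt hp.out (hR.to_subgroup N) (commutator_top_lt hR hN)
  have hne2 : ⁅commutator R, (⊤ : Subgroup R)⁆ ≠ ⊥ := fun h => hne (by rw [h, commutator_bot_left])
  have hne1 : commutator R ≠ ⊥ := fun h => hne2 (by rw [h, commutator_bot_left])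
  have h2 := hlt hne1
  have h3 := hlt hne2
  have h4 : p ≤ Nat.card ↥⁅⁅commutator R, (⊤ : Subgroup R)⁆, (⊤ : Subgroup R)⁆ :=
    PGroup.le_card_of_ne_bot hR hne
  have h5 : p * (p * p) ≤ p ^ 2 :=
    calc p * (p * p) ≤ p * (p * Nat.card ↥⁅⁅commutator R, (⊤ : Subgroup R)⁆, (⊤ : Subgroup R)⁆) :=
          Nat.mul_le_mul_left _ (Nat.mul_le_mul_left _ h4)
      _ ≤ p * Nat.card ↥⁅commutator R, (⊤ : Subgroup R)⁆ := Nat.mul_le_mul_left _ h3
      _ ≤ Nat.card (commutator R) := h2
      _ ≤ p ^ 2 := h1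
  nlinarith [hp.out.two_le]

/-- Rank two and exponent `p` bound the order by `p ^ 3`. -/
theorem card_le_cube_of_exponent {R : Type*} [Group R] [Finite R] (hp2 : p ≠ 2)
    (hr : Cfsg.PRankLE p 2 R) (hexp : ∀ x : R, x ^ p = 1) : Nat.card R ≤ p ^ 3 := by
  have hR : IsPGroup p R := fun x => ⟨1, by rw [pow_one]; exact hexp x⟩
  have habel : IsMulCommutative R → Nat.card R ≤ p ^ 3 := fun h => by
    rw [← card_top]
    exact (hr ⊤ ⟨⟨fun a b => Subtype.ext (h.is_comm.comm (a : R) b)⟩⟩ fun a _ => hexp a).trans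
      (Nat.pow_le_pow_right hp.out.pos (by norm_num))
  by_cases hcyc : IsCyclic R
  · exact habel ⟨⟨PGroup.mul_comm_of_cyclic⟩⟩
  obtain ⟨E, hEn, hEc, -, hEcard⟩ := PGroup.exists_normal_elementary_sq hR hp2 hcyc
  have hEbot : E ≠ ⊥ := fun h => by
    rw [h, card_bot] at hEcard
    exact (Nat.one_lt_pow two_ne_zero hp.out.one_lt).ne hEcard
  obtain ⟨z, hzE, hz1⟩ : ∃ z, z ∈ E ⊓ center R ∧ z ≠ 1 := by
    have h := PGroup.inf_center_ne_bot hR hEbot
    rw [Ne, eq_bot_iff_forall] at h
    push Not at h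
    exact h
  obtain ⟨w, hwE, hwz⟩ : ∃ w ∈ E, w ∉ zpowers z := by
    by_contra h
    push Not at h
    have := card_le_of_le (show E ≤ zpowers z from h)
    rw [hEcard, Nat.card_zpowers, orderOf_eq_prime (hexp z) hz1] at this
    nlinarith [hp.out.two_le]
  set Cw := centralizer ({w} : Set R) with hCw
  have hCE : Cw ≤ E := by
    intro c hc
    have hzc : ∀ g, z * g = g * z := fun g => (mem_center_iff.mp hzE.2 g).symm
    have hwc : c * w = w * c := mem_centralizer_singleton_iff.mp hc
    have h1 : IsMulCommutative ↥(closure ({z, w, c} : Set R)) := isMulCommutative_closure_of_comm (by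
      have hzw := hzc w
      have hzc' := hzc c
      rintro a ha b hb
      simp only [Set.mem_insert_iff, Set.mem_singleton_iff] at ha hb
      rcases ha with rfl | rfl | rfl <;> rcases hb with rfl | rfl | rfl <;>
        first | rfl | exact hzw | exact hzw.symm | exact hzc' | exact hzc'.symm | exact hwc | exact hwc.symm)
    have h2 := hr _ h1 fun a _ => hexp a
    have h3 : closure ({z, w} : Set R) = E := by
      refine eq_of_le_of_card_ge ((closure_le _).mpr (by rintro a (rfl | rfl); exacts [hzE.1, hwE])) ?_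
      rw [hEcard]
      have hlt : zpowers z < closure ({z, w} : Set R) := lt_of_le_of_ne
        (zpowers_le.mpr (subset_closure (Set.mem_insert _ _))) fun h =>
          hwz (h ▸ subset_closure (Set.mem_insert_of_mem _ rfl))
      have := mul_le_card_of_lt hp.out (hR.to_subgroup _) hlt
      rwa [Nat.card_zpowers, orderOf_eq_prime (hexp z) hz1, ← sq] at this
    have h4 : closure ({z, w} : Set R) = closure ({z, w, c} : Set R) := by
      refine eq_of_le_of_card_ge (closure_mono ?_) ?_
      · rintro a (rfl | rfl) <;> simp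
      · rw [h3, hEcard]; exact h2
    rw [← h3, h4]
    exact subset_closure (by simp)
  set L := ⁅E, (⊤ : Subgroup R)⁆ with hL
  have hLcard : Nat.card L ≤ p := by
    have := mul_le_card_of_lt hp.out (hR.to_subgroup E) (commutator_top_lt hR hEbot)
    rw [hEcard, sq] at this
    exact Nat.le_of_mul_le_mul_left this hp.out.pos
  have hidx : Cw.index ≤ p := by
    refine le_trans ?_ hLcard
    rw [index_eq_card]
    refine Nat.card_le_card_of_injective
      (fun q => (⟨⁅w, Quotient.out q⁆, commutator_mem_commutator hwE (mem_top _)⟩ : L)) ?_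
    intro a b hab
    have h1 : ⁅w, Quotient.out a⁆ = ⁅w, Quotient.out b⁆ := congrArg Subtype.val hab
    rw [← QuotientGroup.out_eq' a, ← QuotientGroup.out_eq' b, QuotientGroup.eq]
    refine mem_centralizer_singleton_iff.mpr ?_
    rw [commutatorElement_def, commutatorElement_def] at h1
    simp only [mul_assoc] at h1
    have h2 := mul_left_cancel h1
    calc (Quotient.out a)⁻¹ * Quotient.out b * w
        = (Quotient.out a)⁻¹ * ((Quotient.out b * (w⁻¹ * (Quotient.out b)⁻¹))⁻¹ * Quotient.out b) := by group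
      _ = w * ((Quotient.out a)⁻¹ * Quotient.out b) := by rw [← h2]; group
  calc Nat.card R = Nat.card Cw * Cw.index := (card_mul_index _).symm
    _ ≤ p ^ 2 * p := Nat.mul_le_mul (hEcard ▸ card_le_of_le hCE) hidx
    _ = p ^ 3 := by ring

/-- Two elements of order `p` of a rank two `p`-group, `3 < p`, have product of order dividing `p`. -/
theorem mul_pow_eq_one_rankTwo_aux (hp3 : 3 < p) (n : ℕ) :
    ∀ {R : Type*} [Group R] [Finite R], Nat.card R ≤ n → IsPGroup p R → Cfsg.PRankLE p 2 R →
      ∀ x y : R, x ^ p = 1 → y ^ p = 1 → (x * y) ^ p = 1 := by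
  induction n using Nat.strong_induction_on with
  | _ n ih =>
  intro R _ _ hn hR hr x y hx hy
  have hsub : ∀ H : Subgroup R, H ≠ ⊤ → ∀ a ∈ H, ∀ b ∈ H, a ^ p = 1 → b ^ p = 1 → (a * b) ^ p = 1 := by
    intro H hH a ha b hb hap hbp
    have hlt : Nat.card H < n := ((card_le_card_group H).lt_of_ne fun h =>
      hH (eq_top_of_card_eq H h)).trans_le hn
    exact congrArg Subtype.val (ih _ hlt le_rfl (hR.to_subgroup H) (prankLE_of_injective H.subtype H.subtype_injective hr)
      (⟨a, ha⟩ : H) ⟨b, hb⟩ (Subtype.ext hap) (Subtype.ext hbp))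
  by_cases hxy : closure ({x, y} : Set R) = ⊤
  swap
  · exact hsub _ hxy x (subset_closure (by simp)) y (subset_closure (by simp)) hx hy
  by_cases hxtop : zpowers x = ⊤
  · have hc : Commute x y := by
      obtain ⟨k, hk⟩ := mem_zpowers_iff.mp (hxtop.ge (mem_top y))
      rw [← hk]; exact Commute.self_zpow x k
    rw [hc.mul_pow, hx, hy, one_mul]
  obtain ⟨M, hxM, hMn, hMidx⟩ := PGroup.exists_le_index_eq_prime hR hxtop
  have hMne : M ≠ ⊤ := fun h => by rw [h, index_top] at hMidx; exact hp.out.ne_one hMidx.symm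
  set V := closure {m : R | m ∈ M ∧ m ^ p = 1} with hV
  have hVexp : ∀ m ∈ V, m ∈ M ∧ m ^ p = 1 := by
    intro m hm
    induction hm using closure_induction with
    | mem a ha => exact ha
    | one => exact ⟨one_mem _, one_pow p⟩
    | mul a b _ _ ha hb => exact ⟨mul_mem ha.1 hb.1, hsub M hMne a ha.1 b hb.1 ha.2 hb.2⟩
    | inv a _ ha => exact ⟨inv_mem ha.1, by rw [inv_pow, ha.2, inv_one]⟩
  have hVn : V.Normal := ⟨fun m hm g => subset_closure
    ⟨hMn.conj_mem m (hVexp m hm).1 g, by rw [conj_pow, (hVexp m hm).2, mul_one, mul_inv_cancel]⟩⟩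
  have hVcard : Nat.card V ≤ p ^ 3 :=
    card_le_cube_of_exponent (by omega) (prankLE_of_injective V.subtype V.subtype_injective hr)
      fun v => Subtype.ext (hVexp v v.2).2
  have hsup : V ⊔ zpowers y = ⊤ := by
    rw [eq_top_iff, ← hxy, closure_le]
    rintro a (rfl | rfl)
    · exact mem_sup_left (subset_closure ⟨hxM (mem_zpowers _), hx⟩)
    · exact mem_sup_right (mem_zpowers _)
  have hcard : Nat.card R ≤ p ^ 4 := by
    have hsurj : Function.Surjective (fun uv : V × zpowers y => (uv.1 : R) * uv.2) := by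
      intro g
      obtain ⟨u, hu, v, hv, rfl⟩ := mem_sup_of_normal_left.mp (hsup ▸ mem_top g)
      exact ⟨(⟨u, hu⟩, ⟨v, hv⟩), rfl⟩
    refine (Nat.card_le_card_of_surjective _ hsurj).trans ?_
    rw [Nat.card_prod, Nat.card_zpowers]
    calc Nat.card V * orderOf y ≤ p ^ 3 * p :=
          Nat.mul_le_mul hVcard (Nat.le_of_dvd hp.out.pos (orderOf_dvd_of_pow_eq_one hy))
      _ = p ^ 4 := by ring
  exact PGroup.pow_eq_one_mul_classThree (classThree_of_card_le hR hcard) hp.out hp3 hx hy

variable {R : Type*} [Group R] [Finite R]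

theorem mul_pow_eq_one_rankTwo (hp3 : 3 < p) (hR : IsPGroup p R) (hr : Cfsg.PRankLE p 2 R)
    {x y : R} (hx : x ^ p = 1) (hy : y ^ p = 1) : (x * y) ^ p = 1 :=
  mul_pow_eq_one_rankTwo_aux hp3 _ le_rfl hR hr x y hx hy

/-- The subgroup of elements of order dividing `p`. -/
def omegaRankTwo (hp3 : 3 < p) (hR : IsPGroup p R) (hr : Cfsg.PRankLE p 2 R) : Subgroup R where
  carrier := {x | x ^ p = 1}
  one_mem' := one_pow p
  mul_mem' := fun {_ _} hx hy => mul_pow_eq_one_rankTwo hp3 hR hr hx hy
  inv_mem' := fun {x} (hx : x ^ p = 1) => by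
    show x⁻¹ ^ p = 1
    rw [inv_pow, hx, inv_one]

@[simp] theorem mem_omegaRankTwo (hp3 : 3 < p) (hR : IsPGroup p R) (hr : Cfsg.PRankLE p 2 R) {x : R} :
    x ∈ omegaRankTwo hp3 hR hr ↔ x ^ p = 1 := Iff.rfl

theorem omegaRankTwo_characteristic (hp3 : 3 < p) (hR : IsPGroup p R) (hr : Cfsg.PRankLE p 2 R) :
    (omegaRankTwo hp3 hR hr).Characteristic :=
  characteristic_iff_le_comap.mpr fun σ x (hx : x ^ p = 1) => by
    show σ x ^ p = 1
    rw [← map_pow, hx, map_one]

theorem card_omegaRankTwo_le (hp3 : 3 < p) (hR : IsPGroup p R) (hr : Cfsg.PRankLE p 2 R) :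
    Nat.card (omegaRankTwo hp3 hR hr) ≤ p ^ 3 :=
  card_le_cube_of_exponent (by omega) (prankLE_of_injective _ (Subgroup.subtype_injective _) hr)
    fun v => Subtype.ext v.2

end Cfsg.Agent.OddLocal43
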